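import Cfsg.Agent.Lib.Char.FeitDegree.Data
import Cfsg.Agent.Lib.Char.Integral
import Mathlib.GroupTheory.GroupAction.Quotient
import Mathlib.Analysis.Complex.Polynomial.Basic
import Mathlib.LinearAlgebra.Trace

/-!
# The centraliser of the element of order `p` acts by scalars

A `p'`-subgroup centralising the element and normalised by its normaliser has an invariant linear
constituent, and a congruence between central characters makes it the only one.
-/

set_option autoImplicit false

namespace CfsgLib.Char.FeitDegree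

open CfsgLib.CharAction Finset
open scoped Classical ComplexConjugate

variable {p : ℕ} [hp : Fact p.Prime]

theorem congMod_cancel {c : ℕ} (hc : ¬ p ∣ c) {x y : ℂ} (hx : IsIntegral ℤ x) (hy : IsIntegral ℤ y)
    (h : CongMod p ((c : ℂ) * x) ((c : ℂ) * y)) : CongMod p x y := by
  obtain ⟨a, ha, he⟩ := h
  obtain ⟨s, t, hst⟩ : IsCoprime (c : ℤ) (p : ℤ) :=
    (Nat.isCoprime_iff_coprime.2 ((hp.out.coprime_iff_not_dvd.2 hc).symm))
  have hst' : (s : ℂ) * (c : ℂ) + (t : ℂ) * (p : ℂ) = 1 := by exact_mod_cast congrArg (Int.cast (R := ℂ)) hst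
  refine ⟨(s : ℂ) * a + (t : ℂ) * (x - y), ?_, ?_⟩
  · exact ((isIntegral_algebraMap (R := ℤ) (A := ℂ) (x := s)).mul ha).add
      ((isIntegral_algebraMap (R := ℤ) (A := ℂ) (x := t)).mul (hx.sub hy))
  · linear_combination (s : ℂ) * he - (x - y) * hst'

theorem isIntegral_conj {x : ℂ} (h : IsIntegral ℤ x) : IsIntegral ℤ (conj x) :=
  h.map (starRingEnd ℂ).toIntAlgHom

theorem isIntegral_nat (k : ℕ) : IsIntegral ℤ ((k : ℕ) : ℂ) := by
  simpa using isIntegral_algebraMap (R := ℤ) (A := ℂ) (x := (k : ℤ))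

theorem fourier {ω : ℂ} (hω : IsPrimitiveRoot ω p) {ι : Type*} [Fintype ι] (ε : ι → ℂ)
    (hε : ∀ i, ε i ^ p = 1) (x : ℕ) :
    ∑ j ∈ Finset.range p, (ω ^ (x * j))⁻¹ * ∑ i, ε i ^ j =
      (p : ℂ) * ((Finset.univ.filter fun i => ε i = ω ^ x).card : ℂ) := by
  have hω0 : ω ≠ 0 := hω.ne_zero hp.out.ne_zero
  simp only [Finset.mul_sum]
  rw [Finset.sum_comm, Finset.card_filter, Nat.cast_sum, Finset.mul_sum]
  refine Finset.sum_congr rfl fun i _ => ?_
  have h1 : ∀ j, (ω ^ (x * j))⁻¹ * ε i ^ j = ((ω ^ x)⁻¹ * ε i) ^ j := fun j => by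
    rw [mul_pow, inv_pow, ← pow_mul]
  simp only [h1]
  split_ifs with h
  · rw [h, inv_mul_cancel₀ (pow_ne_zero _ hω0)]
    simp
  · have hne : (ω ^ x)⁻¹ * ε i ≠ 1 := fun h2 => h ((inv_mul_eq_one₀ (pow_ne_zero _ hω0)).1 h2).symm
    have h2 := geom_sum_mul ((ω ^ x)⁻¹ * ε i) p
    rw [mul_pow, inv_pow, ← pow_mul, mul_comm x p, pow_mul, hω.pow_eq_one, one_pow, inv_one, one_mul, hε,
      sub_self] at h2
    rw [(mul_eq_zero.1 h2).resolve_right (sub_ne_zero.2 hne)]
    simp

variable {G : Type*} [Group G] [Fintype G] {P : Sylow p G} {u : G} {ζ : Cfsg.IrrCharacter G}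

namespace Data

variable (D : Data P u ζ)
include D

/-- An eigenvalue of multiplicity one gives a linear constituent on the centraliser. -/
theorem exists_linear {ω : ℂ} (hω : IsPrimitiveRoot ω p) {r : Fin (p - 2) → ZMod p}
    (hr : ∀ j : ℕ, (ζ : G → ℂ) (u ^ j) = ∑ i, ω ^ ((r i).val * j)) {x : ZMod p}
    (hx : (Finset.univ.filter fun i => r i = x).card = 1)
    (A : Subgroup G) (hA : A ≤ Subgroup.centralizer ({u} : Set G)) :
    ∃ η : A →* ℂˣ, ∑ a : A, (ζ : G → ℂ) (a : G) * conj ((η a : ℂ)) ≠ 0 := by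
  obtain ⟨n, ρ, hρ⟩ := IsIrr.isCharacter ζ.2
  obtain ⟨b, ε, hb, hε⟩ := exists_eigenbasis ρ u
  rw [D.ord] at hε
  have hω0 : ω ≠ 0 := hω.ne_zero hp.out.ne_zero
  have hrx : ∀ i, (ω ^ (r i).val = ω ^ x.val) ↔ r i = x := fun i =>
    ⟨fun h => ZMod.val_injective p (hω.pow_inj (ZMod.val_lt _) (ZMod.val_lt _) h), fun h => by rw [h]⟩
  have hcard : (Finset.univ.filter fun i => ε i = ω ^ x.val).card = 1 := by
    have h1 := fourier hω ε hε x.val
    have h2 := fourier hω (fun i => ω ^ (r i).val)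
      (fun i => by rw [← pow_mul, mul_comm, pow_mul, hω.pow_eq_one, one_pow]) x.val
    have h3 : ∀ j : ℕ, ∑ i, ε i ^ j = ∑ i, (ω ^ (r i).val) ^ j := by
      intro j
      simp only [← pow_mul, ← hr, ← hρ]
      have hj : ∀ i, ρ (u ^ j) (b i) = ε i ^ j • b i := fun i => by
        rw [map_pow]
        induction j with
        | zero => simp
        | succ k ih => rw [pow_succ', Module.End.mul_apply, ih, map_smul, hb, smul_smul, pow_succ]
      symm
      show LinearMap.trace ℂ _ (ρ (u ^ j)) = _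
      rw [LinearMap.trace_eq_matrix_trace ℂ b, Matrix.trace]
      refine Finset.sum_congr rfl fun i _ => ?_
      rw [Matrix.diag_apply, LinearMap.toMatrix_apply, hj, map_smul, b.repr_self, Finsupp.smul_single,
        Finsupp.single_eq_same, smul_eq_mul, mul_one]
    rw [Finset.sum_congr rfl (fun j _ => by rw [h3 j]), h2] at h1
    simp only [hrx] at h1
    rw [hx] at h1
    exact_mod_cast (mul_left_cancel₀ (Nat.cast_ne_zero.2 hp.out.ne_zero) h1).symm
  obtain ⟨i₀, hi₀⟩ := Finset.card_eq_one.1 hcard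
  have hi : ε i₀ = ω ^ x.val := by
    have h := Finset.mem_singleton_self i₀
    rw [← hi₀] at h
    exact (Finset.mem_filter.1 h).2
  have hline : ∀ a : A, ρ a (b i₀) = (b.repr (ρ a (b i₀)) i₀) • b i₀ := by
    intro a
    refine b.repr.injective (Finsupp.ext fun k => ?_)
    rw [map_smul, b.repr_self, Finsupp.smul_single, smul_eq_mul, mul_one]
    rcases eq_or_ne k i₀ with rfl | hk
    · rw [Finsupp.single_eq_same]
    · rw [Finsupp.single_eq_of_ne hk]
      have hc : ρ u (ρ a (b i₀)) = ε i₀ • ρ a (b i₀) := by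
        rw [← map_smul, ← hb, ← Module.End.mul_apply, ← map_mul,
          (Subgroup.mem_centralizer_singleton_iff.1 (hA a.2)).symm, map_mul, Module.End.mul_apply]
      have h1 : ∀ v, b.repr (ρ u v) k = ε k * b.repr v k := fun v => by
        conv_lhs => rw [← b.sum_repr v]
        simp only [map_sum, map_smul, hb, b.repr_self, Finsupp.coe_finset_sum, Finsupp.coe_smul,
          Finset.sum_apply, Pi.smul_apply, smul_eq_mul]
        rw [Finset.sum_eq_single k (fun j _ hj => by rw [Finsupp.single_eq_of_ne hj.symm]; ring)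
          (fun h => absurd (Finset.mem_univ k) h), Finsupp.single_eq_same]
        ring
      have h2 := h1 (ρ a (b i₀))
      rw [hc, map_smul, Finsupp.smul_apply, smul_eq_mul] at h2
      have hne : ε i₀ - ε k ≠ 0 := sub_ne_zero.2 fun h => hk (by
        have h' : k ∈ Finset.univ.filter fun i => ε i = ω ^ x.val :=
          Finset.mem_filter.2 ⟨Finset.mem_univ _, h.symm.trans hi⟩
        rw [hi₀] at h'
        exact Finset.mem_singleton.1 h')
      exact (mul_eq_zero.1 (by linear_combination h2 : (ε i₀ - ε k) * _ = 0)).resolve_left hne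
  set c : A → ℂ := fun a => b.repr (ρ a (b i₀)) i₀ with hc
  have hc1 : c 1 = 1 := by simp [hc]
  have hcm : ∀ a a' : A, c (a * a') = c a * c a' := fun a a' => by
    have h : ρ ((a * a' : A) : G) (b i₀) = (c a * c a') • b i₀ := by
      rw [Subgroup.coe_mul, map_mul, Module.End.mul_apply, hline a', map_smul, hline a, smul_smul, mul_comm]
    simp only [hc, h, map_smul, b.repr_self, Finsupp.smul_single, Finsupp.single_eq_same, smul_eq_mul, mul_one]
  let η : A →* ℂˣ := MonoidHom.toHomUnits { toFun := c, map_one' := hc1, map_mul' := hcm }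
  have hηa : ∀ a : A, (η a : ℂ) = c a := fun a => rfl
  refine ⟨η, ?_⟩
  -- the projector
  set π : Module.End ℂ (Fin n → ℂ) := (Nat.card A : ℂ)⁻¹ • ∑ a : A, conj (η a : ℂ) • ρ (a : G) with hπ
  have hA0 : (Nat.card A : ℂ) ≠ 0 := Nat.cast_ne_zero.2 Nat.card_pos.ne'
  have hunit : ∀ a : A, conj (η a : ℂ) * (η a : ℂ) = 1 := fun a => by
    rw [Complex.conj_mul', ← Units.val_one]
    have h : ‖(η a : ℂ)‖ = 1 := Complex.norm_eq_one_of_pow_eq_one (n := Nat.card A)
      (by rw [← Units.val_pow_eq_pow_val, ← map_pow, pow_card_eq_one', map_one, Units.val_one]) Nat.card_pos.ne'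
    simp [h]
  have hfix : ∀ a : A, ρ (a : G) * π = (η a : ℂ) • π := fun a => by
    rw [hπ, mul_smul_comm, smul_comm, Finset.mul_sum]
    congr 1
    rw [Finset.smul_sum]
    rw [← Equiv.sum_comp (Equiv.mulLeft a) (fun b => (η a : ℂ) • conj (η b : ℂ) • ρ (b : G))]
    refine Finset.sum_congr rfl fun a' _ => ?_
    show ρ (a : G) * (conj (η a' : ℂ) • ρ (a' : G)) =
      (η a : ℂ) • conj (η (a * a') : ℂ) • ρ ((a * a' : A) : G)
    have e : (η a : ℂ) * conj (η (a * a') : ℂ) = conj (η a' : ℂ) := by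
      rw [map_mul, Units.val_mul, map_mul]
      linear_combination conj (η a' : ℂ) * hunit a
    rw [mul_smul_comm, smul_smul, e, Subgroup.coe_mul, map_mul]
  have hidem : π * π = π := by
    nth_rw 1 [hπ]
    rw [smul_mul_assoc, Finset.sum_mul]
    simp only [smul_mul_assoc, hfix, smul_smul, hunit, one_smul, Finset.sum_const, Finset.card_univ]
    rw [← Nat.cast_smul_eq_nsmul ℂ, smul_smul, ← Nat.card_eq_fintype_card, inv_mul_cancel₀ hA0, one_smul]
  have hπb : π (b i₀) = b i₀ := by
    have hline' : ∀ a : A, ρ a (b i₀) = c a • b i₀ := hline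
    simp only [hπ, LinearMap.smul_apply, LinearMap.sum_apply, hline', smul_smul]
    rw [← Finset.sum_smul, smul_smul,
      Finset.sum_congr rfl (g := fun _ => (1 : ℂ)) (fun a _ => by rw [← hηa, hunit])]
    simp [hA0, ← Nat.card_eq_fintype_card]
  intro h0
  have htr : LinearMap.trace ℂ _ π = 0 := by
    rw [hπ, map_smul, map_sum]
    simp only [map_smul, smul_eq_mul]
    rw [Finset.sum_congr rfl (g := fun a : A => (ζ : G → ℂ) (a : G) * conj (η a : ℂ))
      (fun a _ => by rw [← hρ, mul_comm]; rfl), h0, mul_zero]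
  have hproj : LinearMap.IsProj (LinearMap.range π) π :=
    ⟨fun v => LinearMap.mem_range_self π v, by
      rintro v ⟨w, rfl⟩
      exact LinearMap.congr_fun hidem w⟩
  rw [hproj.trace] at htr
  have hbot : LinearMap.range π = ⊥ := Submodule.finrank_eq_zero.1 (by exact_mod_cast htr)
  have : b i₀ = 0 := by
    rw [← hπb, ← Submodule.mem_bot (R := ℂ), ← hbot]
    exact LinearMap.mem_range_self π _
  exact b.ne_zero i₀ this

set_option maxHeartbeats 800000 in
/-- A `p'`-subgroup of the centraliser with a linear constituent is central. -/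
theorem le_center (A : Subgroup G) (hA : A ≤ Subgroup.centralizer ({u} : Set G))
    (hcop : ¬ p ∣ Nat.card A)
    (hgen : ∀ g ∈ Subgroup.centralizer ({u} : Set G), ∃ x ∈ (P : Subgroup G), ∃ a ∈ A, g = x * a)
    (hnorm : ∀ g ∈ Subgroup.normalizer ((P : Subgroup G) : Set G), ∀ a ∈ A, g * a * g⁻¹ ∈ A)
    (η : A →* ℂˣ) (hη : ∑ a : A, (ζ : G → ℂ) (a : G) * conj ((η a : ℂ)) ≠ 0) :
    A ≤ Subgroup.center G := by
  haveI := Fintype.ofFinite (Cfsg.IrrCharacter A)
  have hint : ∀ g, IsIntegral ℤ ((ζ : G → ℂ) g) := IsChar.isIntegral (IsIrr.isCharacter ζ.2)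
  have hcl : ∀ a b : G, (ζ : G → ℂ) (b * a * b⁻¹) = (ζ : G → ℂ) a := fun a b => IsIrr.isClassFunction ζ.2 a b
  set N := Subgroup.normalizer ((P : Subgroup G) : Set G) with hN
  set P' := (P : Subgroup G).subgroupOf N with hP'
  have hPcent : ∀ x ∈ (P : Subgroup G), ∀ a ∈ A, x * a = a * x := fun x hx a ha => by
    rw [← D.zpowers_eq] at hx
    obtain ⟨i, rfl⟩ := hx
    exact (Commute.zpow_left (Subgroup.mem_centralizer_singleton_iff.1 (hA ha) : a * u = u * a).symm i).eq
  let cN : N →* MulAut A :=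
    { toFun := fun g =>
        { toFun := fun a => ⟨(g : G) * a * (g : G)⁻¹, hnorm g g.2 a a.2⟩
          invFun := fun a => ⟨(g : G)⁻¹ * a * (g : G), by simpa using hnorm _ (N.inv_mem g.2) a a.2⟩
          left_inv := fun a => Subtype.ext (by simp [mul_assoc])
          right_inv := fun a => Subtype.ext (by simp [mul_assoc])
          map_mul' := fun a b => Subtype.ext (by simp [mul_assoc]) }
      map_one' := MulEquiv.ext fun a => Subtype.ext (by simp)
      map_mul' := fun g h => MulEquiv.ext fun a => Subtype.ext (by simp [mul_assoc]) }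
  let cQ : N ⧸ P' →* MulAut A := QuotientGroup.lift P' cN fun g hg => by
    rw [MonoidHom.mem_ker]
    refine MulEquiv.ext fun a => Subtype.ext ?_
    show (g : G) * a * (g : G)⁻¹ = a
    rw [hPcent g hg a a.2, mul_inv_cancel_right]
  have hQcop : ¬ p ∣ Nat.card (N ⧸ P') := fun h => P.not_dvd_index
    (h.trans (Subgroup.relIndex_dvd_index_of_le Subgroup.le_normalizer))
  have hcQ : ∀ (g : N) (a : A), ((cQ (QuotientGroup.mk g) a : A) : G) = (g : G) * a * (g : G)⁻¹ := fun g a => rfl
  have hinvζ : ∀ (x : N ⧸ P') (a : A), (ζ : G → ℂ) ((cQ x a : A) : G) = (ζ : G → ℂ) (a : G) := fun x a => by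
    induction x using QuotientGroup.induction_on with
    | _ g => rw [hcQ, hcl]
  set m : Cfsg.IrrCharacter A → ℕ := fun γ => mult A.subtype ζ γ
  set n := p - 2 with hn
  have hn0 : ¬ p ∣ n := fun h => by
    have := D.seven
    have := Nat.le_of_dvd (by omega) h
    omega
  -- the congruence
  have key : ∀ (b : A) (y : G), y ∈ Subgroup.centralizer ({u} : Set G) →
      CongMod p (((P : Subgroup G).index : ℂ) * ((ζ : G → ℂ) y * (ζ : G → ℂ) (b : G)))
        ((n : ℂ) * ∑ x : N ⧸ P', (ζ : G → ℂ) (y * ((cQ x b : A) : G))) := by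
    intro b y hy
    have h1 := apply_mul_apply ζ.2 y (b : G)
    set F : G ⧸ (P : Subgroup G) → ℂ := fun q => (ζ : G → ℂ) (y * (q.out * b * q.out⁻¹)) with hF
    have hFmk : ∀ g : G, F (QuotientGroup.mk g) = (ζ : G → ℂ) (y * (g * b * g⁻¹)) := fun g => by
      obtain ⟨h, hh⟩ := QuotientGroup.mk_out_eq_mul (P : Subgroup G) g
      simp only [hF, hh]
      refine congrArg (fun z => (ζ : G → ℂ) (y * z)) ?_
      calc g * (h : G) * b * (g * (h : G))⁻¹ = g * ((h : G) * b) * (h : G)⁻¹ * g⁻¹ := by group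
        _ = g * b * g⁻¹ := by rw [hPcent h h.2 b b.2]; group
    have h2 : ∑ g : G, (ζ : G → ℂ) (y * (g * b * g⁻¹)) = (p : ℂ) * ∑ q, F q := by
      have h := CfsgLib.CharDegree.sum_mk (N := (P : Subgroup G)) F
      rw [D.card] at h
      rw [← h]
      exact Finset.sum_congr rfl fun g _ => (hFmk g).symm
    have h3 : ((P : Subgroup G).index : ℂ) * ((ζ : G → ℂ) y * (ζ : G → ℂ) (b : G)) =
        (n : ℂ) * ∑ q, F q := by
      have hG : Nat.card G = p * (P : Subgroup G).index := by
        have h := (P : Subgroup G).card_mul_index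
        rw [D.card] at h
        exact h.symm
      rw [h2, hG, Nat.cast_mul, D.apply_one] at h1
      exact mul_left_cancel₀ (Nat.cast_ne_zero.2 hp.out.ne_zero) (by linear_combination h1)
    rw [h3]
    refine CongMod.mul_left ?_ ?_
    · simpa using isIntegral_algebraMap (R := ℤ) (A := ℂ) (x := (n : ℤ))
    have h4 := congMod_sum_fixed (A := (P : Subgroup G)) P.isPGroup' F (fun q => hint _) fun a q => by
      induction q using QuotientGroup.induction_on with
      | _ g =>
        show F (QuotientGroup.mk ((a : G) * g)) = F (QuotientGroup.mk g)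
        rw [hFmk, hFmk, ← hcl (y * (g * b * g⁻¹)) (a : G)]
        have hay : (a : G) * y = y * (a : G) := by
          obtain ⟨i, hi⟩ : (a : G) ∈ Subgroup.zpowers u := D.zpowers_eq.symm ▸ a.2
          rw [← hi]
          exact (Commute.zpow_left (Subgroup.mem_centralizer_singleton_iff.1 hy : y * u = u * y).symm i).eq
        congr 1
        rw [← mul_assoc (a : G) y, hay]
        group
    refine h4.trans (CongMod.of_eq ?_)
    symm
    refine Finset.sum_bij (fun x _ => QuotientGroup.mk ((x.out : N) : G)) ?_ ?_ ?_ ?_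
    · intro x _
      refine Finset.mem_filter.2 ⟨Finset.mem_univ _, fun a => ?_⟩
      show QuotientGroup.mk ((a : G) * ((x.out : N) : G)) = QuotientGroup.mk ((x.out : N) : G)
      rw [QuotientGroup.eq, mul_inv_rev]
      have h := (Subgroup.mem_normalizer_iff''.1 (x.out : N).2 ((a : G)⁻¹)).1 ((P : Subgroup G).inv_mem a.2)
      simpa [mul_assoc] using h
    · intro x _ x' _ h
      rw [← QuotientGroup.out_eq' x, ← QuotientGroup.out_eq' x', QuotientGroup.eq]
      rw [QuotientGroup.eq] at h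
      simpa [hP', Subgroup.mem_subgroupOf] using h
    · intro q hq
      induction q using QuotientGroup.induction_on with
      | _ g =>
        have hle : ∀ h ∈ (P : Subgroup G), g⁻¹ * h * g ∈ (P : Subgroup G) := fun h hh => by
          have h1 : QuotientGroup.mk (h * g) = (QuotientGroup.mk g : G ⧸ (P : Subgroup G)) :=
            (Finset.mem_filter.1 hq).2 ⟨h, hh⟩
          rw [QuotientGroup.eq] at h1
          simpa [mul_assoc] using (P : Subgroup G).inv_mem h1
        have hgN : g ∈ N := by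
          rw [← N.inv_mem_iff]
          refine Subgroup.mem_normalizer_fintype (S := ((P : Subgroup G) : Set G)) fun h hh => ?_
          simpa only [inv_inv, SetLike.mem_coe] using hle h hh
        refine ⟨QuotientGroup.mk ⟨g, hgN⟩, Finset.mem_univ _, ?_⟩
        rw [QuotientGroup.eq]
        obtain ⟨h, hh⟩ := QuotientGroup.mk_out_eq_mul P' (⟨g, hgN⟩ : N)
        rw [hh, Subgroup.coe_mul, mul_inv_rev, inv_mul_cancel_right]
        exact (P : Subgroup G).inv_mem (Subgroup.mem_subgroupOf.1 h.2)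
    · intro x _
      rw [hFmk]
      conv_lhs => rw [← QuotientGroup.out_eq' x]
      rw [hcQ]
  -- the linear constituent and its conjugates
  let θ : N ⧸ P' → (A →* ℂˣ) := fun x => η.comp (cQ x).toMonoidHom
  have hθmul : ∀ x y a, θ (x * y) a = θ x (cQ y a) := fun x y a => by simp [θ]
  have hθint : ∀ (χ : A →* ℂˣ) a, IsIntegral ℤ ((χ a : ℂ)) := fun χ a =>
    IsChar.isIntegral (IsIrr.isCharacter (isIrrCharacter_linear χ)) a
  have hconj : ∀ (χ : A →* ℂˣ) (a : A), conj (χ a : ℂ) * (χ a : ℂ) = 1 := fun χ a => by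
    rw [Complex.conj_mul']
    have h : ‖(χ a : ℂ)‖ = 1 := Complex.norm_eq_one_of_pow_eq_one (n := Nat.card A)
      (by rw [← Units.val_pow_eq_pow_val, ← map_pow, pow_card_eq_one', map_one, Units.val_one]) Nat.card_pos.ne'
    simp [h]
  set T : ℂ := ∑ a : A, (ζ : G → ℂ) (a : G) * conj ((η a : ℂ)) with hT
  set η' : Cfsg.IrrCharacter A := ⟨_, isIrrCharacter_linear η⟩
  have hTm : T = (Nat.card A : ℂ) * (m η' : ℂ) := sum_apply_mul_conj A.subtype ζ η'
  have hmlt : ∀ γ, m γ ≤ n := fun γ => by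
    have h := apply_eq_sum_mult A.subtype ζ (1 : A)
    rw [map_one, D.apply_one] at h
    simp only [← CfsgLib.CharDegree.cast_irrDegree] at h
    have h' : n = ∑ γ' : Cfsg.IrrCharacter A, m γ' * Cfsg.charDegree (γ' : A → ℂ) := by
      exact_mod_cast h
    rw [h']
    exact le_trans (Nat.le_mul_of_pos_right _ (CfsgLib.CharDegree.charDegree_pos γ))
      (Finset.single_le_sum (f := fun γ' => m γ' * Cfsg.charDegree (γ' : A → ℂ)) (fun _ _ => Nat.zero_le _)
        (Finset.mem_univ γ))
  have hm0 : m η' ≠ 0 := fun h => hη (by rw [hTm, h]; simp)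
  have hAm : ¬ p ∣ Nat.card A * m η' := fun h => by
    rcases hp.out.dvd_mul.1 h with h | h
    · exact hcop h
    · have := Nat.le_of_dvd (Nat.pos_of_ne_zero hm0) h
      have := hmlt η'
      have := D.seven
      omega
  have hshift : ∀ (χ : A →* ℂˣ) (c : A), ∑ a : A, conj (χ a : ℂ) * (ζ : G → ℂ) ((a * c : A) : G) =
      (χ c : ℂ) * ∑ a : A, (ζ : G → ℂ) (a : G) * conj (χ a : ℂ) := fun χ c => by
    rw [Finset.mul_sum]
    refine Fintype.sum_equiv (Equiv.mulRight c) _ _ fun a => ?_
    rw [Equiv.coe_mulRight, map_mul, Units.val_mul, map_mul]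
    linear_combination (-(conj (χ a : ℂ)) * (ζ : G → ℂ) ((a * c : A) : G)) * hconj χ c
  -- the value of the central character
  have hL : ∀ b : A, CongMod p (((P : Subgroup G).index : ℂ) * (ζ : G → ℂ) (b : G))
      ((n : ℂ) * ∑ x, (θ x b : ℂ)) := by
    intro b
    have h := CongMod.sum Finset.univ fun a (_ : a ∈ (Finset.univ : Finset A)) =>
      (key b a (hA a.2)).mul_left (c := conj (η a : ℂ)) (isIntegral_conj (hθint η a))
    have e1 : ∑ a : A, conj (η a : ℂ) * (((P : Subgroup G).index : ℂ) * ((ζ : G → ℂ) a * (ζ : G → ℂ) (b : G))) =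
        ((Nat.card A * m η' : ℕ) : ℂ) * (((P : Subgroup G).index : ℂ) * (ζ : G → ℂ) (b : G)) := by
      rw [Nat.cast_mul, ← hTm, hT, Finset.sum_mul]
      exact Finset.sum_congr rfl fun a _ => by ring
    have e2 : ∑ a : A, conj (η a : ℂ) * ((n : ℂ) * ∑ x, (ζ : G → ℂ) ((a : G) * ((cQ x b : A) : G))) =
        ((Nat.card A * m η' : ℕ) : ℂ) * ((n : ℂ) * ∑ x, (θ x b : ℂ)) := by
      rw [Nat.cast_mul, ← hTm, Finset.mul_sum, Finset.mul_sum]
      simp only [Finset.mul_sum]
      rw [Finset.sum_comm]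
      refine Finset.sum_congr rfl fun x _ => ?_
      have hs := hshift η (cQ x b)
      simp only [Subgroup.coe_mul] at hs
      rw [show T * ((n : ℂ) * (θ x b : ℂ)) = (n : ℂ) * ((η (cQ x b) : ℂ) * T) by simp [θ]; ring, ← hs,
        Finset.mul_sum]
      exact Finset.sum_congr rfl fun a _ => by ring
    rw [e1, e2] at h
    refine congMod_cancel hAm ?_ ?_ h
    · exact (isIntegral_nat (P : Subgroup G).index).mul (hint _)
    · exact (isIntegral_nat n).mul (IsIntegral.sum _ fun x _ => hθint _ _)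
  have hL' : ∀ b a : A, CongMod p ((∑ x, (θ x b : ℂ)) * (ζ : G → ℂ) (a : G))
      (∑ x, (ζ : G → ℂ) ((a : G) * ((cQ x b : A) : G))) := by
    intro b a
    refine congMod_cancel hn0 ((IsIntegral.sum _ fun x _ => hθint _ _).mul (hint _))
      (IsIntegral.sum _ fun x _ => hint _) ?_
    have h1 := (hL b).symm.mul_right (hint (a : G))
    rw [mul_assoc] at h1
    exact (h1.trans (CongMod.of_eq (by ring))).trans (key b a (hA a.2))
  -- the stabiliser
  let S : Subgroup (N ⧸ P') :=
    { carrier := {x | θ x = η}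
      one_mem' := MonoidHom.ext fun a => by simp [θ]
      mul_mem' := fun {x y} hx hy => MonoidHom.ext fun a => by
        have h1 : θ x (cQ y a) = η (cQ y a) := by rw [show θ x = η from hx]
        rw [hθmul, h1]
        exact DFunLike.congr_fun (show θ y = η from hy) a
      inv_mem' := fun {x} hx => MonoidHom.ext fun a => by
        have h := DFunLike.congr_fun (show θ x = η from hx) (cQ x⁻¹ a)
        rw [← hθmul, mul_inv_cancel] at h
        simp [θ] at h ⊢
        exact h.symm }
  set s := Nat.card S with hs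
  have hscop : ¬ p ∣ s := fun h => hQcop (h.trans S.card_subgroup_dvd_card)
  have hfib : ∀ x₀ : N ⧸ P', (Finset.univ.filter fun x => θ x = θ x₀).card = s := by
    intro x₀
    rw [hs, ← Fintype.card_subtype, ← Nat.card_eq_fintype_card]
    refine Nat.card_congr ⟨fun x => ⟨x.1 * x₀⁻¹, ?_⟩, fun c => ⟨c.1 * x₀, ?_⟩, fun x => ?_, fun c => ?_⟩
    · show θ (x.1 * x₀⁻¹) = η
      refine MonoidHom.ext fun a => ?_
      rw [hθmul, x.2, ← hθmul, mul_inv_cancel]
      simp [θ]
    · refine MonoidHom.ext fun a => ?_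
      rw [hθmul, show θ c.1 = η from c.2]
      rfl
    · exact Subtype.ext (inv_mul_cancel_right x.1 x₀)
    · exact Subtype.ext (mul_inv_cancel_right c.1 x₀)
  have hTinv : ∀ x, ∑ a : A, (ζ : G → ℂ) (a : G) * conj (θ x a : ℂ) = T := fun x => by
    rw [hT]
    exact Fintype.sum_equiv (cQ x).toEquiv _ _ fun a => by
      rw [MulEquiv.toEquiv_eq_coe, EquivLike.coe_coe, hinvζ]
      rfl
  have horth : ∀ χ ψ : A →* ℂˣ, ∑ a : A, (χ a : ℂ) * conj (ψ a : ℂ) =
      if χ = ψ then (Nat.card A : ℂ) else 0 := fun χ ψ => by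
    rw [sum_irr_mul_conj ⟨_, isIrrCharacter_linear χ⟩ ⟨_, isIrrCharacter_linear ψ⟩]
    refine if_congr ⟨fun h => MonoidHom.ext fun a => Units.ext (congrFun (congrArg Subtype.val h) a),
      fun h => by subst h; rfl⟩ rfl rfl
  have hmain : ∀ a : A, CongMod p ((s : ℂ) * (ζ : G → ℂ) (a : G)) ((m η' : ℂ) * ∑ x, (θ x a : ℂ)) := by
    intro a
    refine congMod_cancel hcop ((isIntegral_nat s).mul (hint _))
      ((isIntegral_nat (m η')).mul (IsIntegral.sum _ fun x _ => hθint _ _)) ?_
    have h := CongMod.sum Finset.univ fun b (_ : b ∈ (Finset.univ : Finset A)) =>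
      (hL' b a).mul_left (c := conj (η b : ℂ)) (isIntegral_conj (hθint η b))
    have e1 : ∑ b : A, conj (η b : ℂ) * ((∑ x, (θ x b : ℂ)) * (ζ : G → ℂ) (a : G)) =
        (Nat.card A : ℂ) * ((s : ℂ) * (ζ : G → ℂ) (a : G)) := by
      simp only [Finset.sum_mul, Finset.mul_sum]
      rw [Finset.sum_comm]
      rw [Finset.sum_congr rfl (g := fun x => (if θ x = η then (Nat.card A : ℂ) else 0) * (ζ : G → ℂ) (a : G))
        (fun x _ => by rw [← horth, Finset.sum_mul]; exact Finset.sum_congr rfl fun b _ => by ring),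
        ← Finset.sum_mul, ← Finset.sum_filter, Finset.sum_const, nsmul_eq_mul]
      have := hfib 1
      rw [show θ 1 = η from S.one_mem] at this
      rw [this]
      ring
    have e2 : ∑ b : A, conj (η b : ℂ) * ∑ x, (ζ : G → ℂ) ((a : G) * ((cQ x b : A) : G)) =
        (Nat.card A : ℂ) * ((m η' : ℂ) * ∑ x, (θ x a : ℂ)) := by
      simp only [Finset.mul_sum]
      rw [Finset.sum_comm, ← Equiv.sum_comp (Equiv.inv (N ⧸ P'))]
      refine Finset.sum_congr rfl fun x _ => ?_
      rw [Equiv.inv_apply, show (Nat.card A : ℂ) * ((m η' : ℂ) * (θ x a : ℂ)) = (θ x a : ℂ) * T by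
        rw [hTm]; ring, ← hTinv x, ← hshift (θ x) a]
      refine Fintype.sum_equiv (cQ x⁻¹).toEquiv _ _ fun b => ?_
      rw [MulEquiv.toEquiv_eq_coe, EquivLike.coe_coe, Subgroup.coe_mul, ← hθmul, mul_inv_cancel,
        IsChar.map_mul_comm (IsIrr.isCharacter ζ.2) (((cQ x⁻¹) b : A) : G) (a : G)]
      simp [θ]
    rw [e1, e2] at h
    exact h
  -- multiplicities
  have hmult : ∀ γ : Cfsg.IrrCharacter A, m γ =
      if ∃ x, (fun a => (θ x a : ℂ)) = (γ : A → ℂ) then m η' else 0 := by
    intro γ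
    have h := CongMod.sum Finset.univ fun a (_ : a ∈ (Finset.univ : Finset A)) =>
      (hmain a).mul_right (c := conj ((γ : A → ℂ) a)) (isIntegral_conj (IsChar.isIntegral (IsIrr.isCharacter γ.2) a))
    have e1 : ∑ a : A, (s : ℂ) * (ζ : G → ℂ) (a : G) * conj ((γ : A → ℂ) a) =
        (Nat.card A : ℂ) * ((s * m γ : ℕ) : ℂ) := by
      rw [Nat.cast_mul, ← mul_left_comm, ← sum_apply_mul_conj A.subtype ζ γ, Finset.mul_sum]
      exact Finset.sum_congr rfl fun a _ => by rw [mul_assoc]; rfl
    have e2 : ∑ a : A, (m η' : ℂ) * (∑ x, (θ x a : ℂ)) * conj ((γ : A → ℂ) a) =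
        (Nat.card A : ℂ) * ((m η' * (Finset.univ.filter fun x => (fun a => (θ x a : ℂ)) = (γ : A → ℂ)).card : ℕ) : ℂ) := by
      simp only [mul_assoc, Finset.sum_mul, ← Finset.mul_sum]
      rw [Finset.sum_comm, Finset.sum_congr rfl (g := fun x =>
        if (fun a => (θ x a : ℂ)) = (γ : A → ℂ) then (Nat.card A : ℂ) else 0) (fun x _ => by
          rw [sum_irr_mul_conj ⟨_, isIrrCharacter_linear (θ x)⟩ γ]
          exact if_congr Subtype.ext_iff rfl rfl), ← Finset.sum_filter, Finset.sum_const, nsmul_eq_mul]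
      push_cast
      ring
    rw [e1, e2] at h
    have h' := congMod_cancel hcop (isIntegral_nat _) (isIntegral_nat _) h
    have hd := CongMod.dvd_sub_of_intCast hp.out.ne_zero
      (a := ((s * m γ : ℕ) : ℤ)) (b := _) (by exact_mod_cast h')
    have hlt : ∀ γ, m γ < p := fun γ => by have := hmlt γ; have := D.seven; omega
    split_ifs with hx
    · obtain ⟨x₀, hx₀⟩ := hx
      have hset : (Finset.univ.filter fun x => (fun a => (θ x a : ℂ)) = (γ : A → ℂ)) =
          Finset.univ.filter fun x => θ x = θ x₀ := by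
        refine Finset.filter_congr fun x _ => ?_
        rw [← hx₀]
        exact ⟨fun h => MonoidHom.ext fun a => Units.ext (congrFun h a), fun h => by rw [h]⟩
      rw [hset, hfib, mul_comm (m η')] at hd
      push_cast at hd
      rw [← mul_sub] at hd
      have h3 := ((Nat.prime_iff_prime_int.1 hp.out).dvd_mul.1 hd).resolve_left
        fun h => hscop (Int.natCast_dvd_natCast.1 h)
      have h4 := Int.eq_zero_of_abs_lt_dvd h3 (by have := hlt γ; have := hlt η'; rw [abs_lt]; omega)
      omega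
    · push Not at hx
      rw [Finset.filter_eq_empty_iff.2 fun x _ => hx x, Finset.card_empty, mul_zero, Nat.cast_zero, sub_zero,
        Int.natCast_dvd_natCast] at hd
      exact Nat.eq_zero_of_dvd_of_lt ((hp.out.dvd_mul.1 hd).resolve_left hscop) (hlt γ)
  set Θ := (Finset.univ : Finset (N ⧸ P')).image θ with hΘ
  have hdec : ∀ a : A, (ζ : G → ℂ) (a : G) = (m η' : ℂ) * ∑ χ ∈ Θ, (χ a : ℂ) := by
    intro a
    rw [show (ζ : G → ℂ) (a : G) = _ from apply_eq_sum_mult A.subtype ζ a, Finset.mul_sum]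
    rw [← Finset.sum_subset (Finset.subset_univ (Θ.image fun χ => (⟨_, isIrrCharacter_linear χ⟩ : Cfsg.IrrCharacter A)))
      (fun γ _ hγ => by
        show (m γ : ℂ) * _ = 0
        rw [hmult, if_neg fun ⟨x, hx⟩ => hγ (Finset.mem_image.2
          ⟨θ x, Finset.mem_image.2 ⟨x, Finset.mem_univ _, rfl⟩, Subtype.ext hx⟩)]
        simp),
      Finset.sum_image fun χ _ ψ _ h => MonoidHom.ext fun a => Units.ext (congrFun (congrArg Subtype.val h) a)]
    refine Finset.sum_congr rfl fun χ hχ => ?_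
    obtain ⟨x, -, rfl⟩ := Finset.mem_image.1 hχ
    show (m _ : ℂ) * _ = _
    rw [hmult, if_pos ⟨x, rfl⟩]
  -- one orbit of length one
  have hf : Θ.card * s = Nat.card (N ⧸ P') := by
    rw [Nat.card_eq_fintype_card, ← Finset.card_univ,
      Finset.card_eq_sum_card_fiberwise (t := Θ) (f := θ) fun x _ => Finset.mem_image.2 ⟨x, Finset.mem_univ _, rfl⟩,
      Finset.sum_congr rfl (g := fun _ => s) (fun χ hχ => by
        obtain ⟨x, -, rfl⟩ := Finset.mem_image.1 hχ
        exact hfib x), Finset.sum_const, smul_eq_mul]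
  have hfi : Θ.card = S.index := by
    have := S.card_mul_index
    rw [← hf, mul_comm Θ.card] at this
    exact (Nat.eq_of_mul_eq_mul_left Nat.card_pos this).symm
  have hfp : Θ.card ∣ p - 1 := by
    rw [hfi, ← Subgroup.index_comap_of_surjective (f := QuotientGroup.mk' P') S (QuotientGroup.mk'_surjective P')]
    refine (Subgroup.index_dvd_of_le (H := (P : Subgroup G).normalizerMonoidHom.ker) fun g hg => ?_).trans ?_
    · rw [Subgroup.normalizerMonoidHom_ker, Subgroup.mem_subgroupOf] at hg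
      have hgu : (g : G) ∈ Subgroup.centralizer ({u} : Set G) :=
        Subgroup.centralizer_le (Set.singleton_subset_iff.2 D.mem) hg
      obtain ⟨x, hx, a, ha, hga⟩ := hgen g hgu
      refine Subgroup.mem_comap.2 (MonoidHom.ext fun b => Units.ext ?_)
      have hb : cQ (QuotientGroup.mk g) b = (⟨a, ha⟩ : A) * b * (⟨a, ha⟩ : A)⁻¹ := by
        refine Subtype.ext ?_
        rw [hcQ, hga]
        calc x * a * (b : G) * (x * a)⁻¹ = x * (a * (b : G) * a⁻¹) * x⁻¹ := by group
          _ = a * (b : G) * a⁻¹ := by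
            rw [hPcent x hx _ (A.mul_mem (A.mul_mem ha b.2) (A.inv_mem ha)), mul_inv_cancel_right]
      show ((η (cQ (QuotientGroup.mk g) b) : ℂˣ) : ℂ) = _
      rw [hb, map_mul, map_mul, mul_comm (η _) (η b), map_inv, mul_inv_cancel_right]
    · rw [Subgroup.index_ker]
      refine (Subgroup.card_subgroup_dvd_card _).trans ?_
      haveI : IsCyclic (P : Subgroup G) := isCyclic_of_prime_card D.card
      rw [Nat.card_congr (IsCyclic.mulAutMulEquiv (P : Subgroup G)).toEquiv, D.card, Nat.card_eq_fintype_card,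
        ZMod.card_units]
  have hnf : n = m η' * Θ.card := by
    have h := hdec 1
    rw [OneMemClass.coe_one, D.apply_one] at h
    simp only [map_one, Units.val_one, Finset.sum_const, nsmul_eq_mul, mul_one] at h
    exact_mod_cast h
  have hf1 : Θ.card = 1 := by
    have h1 : Θ.card ∣ n := ⟨m η', by rw [hnf, mul_comm]⟩
    have h2 := Nat.dvd_sub hfp h1
    have := D.seven
    rw [show p - 1 - n = 1 by omega] at h2
    exact Nat.dvd_one.1 h2
  obtain ⟨χ, hχ⟩ := Finset.card_eq_one.1 hf1
  intro g hg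
  refine CfsgLib.CharDegree.mem_center_of_norm_eq ζ ?_ ?_
  · rw [Subgroup.eq_bot_iff_forall]
    exact fun x hx => D.faith x (CfsgLib.CharDegree.mem_kerSubgroup.1 hx)
  · rw [show g = ((⟨g, hg⟩ : A) : G) from rfl, hdec, hχ, Finset.sum_singleton, norm_mul, Complex.norm_natCast,
      Complex.norm_eq_one_of_pow_eq_one (n := Nat.card A)
        (by rw [← Units.val_pow_eq_pow_val, ← map_pow, pow_card_eq_one', map_one, Units.val_one])
        Nat.card_pos.ne', mul_one, D.deg, ← hn]
    rw [hf1, mul_one] at hnf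
    rw [hnf]

end Data

end CfsgLib.Char.FeitDegree
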