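import Cfsg.Agent.Lib.Char.FeitDegree.Residual
import Cfsg.Agent.Lib.Char.Coherence.TISylowConst

/-!
# Characters over a central character, and a class product that cannot meet a twisted coset
-/

set_option autoImplicit false

namespace CfsgLib.Char.FeitDegree

open CfsgLib.CharAction Finset
open scoped Classical ComplexConjugate Pointwise

section General

variable {H : Type*} [Group H] [Fintype H] [Fintype (Cfsg.IrrCharacter H)]

/-- The irreducible characters over a character of a central subgroup. -/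
noncomputable def centBlock (Z : Subgroup H) (μ : Z →* ℂˣ) : Finset (Cfsg.IrrCharacter H) :=
  Finset.univ.filter fun χ => ∀ (g : H) (z : Z), (χ : H → ℂ) (g * z) = (μ z : ℂ) * (χ : H → ℂ) g

theorem mem_centBlock {Z : Subgroup H} {μ : Z →* ℂˣ} {χ : Cfsg.IrrCharacter H} :
    χ ∈ centBlock Z μ ↔ ∀ (g : H) (z : Z), (χ : H → ℂ) (g * z) = (μ z : ℂ) * (χ : H → ℂ) g := by
  simp [centBlock]

/-- Projection on the characters over `μ`. -/
theorem card_mul_sum_centBlock (Z : Subgroup H) [Fintype Z] (hZ : Z ≤ Subgroup.center H) (μ : Z →* ℂˣ)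
    (f : Cfsg.IrrCharacter H → ℂ) (x : H) :
    (Nat.card Z : ℂ) * ∑ χ ∈ centBlock Z μ, f χ * (χ : H → ℂ) x =
      ∑ z : Z, conj (μ z : ℂ) * ∑ χ : Cfsg.IrrCharacter H, f χ * (χ : H → ℂ) (x * z) := by
  have hl : ∀ χ : Cfsg.IrrCharacter H, ∃ l : Z →* ℂˣ,
      ∀ (g : H) (z : Z), (χ : H → ℂ) (g * z) = (l z : ℂ) * (χ : H → ℂ) g := fun χ => exists_centralHom χ Z hZ
  choose l hl using hl
  have hiff : ∀ χ, χ ∈ centBlock Z μ ↔ l χ = μ := fun χ => by
    rw [mem_centBlock]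
    refine ⟨fun h => MonoidHom.ext fun z => Units.ext ?_, fun h g z => by rw [hl, h]⟩
    exact mul_right_cancel₀ (IsIrr.apply_one_ne_zero χ.2) ((hl χ 1 z).symm.trans (h 1 z))
  have horth : ∀ χ, ∑ z : Z, conj (μ z : ℂ) * (l χ z : ℂ) = if χ ∈ centBlock Z μ then (Nat.card Z : ℂ) else 0 := by
    intro χ
    have h := sum_irr_mul_conj (⟨_, isIrrCharacter_linear (l χ)⟩ : Cfsg.IrrCharacter Z) ⟨_, isIrrCharacter_linear μ⟩
    rw [Finset.sum_congr rfl fun z _ => mul_comm _ _, h]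
    refine if_congr ((Iff.trans ?_ (hiff χ).symm)) rfl rfl
    exact ⟨fun h => MonoidHom.ext fun z => Units.ext (congrFun (congrArg Subtype.val h) z), fun h => by simp only [h]⟩
  calc (Nat.card Z : ℂ) * ∑ χ ∈ centBlock Z μ, f χ * (χ : H → ℂ) x
      = ∑ χ : Cfsg.IrrCharacter H, f χ * (χ : H → ℂ) x * ∑ z : Z, conj (μ z : ℂ) * (l χ z : ℂ) := by
        simp only [horth, mul_ite, mul_zero, Finset.sum_ite_mem, Finset.univ_inter, Finset.mul_sum]
        exact Finset.sum_congr rfl fun χ _ => by ring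
    _ = _ := by
        simp only [Finset.mul_sum]
        rw [Finset.sum_comm]
        exact Finset.sum_congr rfl fun z _ => Finset.sum_congr rfl fun χ _ => by rw [hl]; ring

omit [Fintype (Cfsg.IrrCharacter H)] in
theorem apply_involution_real {a : H} (ha : a * a = 1) (χ : Cfsg.IrrCharacter H) :
    (χ : H → ℂ) a = (((χ : H → ℂ) a).re : ℂ) := by
  refine (Complex.conj_eq_iff_re.1 ?_).symm
  rw [← IsIrr.map_inv χ.2, inv_eq_of_mul_eq_one_right ha]

omit [Fintype (Cfsg.IrrCharacter H)] in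
/-- The bound at an element inverting a subgroup of odd order. -/
theorem card_mul_norm_le (P : Subgroup H) [Fintype P] {a : H} (hodd : ¬ 2 ∣ Nat.card P)
    (hinv : ∀ x ∈ P, a * x * a⁻¹ = x⁻¹) (χ : Cfsg.IrrCharacter H) :
    (Nat.card P : ℝ) * ‖(χ : H → ℂ) a‖ ≤ (∑ x : P, (χ : H → ℂ) x).re := by
  have hN : a ∈ Subgroup.normalizer (P : Set H) :=
    Subgroup.mem_normalizer_fintype (S := (P : Set H)) fun x hx => by
      rw [SetLike.mem_coe] at hx ⊢
      rw [hinv x hx]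
      exact P.inv_mem hx
  have h := CfsgLib.Perm.CharAverage.norm_sum_le P (IsIrr.isCharacter χ.2) hN
  have hconst : ∀ x : P, (χ : H → ℂ) ((x : H) * a) = (χ : H → ℂ) a := by
    intro x
    obtain ⟨y, rfl⟩ := (powCoprime (G := P) (n := 2)
      ((Nat.prime_two.coprime_iff_not_dvd.2 hodd).symm)).surjective x
    have h1 : ((powCoprime (G := P) (n := 2) ((Nat.prime_two.coprime_iff_not_dvd.2 hodd).symm) y : P) : H) =
        (y : H) * y := by
      show ((y ^ 2 : P) : H) = _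
      rw [Subgroup.coe_pow, pow_two]
    have h2 : (y : H) * y * a = (y : H) * a * (y : H)⁻¹ := by
      calc (y : H) * y * a = (y : H) * ((y : H) * a) := mul_assoc _ _ _
        _ = (y : H) * (a * (a⁻¹ * (a * (y : H)⁻¹ * a⁻¹) * a)) := by
          rw [hinv _ (P.inv_mem y.2), inv_inv]; group
        _ = (y : H) * a * (y : H)⁻¹ := by group
    rw [h1, h2, IsIrr.isClassFunction χ.2]
  rw [Finset.sum_congr rfl (fun x _ => hconst x), Finset.sum_const, Finset.card_univ, nsmul_eq_mul, norm_mul,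
    Complex.norm_natCast, ← Nat.card_eq_fintype_card] at h
  exact h

end General

variable {p : ℕ} [hp : Fact p.Prime]

namespace Data

variable {G : Type*} [Group G] [Fintype G] {P : Sylow p G} {u : G} {ζ : Cfsg.IrrCharacter G}
variable (D : Data P u ζ)
include D

theorem center_pow_eq_one {z : G} (hz : z ∈ Subgroup.center G) : z ^ Nat.card (Subgroup.center G) = 1 :=
  congrArg Subtype.val (pow_card_eq_one' (G := Subgroup.center G) (x := ⟨z, hz⟩))

theorem eq_one_of_pow_p {z : G} (hz : z ∈ Subgroup.center G) (h : z ^ p = 1) : z = 1 := by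
  have h3 : orderOf z ∣ Nat.gcd p (Nat.card (Subgroup.center G)) :=
    Nat.dvd_gcd (orderOf_dvd_of_pow_eq_one h) (orderOf_dvd_of_pow_eq_one (D.center_pow_eq_one hz))
  rw [(hp.out.coprime_iff_not_dvd.2 D.not_dvd_center).gcd_eq_one] at h3
  exact orderOf_eq_one_iff.1 (Nat.dvd_one.1 h3)

/-- Fusion inside the centraliser. -/
theorem isConj_pow_mul_iff {i j : ℕ} (hi : ¬ p ∣ i) (z : Subgroup.center G) :
    IsConj (u ^ i * (z : G)) (u ^ j) ↔ z = 1 ∧ ((i : ZMod p) = j ∨ (i : ZMod p) = -j) := by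
  have hpow : ∀ k : ℕ, (u ^ k) ^ p = 1 := fun k => by
    rw [← pow_mul, mul_comm, pow_mul, ← D.ord, pow_orderOf_eq_one, one_pow]
  have heq : ∀ k l : ℕ, u ^ k = u ^ l ↔ (k : ZMod p) = l := fun k l => by
    rw [pow_eq_pow_iff_modEq, D.ord, ZMod.natCast_eq_natCast_iff]
  have hneg : ∀ k : ℕ, (u ^ k)⁻¹ = u ^ ((-(k : ZMod p)).val) := fun k => by
    refine (eq_inv_of_mul_eq_one_left ?_).symm
    rw [← pow_add, ← pow_val_eq D.ord, Nat.cast_add, ZMod.natCast_zmod_val, neg_add_cancel, ZMod.val_zero, pow_zero]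
  constructor
  · intro h
    obtain ⟨g, hg⟩ := isConj_iff.1 h
    have hsp : g * (u ^ i * (z : G)) * g⁻¹ = g * u ^ i * g⁻¹ * (z : G) := by
      rw [show g * (u ^ i * (z : G)) * g⁻¹ = g * u ^ i * ((z : G) * g⁻¹) by group,
        ← Subgroup.mem_center_iff.1 z.2 g⁻¹]
      group
    rw [hsp] at hg
    have hz : z = 1 := by
      refine Subtype.ext (D.eq_one_of_pow_p z.2 ?_)
      have h1 : (g * u ^ i * g⁻¹ * (z : G)) ^ p = (u ^ j) ^ p := by rw [hg]
      rw [(show Commute (g * u ^ i * g⁻¹) (z : G) from Subgroup.mem_center_iff.1 z.2 _).mul_pow, conj_pow, hpow,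
        hpow, mul_one, mul_inv_cancel, one_mul] at h1
      exact h1
    subst hz
    rw [OneMemClass.coe_one, mul_one] at hg
    obtain ⟨m, hm⟩ := exists_pow_eq_self_of_coprime (x := u) (n := i)
      (by rw [D.ord]; exact (hp.out.coprime_iff_not_dvd.2 hi).symm)
    have hgu : g * u * g⁻¹ = u ^ (j * m) := by
      rw [pow_mul, ← hg, conj_pow, hm]
    have hgN : g ∈ Subgroup.normalizer ((P : Subgroup G) : Set G) := by
      refine Subgroup.mem_normalizer_fintype (S := ((P : Subgroup G) : Set G)) fun x hx => ?_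
      rw [SetLike.mem_coe, ← D.zpowers_eq] at hx ⊢
      obtain ⟨k, rfl⟩ := hx
      rw [← conj_zpow, hgu]
      exact zpow_mem (pow_mem (Subgroup.mem_zpowers u) _) k
    refine ⟨rfl, ?_⟩
    rcases D.mem_or_inverts hgN with h | h
    · left
      rw [← heq, ← hg, ← conj_pow, Subgroup.mem_centralizer_singleton_iff.1 h, mul_inv_cancel_right]
    · right
      rw [← conj_pow, h, inv_pow] at hg
      have h2 := hg.symm.trans (hneg i)
      rw [heq, ZMod.natCast_zmod_val] at h2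
      rw [h2, neg_neg]
  · rintro ⟨rfl, h | h⟩
    · rw [OneMemClass.coe_one, mul_one, (heq i j).2 h]
    · obtain ⟨g, hg⟩ := D.exists_inverting
      refine isConj_iff.2 ⟨g, ?_⟩
      rw [OneMemClass.coe_one, mul_one, ← conj_pow, hg, inv_pow, hneg, heq, ZMod.natCast_zmod_val, h, neg_neg]

theorem card_centralizer_pow {i : ℕ} (hi : ¬ p ∣ i) :
    Nat.card (Subgroup.centralizer ({u ^ i} : Set G)) = p * Nat.card (Subgroup.center G) := by
  rw [← D.card_centralizer]
  obtain ⟨m, hm⟩ := exists_pow_eq_self_of_coprime (x := u) (n := i)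
    (by rw [D.ord]; exact (hp.out.coprime_iff_not_dvd.2 hi).symm)
  suffices h : Subgroup.centralizer ({u ^ i} : Set G) = Subgroup.centralizer ({u} : Set G) by rw [h]
  ext g
  simp only [Subgroup.mem_centralizer_singleton_iff]
  exact ⟨fun h => hm ▸ (show Commute g (u ^ i) from h).pow_right m,
    fun h => ((show Commute g u from h).pow_right i).eq⟩

variable [Fintype (Cfsg.IrrCharacter G)]

/-- Orthogonality over `μ` on the Sylow subgroup. -/
theorem sum_centBlock (μ : Subgroup.center G →* ℂˣ) {i : ℕ} (hi : ¬ p ∣ i) (j : ℕ) :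
    ∑ χ ∈ centBlock (Subgroup.center G) μ, (χ : G → ℂ) (u ^ i) * conj ((χ : G → ℂ) (u ^ j)) =
      if (i : ZMod p) = j ∨ (i : ZMod p) = -j then (p : ℂ) else 0 := by
  refine mul_left_cancel₀ (Nat.cast_ne_zero.2 (Nat.card_pos (α := Subgroup.center G)).ne' :
    (Nat.card (Subgroup.center G) : ℂ) ≠ 0) ?_
  rw [Finset.sum_congr rfl (fun χ _ => mul_comm _ _),
    card_mul_sum_centBlock _ le_rfl μ (fun χ => conj ((χ : G → ℂ) (u ^ j))) (u ^ i)]
  have h : ∀ z : Subgroup.center G,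
      ∑ χ : Cfsg.IrrCharacter G, conj ((χ : G → ℂ) (u ^ j)) * (χ : G → ℂ) (u ^ i * z) =
        if z = 1 ∧ ((i : ZMod p) = j ∨ (i : ZMod p) = -j) then
          ((p * Nat.card (Subgroup.center G) : ℕ) : ℂ) else 0 := fun z => by
    rw [Finset.sum_congr rfl (g := fun χ : Cfsg.IrrCharacter G => (χ : G → ℂ) (u ^ i * z) * conj ((χ : G → ℂ) (u ^ j)))
      (fun χ _ => mul_comm _ _), column_orthogonality]
    by_cases hc : z = 1 ∧ ((i : ZMod p) = j ∨ (i : ZMod p) = -j)
    · rw [if_pos ((D.isConj_pow_mul_iff hi z).2 hc), if_pos hc, hc.1, OneMemClass.coe_one, mul_one,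
        D.card_centralizer_pow hi]
    · rw [if_neg (fun h => hc ((D.isConj_pow_mul_iff hi z).1 h)), if_neg hc]
  simp only [h, mul_ite, mul_zero]
  refine (Finset.sum_eq_single (1 : Subgroup.center G) (fun z _ hz => if_neg fun h => hz h.1)
    (fun h => absurd (Finset.mem_univ _) h)).trans ?_
  simp only [true_and, map_one, Units.val_one, one_mul, Nat.cast_mul]
  split_ifs <;> ring

/-- Orthogonality over `μ` with a `p`-regular element. -/
theorem sum_centBlock_eq_zero (μ : Subgroup.center G →* ℂˣ) {g : G} {m : ℕ} (hg : g ^ m = 1) (hm : ¬ p ∣ m)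
    {j : ℕ} (hj : ¬ p ∣ j) :
    ∑ χ ∈ centBlock (Subgroup.center G) μ, (χ : G → ℂ) g * conj ((χ : G → ℂ) (u ^ j)) = 0 := by
  refine mul_left_cancel₀ (Nat.cast_ne_zero.2 (Nat.card_pos (α := Subgroup.center G)).ne' :
    (Nat.card (Subgroup.center G) : ℂ) ≠ 0) ?_
  rw [Finset.sum_congr rfl (fun χ _ => mul_comm _ _),
    card_mul_sum_centBlock _ le_rfl μ (fun χ => conj ((χ : G → ℂ) (u ^ j))) g, mul_zero]
  refine Finset.sum_eq_zero fun z _ => ?_
  rw [Finset.sum_congr rfl (g := fun χ : Cfsg.IrrCharacter G => (χ : G → ℂ) (g * z) * conj ((χ : G → ℂ) (u ^ j)))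
    (fun χ _ => mul_comm _ _), column_orthogonality, if_neg, mul_zero]
  intro h
  obtain ⟨c, hc⟩ := isConj_iff.1 h
  have h1 : (g * (z : G)) ^ (m * Nat.card (Subgroup.center G)) = 1 := by
    rw [(show Commute g (z : G) from Subgroup.mem_center_iff.1 z.2 g).mul_pow, pow_mul, hg, one_pow, one_mul,
      mul_comm, pow_mul, D.center_pow_eq_one z.2, one_pow]
  have h2 := conj_pow (i := m * Nat.card (Subgroup.center G)) (a := c) (b := g * (z : G))
  rw [hc, h1, mul_one, mul_inv_cancel, ← pow_mul, ← orderOf_dvd_iff_pow_eq_one, D.ord] at h2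
  rcases hp.out.dvd_mul.1 h2 with h3 | h3
  · exact hj h3
  · exact (hp.out.dvd_mul.1 h3).elim hm D.not_dvd_center

/-- The class products of an involution only meet untwisted conjugates of `u`. -/
theorem card_mul_sum_class (hodd : ¬ 2 ∣ Nat.card (Subgroup.center G)) {a : G} (ha : a * a = 1)
    (μ : Subgroup.center G →* ℂˣ) :
    (Nat.card (Subgroup.center G) : ℂ) *
        ∑ χ ∈ centBlock (Subgroup.center G) μ,
          (χ : G → ℂ) a * (χ : G → ℂ) a / (χ : G → ℂ) 1 * (χ : G → ℂ) u⁻¹ =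
      ∑ χ : Cfsg.IrrCharacter G, (χ : G → ℂ) a * (χ : G → ℂ) a / (χ : G → ℂ) 1 * (χ : G → ℂ) u⁻¹ := by
  rw [card_mul_sum_centBlock _ le_rfl μ (fun χ => (χ : G → ℂ) a * (χ : G → ℂ) a / (χ : G → ℂ) 1) u⁻¹]
  refine (Finset.sum_eq_single (1 : Subgroup.center G) ?_ (fun h => absurd (Finset.mem_univ _) h)).trans ?_
  swap
  · simp
  intro z _ hz
  refine mul_eq_zero_of_right _ ?_
  set s := Finset.univ.image fun g : G => g * a * g⁻¹ with hs
  have hcc : (Nat.card (Subgroup.centralizer ({a} : Set G)) : ℂ) ≠ 0 := Nat.cast_ne_zero.2 Nat.card_pos.ne'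
  have hG : (Nat.card G : ℂ) ≠ 0 := Nat.cast_ne_zero.2 Nat.card_pos.ne'
  have hterm : ∀ χ : Cfsg.IrrCharacter G,
      (χ : G → ℂ) a * (χ : G → ℂ) a / (χ : G → ℂ) 1 * (χ : G → ℂ) (u⁻¹ * z) =
      (Nat.card (Subgroup.centralizer ({a} : Set G)) : ℂ) * Nat.card (Subgroup.centralizer ({a} : Set G)) /
        ((Nat.card G : ℂ) * Nat.card G) *
        ∑ x ∈ s, ∑ y ∈ s, (χ : G → ℂ) (x * y) * (χ : G → ℂ) (u⁻¹ * z) := fun χ => by
    have h := CfsgLib.Coh.sum_class_mul χ a a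
    rw [← hs] at h
    simp only [← Finset.sum_mul]
    rw [show (χ : G → ℂ) a * (χ : G → ℂ) a / (χ : G → ℂ) 1 =
      (Nat.card G : ℂ) * (Nat.card G : ℂ) * (χ : G → ℂ) a * (χ : G → ℂ) a / (χ : G → ℂ) 1 /
        ((Nat.card G : ℂ) * Nat.card G) by field_simp, ← h]
    field_simp
  simp only [hterm, ← Finset.mul_sum]
  refine mul_eq_zero_of_right _ ?_
  rw [Finset.sum_comm]
  refine Finset.sum_eq_zero fun x hx => ?_
  rw [Finset.sum_comm]
  refine Finset.sum_eq_zero fun y hy => ?_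
  rw [Finset.sum_congr rfl (g := fun χ : Cfsg.IrrCharacter G =>
    (χ : G → ℂ) (x * y) * conj ((χ : G → ℂ) ((u⁻¹ * (z : G))⁻¹))) (fun χ _ => by
      rw [← IsIrr.map_inv χ.2, inv_inv]), column_orthogonality, if_neg]
  intro h
  obtain ⟨g, hg⟩ := isConj_iff.1 h.symm
  have hinv : ∀ w ∈ s, w * w = 1 := fun w hw => by
    obtain ⟨c, -, rfl⟩ := Finset.mem_image.1 hw
    calc c * a * c⁻¹ * (c * a * c⁻¹) = c * (a * a) * c⁻¹ := by group
      _ = 1 := by rw [ha]; group
  set w := g * u * g⁻¹ with hw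
  set z' : G := (z : G)⁻¹
  have hz' : z' ∈ Subgroup.center G := inv_mem z.2
  have hxy : x * y = w * z' := by
    rw [← hg, hw, mul_inv_rev, inv_inv]
    calc g * ((z : G)⁻¹ * u) * g⁻¹ = g * (u * (z : G)⁻¹) * g⁻¹ := by rw [Subgroup.mem_center_iff.1 hz' u]
      _ = g * u * ((z : G)⁻¹ * g⁻¹) := by group
      _ = g * u * (g⁻¹ * (z : G)⁻¹) := by rw [Subgroup.mem_center_iff.1 hz' g⁻¹]
      _ = g * u * g⁻¹ * (z : G)⁻¹ := by group
  have hyx : x * w * x⁻¹ * z' = w⁻¹ * z'⁻¹ := by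
    calc x * w * x⁻¹ * z' = x * w * (x⁻¹ * z') := by group
      _ = x * w * (z' * x⁻¹) := by rw [Subgroup.mem_center_iff.1 hz' x⁻¹]
      _ = x * (w * z') * x⁻¹ := by group
      _ = x * (x * y) * x⁻¹ := by rw [hxy]
      _ = x * x * y * x⁻¹ := by group
      _ = y⁻¹ * x⁻¹ := by rw [hinv x hx, one_mul, inv_eq_of_mul_eq_one_right (hinv y hy)]
      _ = (x * y)⁻¹ := by group
      _ = z'⁻¹ * w⁻¹ := by rw [hxy]; group
      _ = w⁻¹ * z'⁻¹ := (Subgroup.mem_center_iff.1 (inv_mem hz') w⁻¹).symm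
  have hwp : w ^ p = 1 := by
    rw [hw, conj_pow, ← D.ord, pow_orderOf_eq_one, mul_one, mul_inv_cancel]
  have h1 : (x * w * x⁻¹ * z') ^ p = (w⁻¹ * z'⁻¹) ^ p := by rw [hyx]
  rw [(show Commute (x * w * x⁻¹) z' from Subgroup.mem_center_iff.1 hz' _).mul_pow, conj_pow, hwp, mul_one,
    mul_inv_cancel, one_mul, (show Commute w⁻¹ z'⁻¹ from Subgroup.mem_center_iff.1 (inv_mem hz') _).mul_pow,
    inv_pow w p, hwp, inv_one, one_mul, inv_pow z' p, eq_inv_iff_mul_eq_one] at h1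
  have h2 : (z' * z') ^ p = 1 := by rw [(Commute.refl z').mul_pow]; exact h1
  have h3 := D.eq_one_of_pow_p (mul_mem hz' hz') h2
  have h4 : orderOf z' ∣ Nat.gcd 2 (Nat.card (Subgroup.center G)) :=
    Nat.dvd_gcd (orderOf_dvd_of_pow_eq_one (by rw [pow_two]; exact h3))
      (orderOf_dvd_of_pow_eq_one (D.center_pow_eq_one hz'))
  rw [(Nat.prime_two.coprime_iff_not_dvd.2 hodd).gcd_eq_one] at h4
  exact hz (Subtype.ext (inv_eq_one.1 (orderOf_eq_one_iff.1 (Nat.dvd_one.1 h4))))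

omit [Fintype (Cfsg.IrrCharacter G)] in
/-- In a perfect group the centre has order dividing the degree. -/
theorem center_odd (hperf : _root_.commutator G = ⊤) : ¬ 2 ∣ Nat.card (Subgroup.center G) := by
  intro h
  obtain ⟨⟨z, hz⟩, hzo⟩ := exists_prime_orderOf_dvd_card' (G := Subgroup.center G) 2 h
  rw [← orderOf_submonoid] at hzo
  obtain ⟨n, ρ, hρ, hχ, hn⟩ := CfsgLib.CharDegree.exists_rep ζ
  obtain ⟨c, hc⟩ := CharIntegral.exists_scalar_of_commute ρ (ρ z) fun g => by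
    rw [← map_mul, ← map_mul, Subgroup.mem_center_iff.1 hz g]
  let d : G →* ℂˣ := (LinearMap.det.comp ρ).toHomUnits
  have hd : d z = 1 := by
    have := Abelianization.commutator_subset_ker d (hperf.symm ▸ Subgroup.mem_top z)
    exact this
  have hdet : c ^ (p - 2) = 1 := by
    have h1 : LinearMap.det (ρ z) = 1 := congrArg Units.val hd
    rw [hc, LinearMap.det_smul, LinearMap.det_id, mul_one, Module.finrank_fin_fun, hn, D.deg] at h1
    exact h1
  have hc2 : c * c = 1 := by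
    have hzz : ρ z * ρ z = 1 := by
      rw [← map_mul, ← pow_two, ← hzo, pow_orderOf_eq_one, map_one]
    rw [hc, smul_mul_smul_comm, ← Module.End.one_eq_id, one_mul] at hzz
    have h1 := congrArg (LinearMap.trace ℂ (Fin n → ℂ)) hzz
    rw [map_smul, LinearMap.trace_one, smul_eq_mul] at h1
    refine mul_right_cancel₀ ?_ (h1.trans (one_mul _).symm)
    rw [Module.finrank_fin_fun, hn, D.deg]
    have := D.seven
    exact Nat.cast_ne_zero.2 (by omega)
  obtain ⟨k, hk⟩ : ∃ k, p - 2 = 2 * k + 1 := by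
    have := D.seven
    rcases hp.out.eq_two_or_odd with h2 | h2
    · omega
    · exact ⟨(p - 3) / 2, by omega⟩
  rw [hk, pow_succ, pow_mul, pow_two, hc2, one_pow, one_mul] at hdet
  have hz1 : z = 1 := D.faith z (by
    rw [← hχ, Representation.char_one, Representation.character, hc, hdet, one_smul, LinearMap.trace_id])
  subst hz1
  rw [orderOf_one] at hzo
  omega

omit [Fintype (Cfsg.IrrCharacter G)] in
/-- An involution inverting the Sylow subgroup. -/
theorem exists_involution (hodd : ¬ 2 ∣ Nat.card (Subgroup.center G)) :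
    ∃ a : G, a * a = 1 ∧ a ≠ 1 ∧ a * u * a⁻¹ = u⁻¹ := by
  obtain ⟨g, hg⟩ := D.exists_inverting
  obtain ⟨k, m, hm, hkm⟩ := Nat.exists_eq_two_pow_mul_odd (orderOf_pos g).ne'
  have hg2 : ∀ i : ℕ, g ^ (2 * i) * u * (g ^ (2 * i))⁻¹ = u := by
    intro i
    induction i with
    | zero => simp
    | succ i ih =>
      rw [show 2 * (i + 1) = 2 * i + 1 + 1 by ring, pow_succ', pow_succ', mul_inv_rev, mul_inv_rev,
        show g * (g * g ^ (2 * i)) * u * ((g ^ (2 * i))⁻¹ * g⁻¹ * g⁻¹) =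
          g * (g * (g ^ (2 * i) * u * (g ^ (2 * i))⁻¹) * g⁻¹) * g⁻¹ by group, ih, hg]
      calc g * u⁻¹ * g⁻¹ = (g * u * g⁻¹)⁻¹ := by group
        _ = u := by rw [hg, inv_inv]
  obtain ⟨i, hi⟩ := hm
  have ha : g ^ m * u * (g ^ m)⁻¹ = u⁻¹ := by
    rw [hi, pow_succ', mul_inv_rev, show g * g ^ (2 * i) * u * ((g ^ (2 * i))⁻¹ * g⁻¹) =
      g * (g ^ (2 * i) * u * (g ^ (2 * i))⁻¹) * g⁻¹ by group, hg2, hg]
  refine ⟨g ^ m, ?_, fun h => ?_, ha⟩
  · have hc : g ^ m * g ^ m ∈ Subgroup.centralizer ({u} : Set G) := by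
      rw [← pow_add, ← two_mul, Subgroup.mem_centralizer_singleton_iff]
      exact mul_inv_eq_iff_eq_mul.1 (hg2 m)
    have h2k : (g ^ m * g ^ m) ^ (2 ^ k) = 1 := by
      rw [← pow_add, ← pow_mul, show (m + m) * 2 ^ k = orderOf g * 2 by rw [hkm]; ring, pow_mul,
        pow_orderOf_eq_one, one_pow]
    have hp2 : ¬ p ∣ 2 ^ k := fun h => by
      have := Nat.le_of_dvd two_pos (hp.out.dvd_of_dvd_pow h)
      have := D.seven
      omega
    have hZ := D.mem_center_of_pow hc hp2 h2k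
    have h4 : orderOf (g ^ m * g ^ m) ∣ Nat.gcd (2 ^ k) (Nat.card (Subgroup.center G)) :=
      Nat.dvd_gcd (orderOf_dvd_of_pow_eq_one h2k) (orderOf_dvd_of_pow_eq_one (D.center_pow_eq_one hZ))
    rw [((Nat.prime_two.coprime_iff_not_dvd.2 hodd).pow_left k).gcd_eq_one] at h4
    exact orderOf_eq_one_iff.1 (Nat.dvd_one.1 h4)
  · rw [h, one_mul, inv_one, mul_one] at ha
    exact D.inv_ne_self ha.symm

end Data

end CfsgLib.Char.FeitDegree
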