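import Cfsg.Agent.Lib.CharAction.PGroup
import Mathlib.RingTheory.RootsOfUnity.Lemmas
import Mathlib.Algebra.Field.ZMod
import Mathlib.Data.Nat.Choose.Dvd
import Mathlib.Tactic

/-!
# Congruences between sums of powers of a root of unity of prime order

If an integral combination of powers of a primitive `p`-th root of unity is divisible by `p` then
all moments of the coefficients of degree less than `p - 1` vanish modulo `p`.
-/

set_option autoImplicit false

namespace CfsgLib.Char.FeitDegree

open CfsgLib.CharAction Finset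

variable {p : ℕ} [hp : Fact p.Prime] {ω : ℂ}

theorem isIntegral_root (hω : IsPrimitiveRoot ω p) : IsIntegral ℤ ω :=
  hω.isIntegral hp.out.pos

theorem pow_sub_one_dvd (hω : IsPrimitiveRoot ω p) :
    ∃ u : ℂ, IsIntegral ℤ u ∧ (ω - 1) ^ (p - 1) = (p : ℂ) * u := by
  have hp2 := hp.out.two_le
  have hint := isIntegral_root hω
  have hne : ω - 1 ≠ 0 := sub_ne_zero.2 (hω.ne_one hp.out.one_lt)
  have h := add_pow (ω - 1) 1 p
  simp only [sub_add_cancel, one_pow, mul_one, hω.pow_eq_one] at h
  rw [Finset.sum_range_succ, Finset.sum_range_eq_add_Ico _ hp.out.pos, pow_zero, Nat.choose_zero_right,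
    Nat.cast_one, one_mul, Nat.choose_self, Nat.cast_one, mul_one] at h
  have hd : ∀ k ∈ Finset.Ico 1 p, ∃ c : ℕ, p.choose k = p * c := fun k hk => by
    rw [Finset.mem_Ico] at hk
    exact Nat.Prime.dvd_choose hp.out hk.2 (by omega) le_rfl
  choose! c hc using hd
  have h1 : (ω - 1) * (ω - 1) ^ (p - 1) =
      (ω - 1) * ((p : ℂ) * ∑ k ∈ Finset.Ico 1 p, -((ω - 1) ^ (k - 1) * (c k : ℂ))) := by
    rw [← pow_succ', show p - 1 + 1 = p by omega, Finset.mul_sum, Finset.mul_sum]
    have h2 : ∑ k ∈ Finset.Ico 1 p, (ω - 1) * ((p : ℂ) * -((ω - 1) ^ (k - 1) * (c k : ℂ))) =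
        - ∑ k ∈ Finset.Ico 1 p, (ω - 1) ^ k * (p.choose k : ℂ) := by
      rw [← Finset.sum_neg_distrib]
      refine Finset.sum_congr rfl fun k hk => ?_
      rw [hc k hk, Nat.cast_mul]
      obtain ⟨j, rfl⟩ : ∃ j, k = j + 1 := ⟨k - 1, by rw [Finset.mem_Ico] at hk; omega⟩
      rw [Nat.add_sub_cancel, pow_succ]
      ring
    rw [h2]
    linear_combination -h
  refine ⟨_, IsIntegral.sum _ fun k _ => ?_, mul_left_cancel₀ hne h1⟩
  exact (((hint.sub isIntegral_one).pow _).mul (isIntegral_algebraMap (R := ℤ) (A := ℂ) (x := (c k : ℤ)) |>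
    fun h => by simpa using h)).neg

theorem eq_pow_sub_one_mul (hω : IsPrimitiveRoot ω p) :
    ∃ w : ℂ, IsIntegral ℤ w ∧ (p : ℂ) = (ω - 1) ^ (p - 1) * w := by
  obtain ⟨n, rfl⟩ : ∃ n, p = n + 1 := ⟨p - 1, by have := hp.out.pos; omega⟩
  have h := IsPrimitiveRoot.prod_one_sub_pow_eq_order hω
  have hint := isIntegral_root hω
  refine ⟨∏ k ∈ Finset.range n, -∑ i ∈ Finset.range (k + 1), ω ^ i,
    IsIntegral.prod _ fun k _ => (IsIntegral.sum _ fun i _ => hint.pow i).neg, ?_⟩
  rw [Nat.add_sub_cancel, Nat.cast_add, Nat.cast_one, ← h,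
    show (ω - 1) ^ n = ∏ k ∈ Finset.range n, (ω - 1) by simp, ← Finset.prod_mul_distrib]
  refine Finset.prod_congr rfl fun k _ => ?_
  have := geom_sum_mul ω (k + 1)
  linear_combination this

/-- The vanishing of the moments. -/
theorem moment_eq_zero (hω : IsPrimitiveRoot ω p) {ι : Type*} (s : Finset ι) (a : ι → ℤ) (r : ι → ℕ)
    (h : CongMod p (∑ i ∈ s, (a i : ℂ) * ω ^ r i) 0) :
    ∀ m : ℕ, m < p - 1 → ∑ i ∈ s, (a i : ZMod p) * (r i : ZMod p) ^ m = 0 := by
  classical
  have hint := isIntegral_root hω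
  have hne : ω - 1 ≠ 0 := sub_ne_zero.2 (hω.ne_one hp.out.one_lt)
  obtain ⟨α, hα, hsum⟩ := h
  rw [sub_zero] at hsum
  set R := s.sup r with hR
  set b : ℕ → ℤ := fun k => ∑ i ∈ s, a i * ((r i).choose k : ℤ) with hb
  have hexp : ∑ i ∈ s, (a i : ℂ) * ω ^ r i = ∑ k ∈ Finset.range (R + 1), (b k : ℂ) * (ω - 1) ^ k := by
    simp only [hb, Int.cast_sum, Int.cast_mul, Int.cast_natCast, Finset.sum_mul]
    rw [Finset.sum_comm]
    refine Finset.sum_congr rfl fun i hi => ?_
    have h1 := add_pow (ω - 1) 1 (r i)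
    simp only [sub_add_cancel, one_pow, mul_one] at h1
    rw [h1, Finset.mul_sum]
    have hle : r i ≤ R := Finset.le_sup hi
    rw [← Finset.sum_subset (Finset.range_mono (show r i + 1 ≤ R + 1 by omega))
      (fun k _ hk => by
        rw [Finset.mem_range, not_lt] at hk
        simp [Nat.choose_eq_zero_of_lt (show r i < k by omega)])]
    exact Finset.sum_congr rfl fun k _ => by ring
  obtain ⟨u, hu, hueq⟩ := pow_sub_one_dvd hω
  obtain ⟨w, hw, hweq⟩ := eq_pow_sub_one_mul hω
  have hbz : ∀ m, m < p - 1 → (b m : ZMod p) = 0 := by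
    intro m
    induction m using Nat.strong_induction_on with
    | _ m ih =>
      intro hm
      have hlow : ∀ k, k < m → ∃ c : ℤ, b k = p * c := fun k hk =>
        (ZMod.intCast_zmod_eq_zero_iff_dvd _ _).1 (ih k hk (by omega))
      choose! c hc using hlow
      -- `b m` is a multiple of `ω - 1`
      obtain ⟨β, hβ, hβeq⟩ : ∃ β : ℂ, IsIntegral ℤ β ∧ (b m : ℂ) = (ω - 1) * β := by
        rcases Nat.lt_or_ge R m with hRm | hmR
        · refine ⟨0, isIntegral_zero, ?_⟩
          rw [mul_zero, hb]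
          simp only [Int.cast_eq_zero]
          refine Finset.sum_eq_zero fun i hi => ?_
          rw [Nat.choose_eq_zero_of_lt (lt_of_le_of_lt (Finset.le_sup hi) hRm)]
          simp
        obtain ⟨q, hq⟩ : ∃ q, p - 1 = m + 1 + q := ⟨p - 1 - m - 1, by omega⟩
        refine ⟨(ω - 1) ^ q * w * (α - ∑ k ∈ Finset.range m, (c k : ℂ) * (ω - 1) ^ k) -
          ∑ k ∈ Finset.Ico (m + 1) (R + 1), (b k : ℂ) * (ω - 1) ^ (k - m - 1), ?_, ?_⟩
        · refine IsIntegral.sub ((((hint.sub isIntegral_one).pow _).mul hw).mul (hα.sub ?_)) ?_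
          · exact IsIntegral.sum _ fun k _ => (isIntegral_algebraMap (R := ℤ) (A := ℂ) (x := c k)).mul
              ((hint.sub isIntegral_one).pow _)
          · exact IsIntegral.sum _ fun k _ => (isIntegral_algebraMap (R := ℤ) (A := ℂ) (x := b k)).mul
              ((hint.sub isIntegral_one).pow _)
        · have h1 := hsum
          rw [hexp, ← Finset.sum_range_add_sum_Ico _ (show m + 1 ≤ R + 1 by omega),
            Finset.sum_range_succ] at h1
          have h2 : ∑ k ∈ Finset.range m, (b k : ℂ) * (ω - 1) ^ k =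
              (p : ℂ) * ∑ k ∈ Finset.range m, (c k : ℂ) * (ω - 1) ^ k := by
            rw [Finset.mul_sum]
            refine Finset.sum_congr rfl fun k hk => ?_
            rw [hc k (Finset.mem_range.1 hk)]
            push_cast
            ring
          have h3 : ∑ k ∈ Finset.Ico (m + 1) (R + 1), (b k : ℂ) * (ω - 1) ^ k =
              (ω - 1) ^ (m + 1) * ∑ k ∈ Finset.Ico (m + 1) (R + 1), (b k : ℂ) * (ω - 1) ^ (k - m - 1) := by
            rw [Finset.mul_sum]
            refine Finset.sum_congr rfl fun k hk => ?_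
            rw [Finset.mem_Ico] at hk
            obtain ⟨j, rfl⟩ : ∃ j, k = m + 1 + j := ⟨k - m - 1, by omega⟩
            rw [show m + 1 + j - m - 1 = j by omega, pow_add]
            ring
          rw [h2, h3, hweq, hq] at h1
          refine mul_left_cancel₀ (pow_ne_zero m hne) ?_
          simp only [pow_add, pow_one] at h1 ⊢
          linear_combination h1
      have h1 : CongMod p (((b m ^ (p - 1) : ℤ)) : ℂ) ((0 : ℤ) : ℂ) :=
        ⟨u * β ^ (p - 1), hu.mul (hβ.pow _), by
          push_cast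
          rw [hβeq, mul_pow, hueq]
          ring⟩
      have h2 := CongMod.dvd_sub_of_intCast hp.out.ne_zero h1
      rw [sub_zero] at h2
      have h3 : ((b m ^ (p - 1) : ℤ) : ZMod p) = 0 := (ZMod.intCast_zmod_eq_zero_iff_dvd _ _).2 h2
      push_cast at h3
      exact eq_zero_of_pow_eq_zero h3
  have key : ∀ k n, k + n < p - 1 →
      ∑ i ∈ s, (a i : ZMod p) * (r i : ZMod p) ^ k * ((r i).choose n : ZMod p) = 0 := by
    intro k
    induction k with
    | zero =>
      intro n hn
      have := hbz n (by omega)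
      simpa [hb] using this
    | succ k ih =>
      intro n hn
      have h1 := ih n (by omega)
      have h2 := ih (n + 1) (by omega)
      have h3 : ∀ i, (r i : ZMod p) * ((r i).choose n : ZMod p) =
          (n + 1) * ((r i).choose (n + 1) : ZMod p) + n * ((r i).choose n : ZMod p) := by
        intro i
        have e : r i * (r i).choose n = (n + 1) * (r i).choose (n + 1) + n * (r i).choose n := by
          rcases Nat.lt_or_ge (r i) n with h | h
          · simp [Nat.choose_eq_zero_of_lt h, Nat.choose_eq_zero_of_lt (Nat.lt_succ_of_lt h)]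
          · have e' := Nat.choose_succ_right_eq (r i) n
            obtain ⟨d, hd⟩ := Nat.exists_eq_add_of_le h
            rw [hd, Nat.add_sub_cancel_left] at e'
            rw [hd]
            linarith [e']
        exact_mod_cast congrArg (Nat.cast (R := ZMod p)) e
      calc ∑ i ∈ s, (a i : ZMod p) * (r i : ZMod p) ^ (k + 1) * ((r i).choose n : ZMod p)
          = ∑ i ∈ s, ((n + 1) * ((a i : ZMod p) * (r i : ZMod p) ^ k * ((r i).choose (n + 1) : ZMod p)) +
              n * ((a i : ZMod p) * (r i : ZMod p) ^ k * ((r i).choose n : ZMod p))) :=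
            Finset.sum_congr rfl fun i _ => by
              linear_combination ((a i : ZMod p) * (r i : ZMod p) ^ k) * h3 i
        _ = 0 := by rw [Finset.sum_add_distrib, ← Finset.mul_sum, ← Finset.mul_sum, h1, h2]; ring
  intro m hm
  simpa using key m 0 (by omega)

end CfsgLib.Char.FeitDegree
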