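import Cfsg.Agent.Lib.Char.FeitDegree.CentralTwist
import Cfsg.Agent.Lib.Perm.FewSylowTable

/-!
# The characters with the centre in their kernel
-/

set_option autoImplicit false

namespace CfsgLib.Char.FeitDegree

open CfsgLib.CharAction Finset
open scoped Classical ComplexConjugate Pointwise

variable {p : ℕ} [hp : Fact p.Prime]

namespace Data

variable {G : Type*} [Group G] [Fintype G] {P : Sylow p G} {u : G} {ζ : Cfsg.IrrCharacter G}
variable (D : Data P u ζ)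
include D

variable [Fintype (Cfsg.IrrCharacter G)]

set_option maxHeartbeats 1000000 in
/-- The class sum over the trivial character of the centre. -/
theorem exists_untwisted (hperf : _root_.commutator G = ⊤) {a : G} (ha : a * a = 1) (hau : a * u * a⁻¹ = u⁻¹) :
    ∃ X v : ℝ, 0 < X * (X + 1) ∧ ((p : ℝ) - 1) ^ 2 * (X * (X + 1)) ≤ (p : ℝ) ^ 2 * (X - v) ^ 2 ∧
      ∑ χ : Cfsg.IrrCharacter G, (χ : G → ℂ) a * (χ : G → ℂ) a / (χ : G → ℂ) 1 * (χ : G → ℂ) u⁻¹ =
        (Nat.card (Subgroup.center G) : ℂ) * (((X - v) ^ 2 / (X * (X + 1)) : ℝ) : ℂ) := by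
  have hpp := hp.out
  have h7 := D.seven
  have hodd := D.center_odd hperf
  set Z := Subgroup.center G with hZ
  have hmk : Function.Surjective (QuotientGroup.mk' Z) := QuotientGroup.mk'_surjective Z
  haveI : Fintype (G ⧸ Z) := Fintype.ofFinite _
  haveI : Fintype (Cfsg.IrrCharacter (G ⧸ Z)) := Fintype.ofFinite _
  set P' : Sylow p (G ⧸ Z) := P.mapSurjective hmk with hP'
  have hP'coe : (P' : Subgroup (G ⧸ Z)) = (P : Subgroup G).map (QuotientGroup.mk' Z) := rfl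
  set u' : G ⧸ Z := QuotientGroup.mk' Z u with hu'
  set a' : G ⧸ Z := QuotientGroup.mk' Z a with ha'
  have hinjP : Set.InjOn (QuotientGroup.mk' Z) ((P : Subgroup G) : Set G) := by
    intro x hx y hy h
    rw [QuotientGroup.mk'_eq_mk'] at h
    obtain ⟨z, hz, rfl⟩ := h
    have h1 : z ∈ (P : Subgroup G) := by
      have := (P : Subgroup G).mul_mem ((P : Subgroup G).inv_mem hx) hy
      simpa using this
    rw [D.eq_one_of_mem_center h1 hz, mul_one]
  have hcardP : Nat.card (P' : Subgroup (G ⧸ Z)) = p := by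
    refine Eq.trans ?_ D.card
    rw [hP'coe]
    show Nat.card ↥((P : Subgroup G).map (QuotientGroup.mk' Z) : Set (G ⧸ Z)) = _
    rw [Subgroup.coe_map, Nat.card_image_of_injOn hinjP]
    rfl
  have hu'P : u' ∈ (P' : Subgroup (G ⧸ Z)) := by rw [hP'coe]; exact ⟨u, D.mem, rfl⟩
  have hu'1 : u' ≠ 1 := fun h => D.ne_one (hinjP D.mem (P : Subgroup G).one_mem (by rw [map_one]; exact h))
  -- preimages of centralising and normalising elements
  have hlift : ∀ g : G, ∀ j : ℕ, (QuotientGroup.mk' Z g) * u' * (QuotientGroup.mk' Z g)⁻¹ = u' ^ j →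
      g * u * g⁻¹ = u ^ j := by
    intro g j h
    rw [hu', ← map_inv, ← map_mul, ← map_mul, ← map_pow, QuotientGroup.mk'_eq_mk'] at h
    obtain ⟨z, hz, he⟩ := h
    have h1 : (g * u * g⁻¹ * z) ^ p = 1 := by
      rw [he, ← pow_mul, mul_comm, pow_mul, ← D.ord, pow_orderOf_eq_one, one_pow]
    rw [(show Commute (g * u * g⁻¹) z from Subgroup.mem_center_iff.1 hz _).mul_pow, conj_pow,
      show u ^ p = 1 by rw [← D.ord]; exact pow_orderOf_eq_one u, mul_one, mul_inv_cancel, one_mul] at h1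
    rwa [D.eq_one_of_pow_p hz h1, mul_one] at he
  have hC : Subgroup.centralizer ((P' : Subgroup (G ⧸ Z)) : Set (G ⧸ Z)) = (P' : Subgroup (G ⧸ Z)) := by
    refine le_antisymm (fun q hq => ?_) ?_
    · obtain ⟨g, rfl⟩ := hmk q
      have h1 := hlift g 1 (by
        rw [pow_one, ← Subgroup.mem_centralizer_iff.1 hq u' hu'P, mul_inv_cancel_right])
      rw [pow_one] at h1
      obtain ⟨x, hx, z, hz, rfl⟩ := D.exists_mul_center
        (Subgroup.mem_centralizer_singleton_iff.2 (mul_inv_eq_iff_eq_mul.1 h1))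
      rw [map_mul, show QuotientGroup.mk' Z z = 1 from (QuotientGroup.eq_one_iff z).2 hz, mul_one, hP'coe]
      exact ⟨x, hx, rfl⟩
    · haveI : IsCyclic (P' : Subgroup (G ⧸ Z)) := isCyclic_of_prime_card hcardP
      exact fun y hy => Subgroup.mem_centralizer_iff.2 fun z hz =>
        congrArg Subtype.val ((IsCyclic.commGroup (α := (P' : Subgroup (G ⧸ Z)))).mul_comm ⟨z, hz⟩ ⟨y, hy⟩)
  have hperf' : _root_.commutator (G ⧸ Z) = ⊤ := by
    rw [_root_.commutator_def, ← Subgroup.map_top_of_surjective _ hmk, ← Subgroup.map_commutator,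
      ← _root_.commutator_def, hperf]
  obtain ⟨b, e, t, n, F⟩ := CfsgLib.Perm.FewSylow.exists_frame P' hcardP hC hperf'
  -- the index is two
  have he : e = 2 := by
    obtain ⟨g, hg⟩ := hmk b
    have hmem : b * u' * b⁻¹ ∈ (P' : Subgroup (G ⧸ Z)) := (Subgroup.mem_normalizer_iff.1 F.mem u').1 hu'P
    rw [hP'coe] at hmem
    obtain ⟨x, hx, hxe⟩ := hmem
    rw [SetLike.mem_coe, ← D.zpowers_eq, mem_zpowers_iff_mem_range_orderOf, Finset.mem_image] at hx
    obtain ⟨j, -, rfl⟩ := hx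
    have h1 := hlift g j (by rw [hg, ← hxe, map_pow])
    have hgN : g ∈ Subgroup.normalizer ((P : Subgroup G) : Set G) := by
      refine Subgroup.mem_normalizer_fintype (S := ((P : Subgroup G) : Set G)) fun y hy => ?_
      rw [SetLike.mem_coe, ← D.zpowers_eq] at hy ⊢
      obtain ⟨i, rfl⟩ := hy
      rw [← conj_zpow, h1]
      exact zpow_mem (pow_mem (Subgroup.mem_zpowers u) _) i
    have hg2 : g * g ∈ Subgroup.centralizer ({u} : Set G) := by
      refine Subgroup.mem_centralizer_singleton_iff.2 (mul_inv_eq_iff_eq_mul.1 ?_)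
      rw [show g * g * u * (g * g)⁻¹ = g * (g * u * g⁻¹) * g⁻¹ by group]
      rcases D.mem_or_inverts hgN with h | h
      · rw [Subgroup.mem_centralizer_singleton_iff.1 h, mul_inv_cancel_right,
          Subgroup.mem_centralizer_singleton_iff.1 h, mul_inv_cancel_right]
      · rw [h]
        calc g * u⁻¹ * g⁻¹ = (g * u * g⁻¹)⁻¹ := by group
          _ = u := by rw [h, inv_inv]
    obtain ⟨x, hx, z, hz, hgg⟩ := D.exists_mul_center hg2
    have hbb : b ^ 2 ∈ (P' : Subgroup (G ⧸ Z)) := by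
      rw [pow_two, ← hg, ← map_mul, hgg, map_mul,
        show QuotientGroup.mk' Z z = 1 from (QuotientGroup.eq_one_iff z).2 hz, mul_one, hP'coe]
      exact ⟨x, hx, rfl⟩
    have h2 := F.eq_one_of_mem hbb (pow_mem (Subgroup.mem_zpowers b) 2)
    rw [← orderOf_dvd_iff_pow_eq_one, F.ord] at h2
    have := Nat.le_of_dvd two_pos h2
    have := F.two
    omega
  subst he
  obtain ⟨Xs, Y, εX, ε, hdisj, hTX, hT1, hXc, hYc, hX, hε, hYdeg, hYagree, hrel, hYsum, hK0, -⟩ :=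
    CfsgLib.Perm.FewSylow.exists_values F
  obtain ⟨χ, hχX, hχT⟩ : ∃ χ ∈ Xs, χ ≠ trivChar (G ⧸ Z) := by
    by_contra hno
    push Not at hno
    have : Xs.card ≤ ({trivChar (G ⧸ Z)} : Finset _).card :=
      Finset.card_le_card fun χ hχ => Finset.mem_singleton.2 (hno χ hχ)
    rw [hXc, Finset.card_singleton] at this
    omega
  have hXeq : Xs = {trivChar (G ⧸ Z), χ} := by
    refine (Finset.eq_of_subset_of_card_le (Finset.insert_subset hTX (Finset.singleton_subset_iff.2 hχX)) ?_).symm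
    rw [Finset.card_pair hχT.symm, hXc]
  obtain ⟨hs, hmod, hval⟩ := hX χ hχX
  have ha'2 : a' * a' = 1 := by rw [ha', ← map_mul, ha, map_one]
  have hareg : ¬ p ∣ orderOf a' := fun h => by
    have := Nat.le_of_dvd two_pos (h.trans (orderOf_dvd_of_pow_eq_one (show a' ^ 2 = 1 by rw [pow_two, ha'2])))
    omega
  have h1reg : ¬ p ∣ orderOf (1 : G ⧸ Z) := by rw [orderOf_one]; exact hpp.not_dvd_one
  have hu's : u'⁻¹ ∈ CfsgLib.Perm.FewSylow.star (P' : Subgroup (G ⧸ Z)) :=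
    CfsgLib.Perm.FewSylow.mem_star.2 ⟨inv_ne_one.2 hu'1, inv_mem hu'P⟩
  have hone : ∀ η : Cfsg.IrrCharacter (G ⧸ Z), (η : G ⧸ Z → ℂ) 1 = (Cfsg.charDegree (η : G ⧸ Z → ℂ) : ℂ) :=
    fun η => (CfsgLib.CharDegree.cast_irrDegree η).symm
  obtain ⟨θ₀, hθ₀⟩ : Y.Nonempty := Finset.card_pos.1 (by rw [hYc]; exact F.t_pos)
  set x := Cfsg.charDegree (χ : G ⧸ Z → ℂ) with hx
  set d := Cfsg.charDegree (θ₀ : G ⧸ Z → ℂ) with hd
  have hx0 : 0 < x := CfsgLib.CharDegree.charDegree_pos χ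
  have hd0 : 0 < d := CfsgLib.CharDegree.charDegree_pos θ₀
  have hx1 : x ≠ 1 := fun h => hχT (CfsgLib.Perm.FewSylow.eq_trivChar hperf' χ h)
  set v : ℝ := ((χ : G ⧸ Z → ℂ) a').re with hv
  set w : ℝ := ((θ₀ : G ⧸ Z → ℂ) a').re with hw
  have hva : (χ : G ⧸ Z → ℂ) a' = (v : ℂ) := apply_involution_real ha'2 χ
  have hwa : (θ₀ : G ⧸ Z → ℂ) a' = (w : ℂ) := apply_involution_real ha'2 θ₀
  have hdeg : (ε : ℤ) * d = 1 + εX χ * x := by
    have h := hrel θ₀ hθ₀ 1 h1reg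
    rw [hXeq, Finset.sum_pair hχT.symm, hT1, trivChar_apply, hone, hone, Int.cast_one, one_mul] at h
    exact_mod_cast h
  have hwv : (ε : ℝ) * w = 1 + (εX χ : ℝ) * v := by
    have h := hrel θ₀ hθ₀ a' hareg
    rw [hXeq, Finset.sum_pair hχT.symm, hT1, trivChar_apply, hva, hwa, Int.cast_one, one_mul] at h
    exact_mod_cast h
  -- the sum
  have hclass := D.card_mul_sum_class hodd ha (1 : Z →* ℂˣ)
  have hinfl : ∑ η ∈ centBlock Z (1 : Z →* ℂˣ),
      (η : G → ℂ) a * (η : G → ℂ) a / (η : G → ℂ) 1 * (η : G → ℂ) u⁻¹ =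
      ∑ ψ : Cfsg.IrrCharacter (G ⧸ Z),
        (ψ : G ⧸ Z → ℂ) a' * (ψ : G ⧸ Z → ℂ) a' / (ψ : G ⧸ Z → ℂ) 1 * (ψ : G ⧸ Z → ℂ) u'⁻¹ := by
    symm
    refine Finset.sum_bij (fun ψ _ => CfsgLib.CharDegree.infl Z ψ) ?_ ?_ ?_ ?_
    · intro ψ _
      refine mem_centBlock.2 fun g z => ?_
      rw [MonoidHom.one_apply, Units.val_one, one_mul, CfsgLib.CharDegree.infl_apply,
        CfsgLib.CharDegree.infl_apply, QuotientGroup.mk_mul, (QuotientGroup.eq_one_iff (z : G)).2 z.2, mul_one]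
    · intro ψ _ ψ' _ h
      exact CfsgLib.CharDegree.infl_injective Z h
    · intro η hη
      obtain ⟨ψ, hψ⟩ := CfsgLib.CharDegree.exists_infl Z η fun g hg => by
        have := mem_centBlock.1 hη 1 ⟨g, hg⟩
        rwa [MonoidHom.one_apply, Units.val_one, one_mul, one_mul] at this
      exact ⟨ψ, Finset.mem_univ _, hψ⟩
    · intro ψ _
      rw [CfsgLib.CharDegree.infl_apply, CfsgLib.CharDegree.infl_apply, CfsgLib.CharDegree.infl_apply,
        hu', ← map_inv]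
      rfl
  have hYd : ∀ θ ∈ Y, (θ : G ⧸ Z → ℂ) 1 = (d : ℂ) ∧ (θ : G ⧸ Z → ℂ) a' = (w : ℂ) := fun θ hθ =>
    ⟨(hYagree θ hθ θ₀ hθ₀ 1 h1reg).trans (hone θ₀), (hYagree θ hθ θ₀ hθ₀ a' hareg).trans hwa⟩
  have hsplit : ∀ f : Cfsg.IrrCharacter (G ⧸ Z) → ℂ, (∀ ψ, ψ ∉ Xs ∪ Y → f ψ = 0) →
      ∑ ψ, f ψ = f (trivChar _) + f χ + ∑ θ ∈ Y, f θ := fun f hf => by
    rw [← Finset.sum_subset (Finset.subset_univ (Xs ∪ Y)) (fun ψ _ h => hf ψ h), Finset.sum_union hdisj, hXeq,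
      Finset.sum_pair hχT.symm]
  have hYu : ∑ θ ∈ Y, (θ : G ⧸ Z → ℂ) u'⁻¹ = -(ε : ℂ) := by
    have h := column_orthogonality (u'⁻¹) (1 : G ⧸ Z)
    rw [if_neg (fun h => inv_ne_one.2 hu'1 (isConj_one_left.1 h)),
      hsplit _ (fun ψ hψ => by rw [hK0 ψ hψ _ hu's, zero_mul]), trivChar_apply, trivChar_apply, map_one, one_mul,
      hval _ hu's, hone χ, Complex.conj_natCast,
      Finset.sum_congr rfl (s₁ := Y) (g := fun θ => (θ : G ⧸ Z → ℂ) u'⁻¹ * (d : ℂ)) (fun θ hθ => by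
        rw [(hYd θ hθ).1, Complex.conj_natCast]), ← Finset.sum_mul] at h
    have hdegC : (ε : ℂ) * d = 1 + (εX χ : ℂ) * x := by exact_mod_cast hdeg
    refine mul_right_cancel₀ (Nat.cast_ne_zero.2 hd0.ne' : (d : ℂ) ≠ 0) ?_
    linear_combination h + hdegC
  have hε2 : (ε : ℂ) * ε = 1 := by rcases hε with h | h <;> simp [h]
  -- the degree and the bounds
  have hinv : ∀ y ∈ (P' : Subgroup (G ⧸ Z)), a' * y * a'⁻¹ = y⁻¹ := by
    intro y hy
    rw [hP'coe] at hy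
    obtain ⟨y₀, hy₀, rfl⟩ := hy
    rw [SetLike.mem_coe, ← D.zpowers_eq] at hy₀
    obtain ⟨i, rfl⟩ := hy₀
    rw [ha', ← map_inv, ← map_mul, ← map_mul, ← map_inv]
    congr 1
    show a * u ^ i * a⁻¹ = (u ^ i)⁻¹
    rw [← conj_zpow, hau, inv_zpow]
  have hodd' : ¬ 2 ∣ Nat.card (P' : Subgroup (G ⧸ Z)) := by
    rw [hcardP]
    intro h
    have := (Nat.prime_dvd_prime_iff_eq Nat.prime_two hpp).1 h
    omega
  obtain ⟨m, hm⟩ := CfsgLib.Perm.CharAverage.exists_sum_eq (P' : Subgroup (G ⧸ Z)) (IsIrr.isCharacter χ.2)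
  obtain ⟨l, hl⟩ := CfsgLib.Perm.CharAverage.exists_sum_eq (P' : Subgroup (G ⧸ Z)) (IsIrr.isCharacter θ₀.2)
  have hbv := card_mul_norm_le (P' : Subgroup (G ⧸ Z)) hodd' hinv χ
  have hbw := card_mul_norm_le (P' : Subgroup (G ⧸ Z)) hodd' hinv θ₀
  rw [hm, hcardP, ← Nat.cast_mul, Complex.natCast_re, Nat.cast_mul, hva, Complex.norm_real, Real.norm_eq_abs] at hbv
  rw [hl, hcardP, ← Nat.cast_mul, Complex.natCast_re, Nat.cast_mul, hwa, Complex.norm_real, Real.norm_eq_abs] at hbw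
  have hp0 : (0 : ℝ) < p := Nat.cast_pos.2 hpp.pos
  have hbv' : |v| ≤ (m : ℝ) := le_of_mul_le_mul_left hbv hp0
  have hbw' : |w| ≤ (l : ℝ) := le_of_mul_le_mul_left hbw hp0
  rw [CfsgLib.Perm.FewSylow.sum_subgroup, hone, Finset.sum_congr rfl hval, Finset.sum_const, F.card_Pstar,
    hcardP, nsmul_eq_mul] at hm
  rw [CfsgLib.Perm.FewSylow.sum_subgroup, hone, hYsum θ₀ hθ₀, hcardP] at hl
  have h2t : (2 * t : ℕ) = p - 1 := by have := F.et; omega
  rw [h2t, Nat.cast_sub hpp.one_le] at hm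
  have hm' : (x : ℤ) + ((p : ℤ) - 1) * εX χ = p * m := by exact_mod_cast hm
  have hl' : (d : ℤ) + -(ε * 2) = p * l := by exact_mod_cast hl
  refine ⟨(εX χ : ℝ) * x, (εX χ : ℝ) * v, ?_, ?_, ?_⟩
  rotate_left 2
  · rw [← hclass, hinfl, hsplit _ (fun ψ hψ => by rw [hK0 ψ hψ _ hu's, mul_zero]), trivChar_apply,
      trivChar_apply, trivChar_apply, hva, hone χ, hval _ hu's, one_mul, div_one, one_mul,
      Finset.sum_congr rfl (s₁ := Y) (g := fun θ => (w : ℂ) * w / d * (θ : G ⧸ Z → ℂ) u'⁻¹) (fun θ hθ => by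
        rw [(hYd θ hθ).1, (hYd θ hθ).2]), ← Finset.mul_sum, hYu]
    refine congrArg (fun z : ℂ => (Nat.card Z : ℂ) * z) ?_
    have hdegR : (ε : ℝ) * d = 1 + (εX χ : ℝ) * x := by exact_mod_cast hdeg
    have key : 1 + v * v / (x : ℝ) * (εX χ : ℝ) + w * w / (d : ℝ) * -(ε : ℝ) =
        ((εX χ : ℝ) * x - (εX χ : ℝ) * v) ^ 2 / ((εX χ : ℝ) * x * ((εX χ : ℝ) * x + 1)) := by
      have hxR : (x : ℝ) ≠ 0 := Nat.cast_ne_zero.2 hx0.ne'
      have hdR : (d : ℝ) ≠ 0 := Nat.cast_ne_zero.2 hd0.ne'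
      rcases hs with h | h <;> rcases hε with h' | h' <;> rw [h, h'] at hdegR hwv <;> rw [h, h'] <;>
        push_cast at hdegR hwv ⊢
      · have hw' : w = 1 + v := by linarith
        have hd' : (d : ℝ) = 1 + x := by linarith
        have h0 : (1 : ℝ) + x ≠ 0 := hd' ▸ hdR
        have h0' : (x : ℝ) + 1 ≠ 0 := by rwa [add_comm]
        rw [hw', hd']; field_simp; ring
      · exfalso
        have : (0 : ℝ) < d := Nat.cast_pos.2 hd0
        have : (0 : ℝ) ≤ x := Nat.cast_nonneg x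
        linarith
      · have hw' : w = 1 - v := by linarith
        have hd' : (d : ℝ) = 1 - x := by linarith
        exfalso
        have : (0 : ℝ) < d := Nat.cast_pos.2 hd0
        have : (2 : ℝ) ≤ x := by exact_mod_cast (show 2 ≤ x by omega)
        linarith
      · have hw' : w = v - 1 := by linarith
        have hd' : (d : ℝ) = x - 1 := by linarith
        have h0 : (x : ℝ) - 1 ≠ 0 := hd' ▸ hdR
        have h0' : (-(x : ℝ)) + 1 ≠ 0 := fun h => h0 (by linarith)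
        rw [hw', hd']; field_simp; ring
    rw [← key]
    push_cast
    ring
  all_goals
    rcases hs with h | h <;> rw [h] at hm' hdeg hwv ⊢
  · push_cast
    have : (2 : ℝ) ≤ x := by exact_mod_cast (show 2 ≤ x by omega)
    nlinarith
  · push_cast
    have : (2 : ℝ) ≤ x := by exact_mod_cast (show 2 ≤ x by omega)
    nlinarith
  · -- `χ` positive
    have hε1 : ε = 1 := hε.resolve_right fun h' => by rw [h'] at hdeg; omega
    rw [hε1] at hdeg hwv hl'
    obtain ⟨k, rfl⟩ : ∃ k, m = k + 1 := ⟨m - 1, by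
      rcases m with _ | m
      · simp at hm'; omega
      · omega⟩
    push_cast at hm' hdeg hl' hwv
    have hxk : (x : ℤ) = p * k + 1 := by linarith
    have hlk : l = k := by
      have h1 : (p : ℤ) * ((l : ℤ) - k) = 0 := by linear_combination -hl' + hdeg + hxk
      have := (mul_eq_zero.1 h1).resolve_left (by exact_mod_cast hpp.ne_zero)
      omega
    subst hlk
    have hxR : (x : ℝ) = p * l + 1 := by exact_mod_cast hxk
    obtain ⟨hw1, hw2⟩ := abs_le.1 hbw'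
    have hpR : (7 : ℝ) ≤ p := by exact_mod_cast h7
    have hlR : (0 : ℝ) ≤ l := Nat.cast_nonneg l
    have hv' : v ≤ (l : ℝ) - 1 := by linarith
    push_cast
    simp only [one_mul]
    rw [hxR]
    have h1 : (l : ℝ) * ((p : ℝ) - 1) + 2 ≤ (p : ℝ) * l + 1 - v := by nlinarith
    have h2 : ((l : ℝ) * ((p : ℝ) - 1) + 2) ^ 2 ≤ ((p : ℝ) * l + 1 - v) ^ 2 :=
      pow_le_pow_left₀ (by nlinarith) h1 2
    nlinarith [mul_le_mul_of_nonneg_left h2 (sq_nonneg (p : ℝ)), mul_nonneg hlR (mul_nonneg hp0.le (show (0 : ℝ) ≤ (p : ℝ) - 1 by linarith))]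
  · -- `χ` negative
    push_cast at hm' hdeg hwv
    have hxk : (x : ℤ) = p * ((m : ℤ) + 1) - 1 := by linarith
    have hxR : (x : ℝ) = p * ((m : ℝ) + 1) - 1 := by exact_mod_cast hxk
    obtain ⟨hv1, hv2⟩ := abs_le.1 hbv'
    have hpR : (7 : ℝ) ≤ p := by exact_mod_cast h7
    have hmR : (0 : ℝ) ≤ m := Nat.cast_nonneg m
    push_cast
    rw [hxR]
    have h1 : ((m : ℝ) + 1) * ((p : ℝ) - 1) ≤ (p : ℝ) * ((m : ℝ) + 1) - 1 - v := by nlinarith
    have h2 : (((m : ℝ) + 1) * ((p : ℝ) - 1)) ^ 2 ≤ ((p : ℝ) * ((m : ℝ) + 1) - 1 - v) ^ 2 :=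
      pow_le_pow_left₀ (by nlinarith) h1 2
    have h3 : ((p : ℝ) * ((m : ℝ) + 1) - 1) * ((p : ℝ) * ((m : ℝ) + 1) - 2) ≤ ((p : ℝ) * ((m : ℝ) + 1)) ^ 2 := by
      nlinarith
    nlinarith [mul_le_mul_of_nonneg_left h2 (sq_nonneg (p : ℝ)),
      mul_le_mul_of_nonneg_left h3 (sq_nonneg ((p : ℝ) - 1))]

end Data

end CfsgLib.Char.FeitDegree
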