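import Cfsg.Agent.Lib.Char.FeitDegree.Twisted
import Cfsg.Agent.Lib.Char.FeitDegree.Untwisted

/-!
# A perfect group with a faithful character of degree `p - 2` has trivial centre
-/

set_option autoImplicit false

namespace CfsgLib.Char.FeitDegree

/-- The two class sums cannot agree. -/
theorem class_sums_ne {p j : ℕ} (hp : 7 ≤ p) (hj : 1 ≤ j) {c V X v : ℝ} (hc : |c| ≤ 1) (hV : |V| ≤ (j : ℝ) + 1)
    (hX : 0 < X * (X + 1)) (hb : ((p : ℝ) - 1) ^ 2 * (X * (X + 1)) ≤ (p : ℝ) ^ 2 * (X - v) ^ 2)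
    (h : c * c / ((p : ℝ) - 2) + V * V / ((j : ℝ) * p + 1) - (c + V) * (c + V) / (((j : ℝ) + 1) * p - 1) =
      (X - v) ^ 2 / (X * (X + 1))) : False := by
  have hpR : (7 : ℝ) ≤ p := by exact_mod_cast hp
  have hjR : (1 : ℝ) ≤ j := by exact_mod_cast hj
  generalize (p : ℝ) = q at *
  generalize (j : ℝ) = i at *
  have hn : 0 < q - 2 := by linarith
  have hA : 0 < i * q + 1 := by nlinarith
  have hY : 0 < (i + 1) * q - 1 := by nlinarith
  have hid : c * c / (q - 2) + V * V / (i * q + 1) - (c + V) * (c + V) / ((i + 1) * q - 1) =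
      (c * (i * q + 1) - V * (q - 2)) ^ 2 / ((q - 2) * (i * q + 1) * ((i + 1) * q - 1)) := by
    have hn' : q - 2 ≠ 0 := hn.ne'
    have hA' : i * q + 1 ≠ 0 := hA.ne'
    have hY' : (i + 1) * q - 1 ≠ 0 := hY.ne'
    rw [div_add_div _ _ hn' hA', div_sub_div _ _ (mul_ne_zero hn' hA') hY']
    congr 1
    ring
  rw [hid, div_eq_div_iff (mul_ne_zero (mul_ne_zero hn.ne' hA.ne') hY.ne') hX.ne'] at h
  obtain ⟨hc1, hc2⟩ := abs_le.1 hc
  obtain ⟨hV1, hV2⟩ := abs_le.1 hV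
  have hD : |c * (i * q + 1) - V * (q - 2)| ≤ (2 * i + 1) * (q - 1) := by
    rw [abs_le]
    constructor <;> nlinarith
  have hD2 : (c * (i * q + 1) - V * (q - 2)) ^ 2 ≤ ((2 * i + 1) * (q - 1)) ^ 2 := by
    rw [← sq_abs]
    exact pow_le_pow_left₀ (abs_nonneg _) hD 2
  have hpos : 0 < (X - v) ^ 2 := by
    have : 0 < (q - 1) ^ 2 * (X * (X + 1)) := mul_pos (pow_pos (by linarith) 2) hX
    nlinarith
  have h1 : (q - 2) * (i * q + 1) * ((i + 1) * q - 1) ≤ (2 * i + 1) ^ 2 * q ^ 2 := by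
    refine le_of_mul_le_mul_left ?_ hpos
    calc (X - v) ^ 2 * ((q - 2) * (i * q + 1) * ((i + 1) * q - 1))
        = (c * (i * q + 1) - V * (q - 2)) ^ 2 * (X * (X + 1)) := h.symm
      _ ≤ ((2 * i + 1) * (q - 1)) ^ 2 * (X * (X + 1)) := mul_le_mul_of_nonneg_right hD2 hX.le
      _ = (2 * i + 1) ^ 2 * ((q - 1) ^ 2 * (X * (X + 1))) := by ring
      _ ≤ (2 * i + 1) ^ 2 * (q ^ 2 * (X - v) ^ 2) := mul_le_mul_of_nonneg_left hb (sq_nonneg _)
      _ = _ := by ring
  have hJ : 2 ≤ i * (i + 1) := by nlinarith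
  nlinarith [mul_le_mul_of_nonneg_right hJ (show (0 : ℝ) ≤ q ^ 2 * (q - 6) from mul_nonneg (sq_nonneg _) (by linarith))]

variable {p : ℕ} [hp : Fact p.Prime]

namespace Data

variable {G : Type*} [Group G] [Fintype G] {P : Sylow p G} {u : G} {ζ : Cfsg.IrrCharacter G}
variable (D : Data P u ζ)
include D

/-- The centre is trivial. -/
theorem center_eq_bot (hperf : _root_.commutator G = ⊤) : Subgroup.center G = ⊥ := by
  classical
  haveI := Fintype.ofFinite (Cfsg.IrrCharacter G)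
  by_contra hZ
  obtain ⟨a, ha, -, hau⟩ := D.exists_involution (D.center_odd hperf)
  obtain ⟨j, c, V, hj, hc, hV, h1⟩ := D.exists_twisted hperf hZ ha hau
  obtain ⟨X, v, hX, hb, h2⟩ := D.exists_untwisted hperf ha hau
  refine class_sums_ne D.seven hj hc hV hX hb (Complex.ofReal_injective ?_)
  exact mul_left_cancel₀ (Nat.cast_ne_zero.2 (Nat.card_pos (α := Subgroup.center G)).ne') (h1.symm.trans h2)

end Data

end CfsgLib.Char.FeitDegree
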