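import Mathlib.FieldTheory.Finite.Basic
import Mathlib.RingTheory.IntegralDomain
import Mathlib.Algebra.Field.ZMod
import Mathlib.Algebra.Polynomial.Roots
import Mathlib.Tactic

/-!
# The multiplicities of a character of degree `p - 2` on an element of order `p`

The multiplicities satisfy a multiplicative law for their moments; this leaves only two shapes.
-/

set_option autoImplicit false

namespace CfsgLib.Char.FeitDegree

open Finset

variable {p : ℕ} [hp : Fact p.Prime]

/-- The moments of a multiplicity function. -/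
def moment (M : ZMod p → ℕ) (k : ℕ) : ZMod p := ∑ i : ZMod p, (M i : ZMod p) * i ^ k

theorem geom_sum_units (z : ZMod p) :
    ∑ m ∈ Finset.range (p - 1), z ^ m = if z = 0 then 1 else if z = 1 then -1 else 0 := by
  have h2 := hp.out.two_le
  split_ifs with h0 h1
  · subst h0
    rw [Finset.sum_eq_single 0 (fun b _ hb => zero_pow hb)
      (fun h => absurd (Finset.mem_range.2 (by omega)) h), pow_zero]
  · subst h1
    simp only [one_pow, Finset.sum_const, Finset.card_range, nsmul_eq_mul, mul_one]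
    rw [Nat.cast_sub hp.out.one_le, ZMod.natCast_self]
    simp
  · have h := geom_sum_mul z (p - 1)
    rw [ZMod.pow_card_sub_one_eq_one h0, sub_self] at h
    exact (mul_eq_zero.1 h).resolve_right (sub_ne_zero.2 h1)

theorem sum_moment (M : ZMod p → ℕ) {x : ZMod p} (hx : x ≠ 0) :
    ∑ m ∈ Finset.range (p - 1), moment M m * x⁻¹ ^ m = (M 0 : ZMod p) - M x := by
  simp only [moment, Finset.sum_mul, mul_assoc, ← mul_pow]
  rw [Finset.sum_comm]
  simp only [← Finset.mul_sum, geom_sum_units]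
  rw [← Finset.add_sum_erase _ _ (Finset.mem_univ (0 : ZMod p))]
  rw [Finset.sum_eq_single x (fun b hb hbx => ?_) (fun h => absurd (Finset.mem_erase.2 ⟨hx, Finset.mem_univ _⟩) h)]
  · simp [hx]
    ring
  · rw [Finset.mem_erase] at hb
    have h1 : b * x⁻¹ ≠ 0 := mul_ne_zero hb.1 (inv_ne_zero hx)
    have h2 : b * x⁻¹ ≠ 1 := fun h => hbx ((mul_inv_eq_one₀ hx).1 h)
    simp [h1, h2]

variable (E : Subgroup (ZMod p)ˣ) (M : ZMod p → ℕ)

theorem pow_card_eq_one {c : (ZMod p)ˣ} (hc : c ∈ E) : c ^ Nat.card E = 1 :=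
  orderOf_dvd_iff_pow_eq_one.1 (E.orderOf_dvd_natCard hc)

theorem exists_pow_ne {l : ℕ} (hl : ¬ Nat.card E ∣ l) : ∃ c ∈ E, c ^ l ≠ 1 := by
  obtain ⟨g, hg⟩ := IsCyclic.exists_generator (α := E)
  refine ⟨g, g.2, fun h => hl ?_⟩
  have h1 : g ^ l = 1 := Subtype.ext (by simpa using h)
  have := orderOf_dvd_of_pow_eq_one h1
  rwa [orderOf_eq_card_of_forall_mem_zpowers hg] at this

theorem moment_eq_zero_of_not_dvd (hinv : ∀ c ∈ E, ∀ i : ZMod p, M ((c : ZMod p) * i) = M i) {l : ℕ}
    (hl : ¬ Nat.card E ∣ l) : moment M l = 0 := by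
  obtain ⟨c, hc, hcl⟩ := exists_pow_ne E hl
  have h : moment M l = (c : ZMod p) ^ l * moment M l := by
    rw [moment, Finset.mul_sum]
    refine (Fintype.sum_equiv (Equiv.mulLeft₀ (c : ZMod p) c.ne_zero) _ _ fun i => ?_).symm
    simp [hinv c hc i, mul_pow]
    ring
  have h2 : ((c : ZMod p) ^ l - 1) * moment M l = 0 := by linear_combination -h
  refine (mul_eq_zero.1 h2).resolve_left (sub_ne_zero.2 fun h3 => hcl (Units.ext ?_))
  simpa using h3

theorem card_level_le {e : ℕ} (he : 0 < e) (s : Finset (ZMod p))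
    (h : ∀ x ∈ s, ∀ y ∈ s, x ^ e = y ^ e) : s.card ≤ e := by
  classical
  rcases s.eq_empty_or_nonempty with rfl | ⟨x₀, hx₀⟩
  · simp
  have hsub : s ⊆ (Polynomial.nthRoots e (x₀ ^ e)).toFinset := fun y hy => by
    rw [Multiset.mem_toFinset, Polynomial.mem_nthRoots he]
    exact h y hy x₀ hx₀
  exact (Finset.card_le_card hsub).trans ((Multiset.toFinset_card_le _).trans
    (Polynomial.card_nthRoots e _))

/-- The two shapes. -/
theorem shape {e : ℕ} (heE : Nat.card E = e) (he2 : 2 ≤ e) (hp7 : 7 ≤ p)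
    (hinv : ∀ c ∈ E, ∀ i : ZMod p, M ((c : ZMod p) * i) = M i)
    (hsum : ∑ i, M i = p - 2) (hne : ∃ x : ZMod p, x ≠ 0 ∧ M x ≠ 0)
    (hfun : ∀ k l : ℕ, k + l < p - 1 → e ∣ k → moment M k * moment M l = -2 * moment M (k + l)) :
    (∀ x : ZMod p, x ≠ 0 → M x ≤ 1) ∧
      ((e = 2 ∧ M 0 = 1 ∧ ∃ a : ZMod p, a ≠ 0 ∧ ∀ x : ZMod p, x ≠ 0 → M x = if x ^ 2 = a ^ 2 then 0 else 1) ∨
        (2 * e + 1 = p ∧ 2 * M 0 + 3 = p)) := by
  classical
  have he : e ∣ p - 1 := by
    rw [← heE, ← ZMod.card_units p, ← Nat.card_eq_fintype_card]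
    exact E.card_subgroup_dvd_card
  obtain ⟨t, ht⟩ := he
  set U : Finset (ZMod p) := Finset.univ.erase 0 with hUdef
  have hU : U.card = p - 1 := by
    rw [hUdef, Finset.card_erase_of_mem (Finset.mem_univ _), Finset.card_univ, ZMod.card]
  have hsumU : M 0 + ∑ i ∈ U, M i = p - 2 := by
    rw [hUdef, Finset.add_sum_erase _ _ (Finset.mem_univ _), hsum]
  have hMlt : ∀ i, M i < p := fun i => by
    have : M i ≤ ∑ j, M j := Finset.single_le_sum (fun j _ => Nat.zero_le _) (Finset.mem_univ i)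
    omega
  have hcast : ∀ i j, (M i : ZMod p) = M j → M i = M j := fun i j h => by
    rw [ZMod.natCast_eq_natCast_iff'] at h
    rwa [Nat.mod_eq_of_lt (hMlt i), Nat.mod_eq_of_lt (hMlt j)] at h
  -- the classes of `E`
  have hcoset : ∀ x : ZMod p, x ≠ 0 → e ≤ (U.filter fun y => y ^ e = x ^ e ∧ M y = M x).card := by
    intro x hx
    have h1 : ((Finset.univ : Finset E).image fun c : E => ((c : (ZMod p)ˣ) : ZMod p) * x).card = e := by
      rw [Finset.card_image_of_injective, Finset.card_univ, ← Nat.card_eq_fintype_card, heE]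
      intro c d h
      exact Subtype.ext (Units.ext (mul_right_cancel₀ hx h))
    refine h1.ge.trans (Finset.card_le_card fun y hy => ?_)
    obtain ⟨c, -, rfl⟩ := Finset.mem_image.1 hy
    rw [Finset.mem_filter, hUdef, Finset.mem_erase]
    refine ⟨⟨mul_ne_zero (Units.ne_zero _) hx, Finset.mem_univ _⟩, ?_, hinv c c.2 x⟩
    have := congrArg (Units.val) (pow_card_eq_one E c.2)
    rw [heE, Units.val_pow_eq_pow_val, Units.val_one] at this
    rw [mul_pow, this, one_mul]
  obtain ⟨x₁, hx₁, hMx₁⟩ := hne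
  have hbig : ∀ x : ZMod p, x ≠ 0 → e * M x ≤ ∑ i ∈ U, M i := fun x hx => by
    refine le_trans ?_ (Finset.sum_le_sum_of_subset (Finset.filter_subset (fun y => y ^ e = x ^ e ∧ M y = M x) U))
    rw [Finset.sum_congr rfl fun y hy => (Finset.mem_filter.1 hy).2.2, Finset.sum_const, smul_eq_mul]
    exact Nat.mul_le_mul_right _ (hcoset x hx)
  have hall : ∀ x₂ : ZMod p, x₂ ≠ 0 → M x₂ ≠ 0 → ¬ ∀ y ∈ U, M y = M x₂ := fun x₂ _ hM h => by
    rw [Finset.sum_congr rfl h, Finset.sum_const, hU, smul_eq_mul] at hsumU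
    have : (p - 1) * 1 ≤ (p - 1) * M x₂ := Nat.mul_le_mul_left _ (Nat.one_le_iff_ne_zero.2 hM)
    omega
  have ht2 : 2 ≤ t := by
    by_contra h
    have ht1 : t = 1 := by
      rcases t with _ | t
      · omega
      · omega
    rw [ht1, mul_one] at ht
    refine hall x₁ hx₁ hMx₁ fun y hy => ?_
    have h1 := hcoset x₁ hx₁
    rw [← ht, ← hU] at h1
    have h2 := Finset.eq_of_subset_of_card_le (Finset.filter_subset _ _) h1
    rw [← h2] at hy
    exact (Finset.mem_filter.1 hy).2.2
  have hS0 : moment M 0 = -2 := by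
    simp only [moment, pow_zero, mul_one, ← Nat.cast_sum, hsum]
    rw [Nat.cast_sub (by omega), ZMod.natCast_self]
    simp
  have h20 : (-2 : ZMod p) ≠ 0 := by
    rw [neg_ne_zero, show (2 : ZMod p) = ((2 : ℕ) : ZMod p) by norm_num, Ne,
      ZMod.natCast_eq_zero_iff]
    exact fun h => absurd (Nat.le_of_dvd two_pos h) (by omega)
  set r : ZMod p := moment M e * (-2)⁻¹ with hr
  have hSq : ∀ q < t, moment M (e * q) = -2 * r ^ q := by
    intro q
    induction q with
    | zero => intro _; rw [mul_zero, pow_zero, mul_one, hS0]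
    | succ q ih =>
      intro hq
      have hlt : e + e * q < p - 1 := by
        rw [ht]
        calc e + e * q = e * (q + 1) := by ring
          _ < e * t := Nat.mul_lt_mul_of_pos_left hq (by omega)
      have h := hfun e (e * q) hlt dvd_rfl
      rw [ih (by omega), show e + e * q = e * (q + 1) by ring] at h
      refine mul_left_cancel₀ h20 ?_
      rw [← h, hr, pow_succ]
      have e2 : (-2 : ZMod p) * (-2)⁻¹ = 1 := mul_inv_cancel₀ h20
      linear_combination (-(-2 : ZMod p) * (moment M e * (-2)⁻¹) ^ q * moment M e) * e2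
  have hform : ∀ x : ZMod p, x ≠ 0 →
      (M x : ZMod p) = M 0 + 2 * ∑ q ∈ Finset.range t, (r * (x ^ e)⁻¹) ^ q := by
    intro x hx
    have h := sum_moment M hx
    have h2 : ∑ m ∈ Finset.range (p - 1), moment M m * x⁻¹ ^ m =
        ∑ q ∈ Finset.range t, moment M (e * q) * x⁻¹ ^ (e * q) := by
      rw [← Finset.sum_filter_of_ne (p := fun m => e ∣ m) (fun m _ hm => by
        by_contra hd
        exact hm (by rw [moment_eq_zero_of_not_dvd E M hinv (heE ▸ hd), zero_mul]))]
      refine (Finset.sum_bij (fun q _ => e * q) ?_ ?_ ?_ fun q _ => rfl).symm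
      · intro q hq
        rw [Finset.mem_filter, Finset.mem_range, ht]
        exact ⟨Nat.mul_lt_mul_of_pos_left (Finset.mem_range.1 hq) (by omega), dvd_mul_right e q⟩
      · intro a _ b _ h
        exact Nat.eq_of_mul_eq_mul_left (by omega) h
      · intro m hm
        rw [Finset.mem_filter, Finset.mem_range] at hm
        obtain ⟨q, rfl⟩ := hm.2
        exact ⟨q, Finset.mem_range.2 (Nat.lt_of_mul_lt_mul_left (ht ▸ hm.1)), rfl⟩
    have h3 : ∑ q ∈ Finset.range t, moment M (e * q) * x⁻¹ ^ (e * q) =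
        -2 * ∑ q ∈ Finset.range t, (r * (x ^ e)⁻¹) ^ q := by
      rw [Finset.mul_sum]
      refine Finset.sum_congr rfl fun q hq => ?_
      rw [hSq q (Finset.mem_range.1 hq)]
      generalize r = r'
      rw [mul_pow, inv_pow, inv_pow, ← pow_mul]
      ring
    rw [h2, h3] at h
    linear_combination h
  have hzt : ∀ x : ZMod p, x ≠ 0 → (r * (x ^ e)⁻¹) ^ t = r ^ t := fun x hx => by
    rw [mul_pow, inv_pow, ← pow_mul, ← ht, ZMod.pow_card_sub_one_eq_one hx, inv_one, mul_one]
  have hgeo : ∀ x : ZMod p, x ≠ 0 →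
      (∑ q ∈ Finset.range t, (r * (x ^ e)⁻¹) ^ q) * (r * (x ^ e)⁻¹ - 1) = r ^ t - 1 := fun x hx => by
    rw [geom_sum_mul, hzt x hx]
  by_cases hrt : r ^ t = 1
  · have hgen : ∀ x : ZMod p, x ≠ 0 → x ^ e ≠ r → M x = M 0 := by
      intro x hx hne
      refine hcast _ _ ?_
      have h := hgeo x hx
      rw [hrt, sub_self] at h
      have h1 : r * (x ^ e)⁻¹ - 1 ≠ 0 := sub_ne_zero.2 fun h1 =>
        hne ((mul_inv_eq_one₀ (pow_ne_zero _ hx)).1 h1).symm
      rw [hform x hx, (mul_eq_zero.1 h).resolve_right h1, mul_zero, add_zero]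
    obtain ⟨x₀, hx₀, hx₀r⟩ : ∃ x₀ : ZMod p, x₀ ≠ 0 ∧ x₀ ^ e = r := by
      by_contra hno
      push Not at hno
      refine hall x₁ hx₁ hMx₁ fun y hy => ?_
      rw [hgen y (Finset.mem_erase.1 hy).1 (hno y (Finset.mem_erase.1 hy).1), hgen x₁ hx₁ (hno x₁ hx₁)]
    set T := U.filter fun y => y ^ e = r with hT
    have hTcard : T.card = e := by
      refine le_antisymm (card_level_le (by omega) T fun a ha b hb => ?_) ?_
      · rw [(Finset.mem_filter.1 ha).2, (Finset.mem_filter.1 hb).2]
      · refine (hcoset x₀ hx₀).trans (Finset.card_le_card fun y hy => ?_)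
        rw [Finset.mem_filter] at hy ⊢
        exact ⟨hy.1, hy.2.1.trans hx₀r⟩
    have hTM : ∀ y ∈ T, M y = M x₀ := by
      intro y hy
      rw [Finset.mem_filter] at hy
      refine hcast _ _ ?_
      rw [hform y (Finset.mem_erase.1 hy.1).1, hform x₀ hx₀, hy.2, hx₀r]
    have hs : (∑ i ∈ U, M i) = e * M x₀ + (p - 1 - e) * M 0 := by
      rw [← Finset.sum_filter_add_sum_filter_not U (fun y => y ^ e = r), ← hT, Finset.sum_congr rfl hTM,
        Finset.sum_congr rfl (s₁ := U.filter fun y => ¬ y ^ e = r) (fun y hy =>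
          hgen y (Finset.mem_erase.1 (Finset.mem_filter.1 hy).1).1 (Finset.mem_filter.1 hy).2),
        Finset.sum_const, Finset.sum_const, smul_eq_mul, smul_eq_mul, hTcard]
      congr 2
      have := Finset.card_filter_add_card_filter_not (s := U) (fun y => y ^ e = r)
      rw [← hT, hTcard, hU] at this
      omega
    have h2e : 2 * e ≤ p - 1 := by
      rw [ht]
      calc 2 * e = e * 2 := mul_comm _ _
        _ ≤ e * t := Nat.mul_le_mul_left _ ht2
    rw [hs] at hsumU
    have hM0 : M 0 ≤ 1 := by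
      by_contra h
      have : (p - 1 - e) * 2 ≤ (p - 1 - e) * M 0 := Nat.mul_le_mul_left _ (by omega)
      omega
    have hM0' : M 0 = 1 := by
      rcases Nat.le_one_iff_eq_zero_or_eq_one.1 hM0 with h | h
      · exfalso
        rw [h] at hsumU
        have h1 : e ∣ p - 2 := ⟨M x₀, by omega⟩
        have h2 : e ∣ p - 1 := ⟨t, ht⟩
        have h3 : e ∣ 1 := by
          have := Nat.dvd_sub h2 h1
          rwa [show p - 1 - (p - 2) = 1 by omega] at this
        have := Nat.le_of_dvd one_pos h3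
        omega
      · exact h
    rw [hM0', mul_one] at hsumU
    have hc0 : M x₀ = 0 := by
      by_contra h
      have : e * 1 ≤ e * M x₀ := Nat.mul_le_mul_left _ (by omega)
      omega
    rw [hc0, mul_zero] at hsumU
    obtain rfl : e = 2 := by omega
    refine ⟨fun x hx => ?_, Or.inl ⟨rfl, hM0', x₀, hx₀, fun x hx => ?_⟩⟩
    · by_cases hxr : x ^ 2 = r
      · rw [hTM x (Finset.mem_filter.2 ⟨Finset.mem_erase.2 ⟨hx, Finset.mem_univ _⟩, hxr⟩), hc0]
        exact Nat.zero_le _
      · rw [hgen x hx hxr, hM0']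
    · rw [hx₀r]
      split_ifs with hxr
      · rw [hTM x (Finset.mem_filter.2 ⟨Finset.mem_erase.2 ⟨hx, Finset.mem_univ _⟩, hxr⟩), hc0]
      · rw [hgen x hx hxr, hM0']
  · have hr0 : r ≠ 0 := by
      intro h0
      refine hall x₁ hx₁ hMx₁ fun y hy => hcast _ _ ?_
      rw [hform y (Finset.mem_erase.1 hy).1, hform x₁ hx₁, h0]
      simp
    have hinj : ∀ x y : ZMod p, x ≠ 0 → y ≠ 0 → M x = M y → x ^ e = y ^ e := by
      intro x y hx hy hxy
      have h1 := hform x hx
      rw [hxy, hform y hy] at h1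
      have h1' := mul_left_cancel₀ (neg_ne_zero.1 h20) (add_left_cancel h1)
      have h2 := hgeo x hx
      rw [← h1', ← hgeo y hy] at h2
      have hG : ∑ q ∈ Finset.range t, (r * (y ^ e)⁻¹) ^ q ≠ 0 := fun h0 => by
        have := hgeo y hy
        rw [h0, zero_mul] at this
        exact hrt (sub_eq_zero.1 this.symm)
      have h3 := sub_left_injective (mul_left_cancel₀ hG h2)
      exact inv_injective (mul_left_cancel₀ hr0 h3)
    have hlev : ∀ v, (U.filter fun y => M y = v).card ≤ e := fun v =>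
      card_level_le (by omega) _ fun a ha b hb => hinj a b (Finset.mem_erase.1 (Finset.mem_filter.1 ha).1).1
        (Finset.mem_erase.1 (Finset.mem_filter.1 hb).1).1
        ((Finset.mem_filter.1 ha).2.trans (Finset.mem_filter.1 hb).2.symm)
    obtain rfl : t = 2 := by
      by_contra h
      have h1 : ∑ y ∈ U, 2 ≤ ∑ y ∈ U, (M y + (if M y = 0 then 2 else 0) + if M y = 1 then 1 else 0) :=
        Finset.sum_le_sum fun y _ => by split_ifs <;> omega
      rw [Finset.sum_add_distrib, Finset.sum_add_distrib, ← Finset.sum_filter, ← Finset.sum_filter,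
        Finset.sum_const, Finset.sum_const, Finset.sum_const, hU] at h1
      simp only [smul_eq_mul, mul_one] at h1
      have h4 := hlev 0
      have h5 := hlev 1
      have : e * 3 ≤ e * t := Nat.mul_le_mul_left _ (by omega)
      omega
    have hle1 : ∀ x : ZMod p, x ≠ 0 → M x ≤ 1 := fun x hx => by
      by_contra h
      have := hbig x hx
      have : e * 2 ≤ e * M x := Nat.mul_le_mul_left _ (by omega)
      omega
    refine ⟨hle1, Or.inr ⟨by omega, ?_⟩⟩
    have hones : ∑ i ∈ U, M i = (U.filter fun y => M y = 1).card := by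
      rw [Finset.card_filter]
      refine Finset.sum_congr rfl fun y hy => ?_
      have := hle1 y (Finset.mem_erase.1 hy).1
      split_ifs <;> omega
    have h4 := hlev 1
    have h5 := hbig x₁ hx₁
    have h6 : e * 1 ≤ e * M x₁ := Nat.mul_le_mul_left _ (Nat.one_le_iff_ne_zero.2 hMx₁)
    omega

end CfsgLib.Char.FeitDegree
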