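import Cfsg.Agent.Lib.Char.FeitDegree.Congruence
import Cfsg.Agent.Lib.Char.FeitDegree.Moments
import Cfsg.Agent.Lib.Char.Basic
import Cfsg.Agent.Lib.Char.Rep
import Cfsg.Agent.Lib.CharDegree.Basic
import Mathlib.GroupTheory.Sylow
import Mathlib.RingTheory.RootsOfUnity.Complex

/-!
# Restriction of a faithful character of degree `p - 2` to an element of order `p`
-/

set_option autoImplicit false

namespace CfsgLib.Char.FeitDegree

open CfsgLib.CharAction Finset
open scoped Classical

variable {G : Type*} [Group G] [Fintype G] {p : ℕ} [hp : Fact p.Prime]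

/-- A faithful irreducible character of degree `p - 2` and a generator of a Sylow subgroup of order
`p` that is not normal. -/
structure Data (P : Sylow p G) (u : G) (ζ : Cfsg.IrrCharacter G) : Prop where
  seven : 7 ≤ p
  card : Nat.card (P : Subgroup G) = p
  not_normal : ¬ (P : Subgroup G).Normal
  ord : orderOf u = p
  mem : u ∈ (P : Subgroup G)
  deg : Cfsg.charDegree (ζ : G → ℂ) = p - 2
  faith : ∀ g : G, (ζ : G → ℂ) g = (ζ : G → ℂ) 1 → g = 1

omit [Fintype G] in
theorem pow_val_eq {u : G} (hu : orderOf u = p) (a : ℕ) : u ^ ((a : ZMod p)).val = u ^ a := by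
  rw [ZMod.val_natCast]
  conv_lhs => rw [← hu]
  exact pow_mod_orderOf u a

/-- The exponents realised by conjugation. -/
def expGroup (u : G) (hu : orderOf u = p) : Subgroup (ZMod p)ˣ where
  carrier := {c | ∃ g : G, g * u * g⁻¹ = u ^ (c : ZMod p).val}
  one_mem' := ⟨1, by simp [ZMod.val_one]⟩
  mul_mem' := by
    rintro c d ⟨g, hg⟩ ⟨h, hh⟩
    refine ⟨h * g, ?_⟩
    calc h * g * u * (h * g)⁻¹ = h * (g * u * g⁻¹) * h⁻¹ := by group
      _ = (h * u * h⁻¹) ^ (c : ZMod p).val := by rw [hg, conj_pow]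
      _ = u ^ ((d : ZMod p).val * (c : ZMod p).val) := by rw [hh, pow_mul]
      _ = u ^ ((c * d : (ZMod p)ˣ) : ZMod p).val := by
        rw [← pow_val_eq hu, Nat.cast_mul, ZMod.natCast_zmod_val, ZMod.natCast_zmod_val, Units.val_mul,
          mul_comm]
  inv_mem' := by
    rintro c ⟨g, hg⟩
    refine ⟨g⁻¹, ?_⟩
    have h1 : g * u ^ ((c⁻¹ : (ZMod p)ˣ) : ZMod p).val * g⁻¹ = u := by
      rw [← conj_pow, hg, ← pow_mul, ← pow_val_eq hu, Nat.cast_mul, ZMod.natCast_zmod_val,
        ZMod.natCast_zmod_val, Units.mul_inv, ZMod.val_one, pow_one]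
    rw [inv_inv]
    conv_lhs => rw [← h1]
    group

omit [Fintype G] in
theorem mem_expGroup {u : G} {hu : orderOf u = p} {c : (ZMod p)ˣ} :
    c ∈ expGroup u hu ↔ ∃ g : G, g * u * g⁻¹ = u ^ (c : ZMod p).val := Iff.rfl

variable {P : Sylow p G} {u : G} {ζ : Cfsg.IrrCharacter G}

namespace Data

variable (D : Data P u ζ)
include D

theorem zpowers_eq : Subgroup.zpowers u = (P : Subgroup G) :=
  Subgroup.eq_of_le_of_card_ge (Subgroup.zpowers_le.2 D.mem) (by rw [D.card, Nat.card_zpowers, D.ord])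

theorem apply_one : (ζ : G → ℂ) 1 = ((p - 2 : ℕ) : ℂ) := by
  rw [← CfsgLib.CharDegree.cast_irrDegree, D.deg]

theorem deg_cast : ((p - 2 : ℕ) : ZMod p) = -2 := by
  rw [Nat.cast_sub hp.out.two_le, ZMod.natCast_self]
  simp

/-- A conjugate of `u` commuting with `u` is a power of it. -/
theorem exists_of_commute {g : G} (h : Commute (g * u * g⁻¹) u) :
    ∃ c ∈ expGroup u D.ord, g * u * g⁻¹ = u ^ (c : ZMod p).val := by
  have hu1 : u ≠ 1 := fun h => by
    have := D.ord
    rw [h, orderOf_one] at this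
    exact hp.out.ne_one this.symm
  set k := g * u * g⁻¹ with hk
  have hkp : k ^ p = 1 := by rw [hk, conj_pow, ← D.ord, pow_orderOf_eq_one, mul_one, mul_inv_cancel]
  have hk1 : k ≠ 1 := fun h => hu1 (conj_eq_one_iff.1 h)
  have hkP : k ∈ (P : Subgroup G) := by
    let H : Subgroup G := Subgroup.closure {k, u}
    have hcomm : ∀ x ∈ ({k, u} : Set G), ∀ y ∈ ({k, u} : Set G), x * y = y * x := by
      rintro x (rfl | rfl) y (rfl | rfl)
      exacts [rfl, h.eq, h.eq.symm, rfl]
    haveI := Subgroup.isMulCommutative_closure (k := ({k, u} : Set G)) hcomm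
    have hH : IsPGroup p H := by
      rintro ⟨a, ha⟩
      refine ⟨1, Subtype.ext ?_⟩
      rw [pow_one, Subgroup.coe_pow, Subgroup.coe_one]
      induction ha using Subgroup.closure_induction with
      | mem x hx =>
        rcases hx with rfl | rfl
        · exact hkp
        · rw [← D.ord, pow_orderOf_eq_one]
      | one => exact one_pow p
      | mul x y hx hy ihx ihy =>
        rw [(show Commute x y from congrArg Subtype.val
          ((inferInstance : IsMulCommutative H).is_comm.comm ⟨x, hx⟩ ⟨y, hy⟩)).mul_pow, ihx, ihy, one_mul]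
      | inv x hx ih => rw [inv_pow, ih, inv_one]
    have hle : (P : Subgroup G) ≤ H := D.zpowers_eq ▸ Subgroup.zpowers_le.2 (Subgroup.subset_closure (Or.inr rfl))
    exact (P.is_maximal' hH hle).le (Subgroup.subset_closure (Or.inl rfl))
  rw [← D.zpowers_eq, mem_zpowers_iff_mem_range_orderOf, Finset.mem_image] at hkP
  obtain ⟨a, ha, hak⟩ := hkP
  rw [Finset.mem_range, D.ord] at ha
  have ha0 : (a : ZMod p) ≠ 0 := fun h0 => hk1 (by
    rw [← hak, ← pow_val_eq D.ord a, h0, ZMod.val_zero, pow_zero])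
  have hc : k = u ^ ((Units.mk0 (a : ZMod p) ha0 : (ZMod p)ˣ) : ZMod p).val := by
    rw [Units.val_mk0, pow_val_eq D.ord a, hak]
  exact ⟨Units.mk0 (a : ZMod p) ha0, ⟨g, hc⟩, hc⟩

theorem exists_class : ∃ K : ℕ, ∀ j : ℕ, CongMod p ((K : ℂ) * ((ζ : G → ℂ) u * (ζ : G → ℂ) (u ^ j)))
    ((ζ : G → ℂ) 1 * ∑ c ∈ (Finset.univ : Finset (expGroup u D.ord)),
      (ζ : G → ℂ) (u ^ ((c : (ZMod p)ˣ) : ZMod p).val * u ^ j)) := by
  classical
  set s : Finset G := Finset.univ.image fun g : G => g * u * g⁻¹ with hs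
  refine ⟨s.card, fun j => ?_⟩
  have hcl : ∀ a b : G, (ζ : G → ℂ) (b * a * b⁻¹) = (ζ : G → ℂ) a := fun a b => IsIrr.isClassFunction ζ.2 a b
  have hint : ∀ g, IsIntegral ℤ ((ζ : G → ℂ) g) := IsChar.isIntegral (IsIrr.isCharacter ζ.2)
  have hmem : ∀ (h : G) {k : G}, k ∈ s → h * k * h⁻¹ ∈ s := fun h k hk => by
    obtain ⟨g, -, rfl⟩ := Finset.mem_image.1 hk
    exact Finset.mem_image.2 ⟨h * g, Finset.mem_univ _, by group⟩
  -- the class sum
  set F : G → ℂ := fun k => (ζ : G → ℂ) (u ^ j * k) with hF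
  have h1 := apply_mul_apply ζ.2 (u ^ j) u
  have hfib : ∀ k ∈ s, (Finset.univ.filter fun g : G => g * u * g⁻¹ = k).card =
      Nat.card (Subgroup.centralizer ({u} : Set G)) := by
    intro k hk
    obtain ⟨g₀, -, rfl⟩ := Finset.mem_image.1 hk
    rw [← Fintype.card_subtype, ← Nat.card_eq_fintype_card]
    refine Nat.card_congr ⟨fun g => ⟨g₀⁻¹ * g, ?_⟩, fun c => ⟨g₀ * c, ?_⟩, fun g => ?_, fun c => ?_⟩
    · rw [Subgroup.mem_centralizer_singleton_iff]
      have h := g.2
      calc g₀⁻¹ * g.1 * u = g₀⁻¹ * (g.1 * u * g.1⁻¹) * g.1 := by group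
        _ = g₀⁻¹ * (g₀ * u * g₀⁻¹) * g.1 := by rw [h]
        _ = u * (g₀⁻¹ * g.1) := by group
    · have h := Subgroup.mem_centralizer_singleton_iff.1 c.2
      calc g₀ * c * u * (g₀ * c)⁻¹ = g₀ * ((c : G) * u) * (c : G)⁻¹ * g₀⁻¹ := by group
        _ = g₀ * u * g₀⁻¹ := by rw [h]; group
    · exact Subtype.ext (mul_inv_cancel_left g₀ g.1)
    · exact Subtype.ext (inv_mul_cancel_left g₀ (c : G))
  set cc := Nat.card (Subgroup.centralizer ({u} : Set G)) with hcc
  have h2 : ∑ g : G, (ζ : G → ℂ) (u ^ j * (g * u * g⁻¹)) = (cc : ℂ) * ∑ k ∈ s, F k := by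
    rw [← Finset.sum_fiberwise_of_maps_to (t := s) (g := fun g : G => g * u * g⁻¹)
      (fun g _ => Finset.mem_image.2 ⟨g, Finset.mem_univ _, rfl⟩), Finset.mul_sum]
    refine Finset.sum_congr rfl fun k hk => ?_
    rw [Finset.sum_congr rfl (g := fun _ => F k) (fun g hg => by
      simp only [hF, (Finset.mem_filter.1 hg).2]), Finset.sum_const, hfib k hk, nsmul_eq_mul]
  have hG : Nat.card G = s.card * cc := by
    rw [Nat.card_eq_fintype_card, ← Finset.card_univ,
      Finset.card_eq_sum_card_fiberwise (t := s) (f := fun g : G => g * u * g⁻¹)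
        (fun g _ => Finset.mem_image.2 ⟨g, Finset.mem_univ _, rfl⟩),
      Finset.sum_congr rfl hfib, Finset.sum_const, smul_eq_mul]
  have hcc0 : (cc : ℂ) ≠ 0 := Nat.cast_ne_zero.2 (Nat.card_pos).ne'
  rw [h2, hG, Nat.cast_mul] at h1
  have h3 : (s.card : ℂ) * ((ζ : G → ℂ) u * (ζ : G → ℂ) (u ^ j)) = (ζ : G → ℂ) 1 * ∑ k ∈ s, F k :=
    mul_left_cancel₀ hcc0 (by linear_combination h1)
  rw [h3]
  refine CongMod.mul_left (hint 1) ?_
  -- the action of the subgroup of order `p`
  letI : MulAction (Subgroup.zpowers u) s :=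
    { smul := fun h k => ⟨(h : G) * k * (h : G)⁻¹, hmem h k.2⟩
      one_smul := fun k => Subtype.ext (show ((1 : Subgroup.zpowers u) : G) * k.1 * ((1 : Subgroup.zpowers u) : G)⁻¹ = k.1 by simp)
      mul_smul := fun a b k => Subtype.ext (show ((a * b : Subgroup.zpowers u) : G) * k.1 * ((a * b : Subgroup.zpowers u) : G)⁻¹ =
          (a : G) * ((b : G) * k.1 * (b : G)⁻¹) * (a : G)⁻¹ by rw [Subgroup.coe_mul]; group) }
  have hP : IsPGroup p (Subgroup.zpowers u) :=
    IsPGroup.of_card (n := 1) (by rw [Nat.card_zpowers, D.ord, pow_one])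
  have h4 := congMod_sum_fixed hP (fun k : s => F k) (fun k => hint _) fun a k => by
    show (ζ : G → ℂ) (u ^ j * ((a : G) * k.1 * (a : G)⁻¹)) = (ζ : G → ℂ) (u ^ j * k.1)
    obtain ⟨i, hi⟩ := a.2
    have hc : u ^ j * (a : G) = (a : G) * u ^ j := by
      simp only [← hi]
      exact ((Commute.refl u).zpow_right i).pow_left j |>.eq
    rw [← hcl (u ^ j * k.1) (a : G)]
    congr 1
    rw [← mul_assoc, ← mul_assoc, hc]
    group
  rw [← Finset.sum_coe_sort s]
  refine h4.trans (CongMod.of_eq ?_)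
  symm
  refine Finset.sum_bij (fun c _ => (⟨u ^ ((c : (ZMod p)ˣ) : ZMod p).val, ?_⟩ : s)) ?_ ?_ ?_ ?_
  · obtain ⟨g, hg⟩ := mem_expGroup.1 c.2
    exact Finset.mem_image.2 ⟨g, Finset.mem_univ _, hg⟩
  · intro c _
    refine Finset.mem_filter.2 ⟨Finset.mem_univ _, fun a => Subtype.ext ?_⟩
    show (a : G) * u ^ ((c : (ZMod p)ˣ) : ZMod p).val * (a : G)⁻¹ = u ^ ((c : (ZMod p)ˣ) : ZMod p).val
    obtain ⟨i, hi⟩ := a.2
    rw [← hi, ((Commute.refl u).pow_right _ |>.zpow_left i).eq, mul_inv_cancel_right]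
  · intro a _ b _ h
    have h' := congrArg Subtype.val h
    simp only [pow_inj_mod, D.ord, Nat.mod_eq_of_lt (ZMod.val_lt _)] at h'
    exact Subtype.ext (Units.ext (ZMod.val_injective p h'))
  · intro k hk
    obtain ⟨g, -, hg⟩ := Finset.mem_image.1 k.2
    have h5 := congrArg Subtype.val ((Finset.mem_filter.1 hk).2 ⟨u, Subgroup.mem_zpowers u⟩)
    change u * k.1 * u⁻¹ = k.1 at h5
    have h6 : Commute (g * u * g⁻¹) u := by
      rw [hg]
      exact (mul_inv_eq_iff_eq_mul.1 h5).symm
    obtain ⟨c, hc, hgc⟩ := D.exists_of_commute h6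
    exact ⟨⟨c, hc⟩, Finset.mem_univ _, Subtype.ext (hgc.symm.trans hg)⟩
  · intro c _
    simp only [hF, ← pow_add]
    rw [add_comm]

omit D in
theorem sum_moments {ι : Type*} [Fintype ι] (r : ι → ZMod p) (k : ℕ) :
    moment (fun x => (Finset.univ.filter fun i => r i = x).card) k = ∑ i, r i ^ k := by
  classical
  rw [moment, ← Finset.sum_fiberwise (s := Finset.univ) (g := r)]
  refine Finset.sum_congr rfl fun x _ => ?_
  rw [Finset.sum_congr rfl (g := fun _ => x ^ k) (fun i hi => by rw [(Finset.mem_filter.1 hi).2]),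
    Finset.sum_const, nsmul_eq_mul]

/-- The exponents of the eigenvalues. -/
theorem exists_exponents {ω : ℂ} (hω : IsPrimitiveRoot ω p) :
    ∃ r : Fin (p - 2) → ZMod p, ∀ j : ℕ, (ζ : G → ℂ) (u ^ j) = ∑ i, ω ^ ((r i).val * j) := by
  obtain ⟨k, ρ, hk⟩ := IsIrr.isCharacter ζ.2
  obtain ⟨ε, hε, -, hval, -⟩ := CfsgLib.Char.exists_eigenvalues ρ u
  have h1 : ∀ i, ∃ a : ZMod p, ω ^ a.val = ε i := fun i => by
    have := hε i
    rw [D.ord] at this
    obtain ⟨a, ha, hae⟩ := hω.eq_pow_of_pow_eq_one this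
    exact ⟨(a : ZMod p), by rw [ZMod.val_natCast, Nat.mod_eq_of_lt ha, hae]⟩
  choose a ha using h1
  have hdim : Module.finrank ℂ (Fin k → ℂ) = p - 2 := by
    have h := hval 0
    rw [pow_zero, hk, D.apply_one] at h
    simp only [pow_zero, Finset.sum_const, Finset.card_univ, Fintype.card_fin, nsmul_one] at h
    exact_mod_cast h.symm
  refine ⟨fun i => a (Fin.cast hdim.symm i), fun j => ?_⟩
  rw [← hk, hval j, ← (finCongr hdim).symm.sum_comp]
  refine Finset.sum_congr rfl fun i _ => ?_
  rw [pow_mul, ha]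
  rfl

/-- The multiplicities and the law for their moments. -/
theorem exists_fun {ω : ℂ} (hω : IsPrimitiveRoot ω p) :
    ∃ r : Fin (p - 2) → ZMod p, (∀ j : ℕ, (ζ : G → ℂ) (u ^ j) = ∑ i, ω ^ ((r i).val * j)) ∧
      let M : ZMod p → ℕ := fun x => (Finset.univ.filter fun i => r i = x).card
      (∀ c ∈ expGroup u D.ord, ∀ i : ZMod p, M ((c : ZMod p) * i) = M i) ∧ ∑ x, M x = p - 2 ∧
        (∃ x : ZMod p, x ≠ 0 ∧ M x ≠ 0) ∧
        ∀ k l : ℕ, k + l < p - 1 → Nat.card (expGroup u D.ord) ∣ k →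
          moment M k * moment M l = -2 * moment M (k + l) := by
  classical
  obtain ⟨r, hr⟩ := D.exists_exponents hω
  refine ⟨r, hr, ?_⟩
  intro M
  set E := expGroup u D.ord with hE
  have h7 := D.seven
  have hnz : ∀ a : ZMod p, ((a.val : ℕ) : ZMod p) = a := fun a => ZMod.natCast_zmod_val a
  have hS : ∀ k, moment M k = ∑ i, r i ^ k := sum_moments r
  have hsum : ∑ x, M x = p - 2 := by
    have := Finset.card_eq_sum_card_fiberwise (s := (Finset.univ : Finset (Fin (p - 2)))) (t := Finset.univ)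
      (f := r) (fun _ _ => Finset.mem_univ _)
    rw [Finset.card_univ, Fintype.card_fin] at this
    exact this.symm
  have hMlt : ∀ x, M x < p := fun x => by
    have : M x ≤ ∑ y, M y := Finset.single_le_sum (fun y _ => Nat.zero_le _) (Finset.mem_univ x)
    omega
  -- invariance
  have hcm : ∀ c ∈ E, ∀ m, m < p - 1 → ∑ i, ((c : ZMod p) * r i) ^ m = ∑ i, r i ^ m := by
    intro c hc m hm
    obtain ⟨g, hg⟩ := mem_expGroup.1 hc
    have heq : (ζ : G → ℂ) (u ^ (c : ZMod p).val) = (ζ : G → ℂ) (u ^ 1) := by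
      rw [← hg, IsIrr.isClassFunction ζ.2, pow_one]
    rw [hr, hr] at heq
    have h := moment_eq_zero hω (Finset.univ : Finset (Fin (p - 2) ⊕ Fin (p - 2)))
      (Sum.elim (fun _ => 1) (fun _ => -1))
      (Sum.elim (fun i => (r i).val * (c : ZMod p).val) (fun i => (r i).val * 1))
      (CongMod.of_eq (by
        rw [Fintype.sum_sum_type]
        simp only [Sum.elim_inl, Sum.elim_inr, Int.cast_one, Int.cast_neg, one_mul, neg_mul,
          Finset.sum_neg_distrib]
        rw [heq]; ring)) m hm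
    rw [Fintype.sum_sum_type] at h
    simp only [Sum.elim_inl, Sum.elim_inr, Int.cast_one, Int.cast_neg, one_mul, neg_mul,
      Finset.sum_neg_distrib, Nat.cast_mul, hnz, Nat.cast_one, mul_one] at h
    simp only [mul_comm (c : ZMod p)]
    linear_combination h
  have hinv : ∀ c ∈ E, ∀ x : ZMod p, M ((c : ZMod p) * x) = M x := by
    intro c hc x
    rcases eq_or_ne x 0 with rfl | hx
    · rw [mul_zero]
    set M' : ZMod p → ℕ := fun y => (Finset.univ.filter fun i => ((c⁻¹ : (ZMod p)ˣ) : ZMod p) * r i = y).card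
    have hMM : ∀ y, M' y = M ((c : ZMod p) * y) := fun y => by
      show (Finset.univ.filter fun i => ((c⁻¹ : (ZMod p)ˣ) : ZMod p) * r i = y).card = _
      congr 1
      ext i
      simp only [Finset.mem_filter, Finset.mem_univ, true_and]
      exact Units.inv_mul_eq_iff_eq_mul c
    have h1 := sum_moment M' hx
    have h2 := sum_moment M hx
    rw [Finset.sum_congr rfl (fun m hm => by
      rw [sum_moments, hcm c⁻¹ (E.inv_mem hc) m (Finset.mem_range.1 hm), ← hS])] at h1
    rw [h2, hMM 0, hMM x, mul_zero] at h1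
    have h3 := sub_right_injective h1
    rw [ZMod.natCast_eq_natCast_iff', Nat.mod_eq_of_lt (hMlt _), Nat.mod_eq_of_lt (hMlt _)] at h3
    exact h3.symm
  -- some exponent is not zero
  have hne : ∃ x : ZMod p, x ≠ 0 ∧ M x ≠ 0 := by
    by_contra h
    push Not at h
    have hr0 : ∀ i, r i = 0 := fun i => by
      by_contra hi
      have := h (r i) hi
      rw [Finset.card_eq_zero, Finset.filter_eq_empty_iff] at this
      exact this (Finset.mem_univ i) rfl
    have h1 := D.faith u (by
      have h1 := hr 1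
      rw [pow_one] at h1
      rw [h1, D.apply_one]
      simp [hr0])
    have := D.ord
    rw [h1, orderOf_one] at this
    exact hp.out.ne_one this.symm
  obtain ⟨K, hK⟩ := D.exists_class
  -- the congruence on moments
  have hkey : ∀ j m : ℕ, m < p - 1 →
      (K : ZMod p) * ∑ i, ∑ i', (r i + r i' * j) ^ m = -2 * ∑ c : E, ∑ i, (r i * ((c : (ZMod p)ˣ) + j)) ^ m := by
    intro j m hm
    have h := moment_eq_zero hω (Finset.univ : Finset ((Fin (p - 2) × Fin (p - 2)) ⊕ (E × Fin (p - 2))))
      (Sum.elim (fun _ => (K : ℤ)) (fun _ => -((p - 2 : ℕ) : ℤ)))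
      (Sum.elim (fun q => (r q.1).val + (r q.2).val * j)
        (fun q => (r q.2).val * (((q.1 : (ZMod p)ˣ) : ZMod p).val + j)))
      (by
        obtain ⟨a, ha, he⟩ := hK j
        refine ⟨a, ha, ?_⟩
        rw [sub_zero, ← he, Fintype.sum_sum_type, Fintype.sum_prod_type, Fintype.sum_prod_type]
        simp only [Sum.elim_inl, Sum.elim_inr, Int.cast_natCast, Int.cast_neg, pow_add, ← Finset.mul_sum]
        have hu1 : (ζ : G → ℂ) u = ∑ i, ω ^ (r i).val := by
          have := hr 1
          simpa using this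
        have hcj : ∀ c : E, (ζ : G → ℂ) (u ^ ((c : (ZMod p)ˣ) : ZMod p).val * u ^ j) =
            ∑ i, ω ^ ((r i).val * (((c : (ZMod p)ˣ) : ZMod p).val + j)) := fun c => by
          rw [← pow_add, hr]
        rw [hu1, hr j, D.apply_one, Finset.sum_congr rfl (fun c _ => hcj c), Finset.sum_mul]
        ring) m hm
    rw [Fintype.sum_sum_type, Fintype.sum_prod_type, Fintype.sum_prod_type] at h
    simp only [Sum.elim_inl, Sum.elim_inr, Int.cast_natCast, Int.cast_neg, Nat.cast_add, Nat.cast_mul,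
      hnz, D.deg_cast, neg_neg, ← Finset.mul_sum] at h
    linear_combination h
  have hKe : (K : ZMod p) = (Nat.card E : ZMod p) := by
    have h := hkey 0 0 (by omega)
    simp only [pow_zero, Finset.sum_const, Finset.card_univ, Fintype.card_fin, nsmul_eq_mul, mul_one,
      D.deg_cast, ← Nat.card_eq_fintype_card (α := E)] at h
    have h20 : (-2 : ZMod p) * -2 ≠ 0 := by
      have : ((2 : ℕ) : ZMod p) ≠ 0 := by
        rw [Ne, ZMod.natCast_eq_zero_iff]
        exact fun h => absurd (Nat.le_of_dvd two_pos h) (by omega)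
      simpa using this
    exact mul_right_cancel₀ h20 (by linear_combination h)
  have hfun : ∀ k l : ℕ, k + l < p - 1 → Nat.card E ∣ k →
      moment M k * moment M l = -2 * moment M (k + l) := by
    intro k l hkl hek
    set m := k + l with hm
    set Es : ℕ → ZMod p := fun n => ∑ c : E, ((c : (ZMod p)ˣ) : ZMod p) ^ n with hEs
    set co : ℕ → ZMod p := fun a => (m.choose a : ZMod p) *
      ((K : ZMod p) * (moment M (m - a) * moment M a) - -2 * (moment M m * Es (m - a))) with hco
    set f : Polynomial (ZMod p) := ∑ a ∈ Finset.range (m + 1), Polynomial.C (co a) * Polynomial.X ^ a with hf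
    have hf0 : f = 0 := by
      refine Polynomial.eq_zero_of_natDegree_lt_card_of_eval_eq_zero f (f := id) (fun a b h => h) ?_ ?_
      · intro z
        have h := hkey z.val m hkl
        rw [hnz] at h
        have e1 : ∑ i, ∑ i', (r i + r i' * z) ^ m =
            ∑ a ∈ Finset.range (m + 1), (m.choose a : ZMod p) * (moment M (m - a) * moment M a) * z ^ a := by
          calc ∑ i, ∑ i', (r i + r i' * z) ^ m
              = ∑ i, ∑ i', ∑ a ∈ Finset.range (m + 1),
                  (m.choose a : ZMod p) * (r i ^ (m - a) * r i' ^ a) * z ^ a := by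
                refine Finset.sum_congr rfl fun i _ => Finset.sum_congr rfl fun i' _ => ?_
                rw [add_comm, add_pow]
                refine Finset.sum_congr rfl fun a _ => ?_
                rw [mul_pow]; ring
            _ = ∑ a ∈ Finset.range (m + 1), ∑ i, ∑ i',
                  (m.choose a : ZMod p) * (r i ^ (m - a) * r i' ^ a) * z ^ a := by
                rw [Finset.sum_congr rfl (s₁ := (Finset.univ : Finset (Fin (p - 2)))) fun i _ => Finset.sum_comm]
                exact Finset.sum_comm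
            _ = _ := by
                refine Finset.sum_congr rfl fun a _ => ?_
                rw [hS, hS, Finset.sum_mul_sum, Finset.mul_sum, Finset.sum_mul]
                refine Finset.sum_congr rfl fun i _ => ?_
                rw [Finset.mul_sum, Finset.sum_mul]
        have e2 : ∑ c : E, ∑ i, (r i * ((c : (ZMod p)ˣ) + z)) ^ m =
            ∑ a ∈ Finset.range (m + 1), (m.choose a : ZMod p) * (moment M m * Es (m - a)) * z ^ a := by
          calc ∑ c : E, ∑ i, (r i * (((c : (ZMod p)ˣ) : ZMod p) + z)) ^ m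
              = ∑ c : E, ∑ a ∈ Finset.range (m + 1),
                  (m.choose a : ZMod p) * (moment M m * ((c : (ZMod p)ˣ) : ZMod p) ^ (m - a)) * z ^ a := by
                refine Finset.sum_congr rfl fun c _ => ?_
                rw [Finset.sum_congr rfl (fun i _ => mul_pow (r i) (((c : (ZMod p)ˣ) : ZMod p) + z) m),
                  ← Finset.sum_mul, ← hS m, add_comm, add_pow, Finset.mul_sum]
                refine Finset.sum_congr rfl fun a _ => ?_
                ring
            _ = _ := by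
                rw [Finset.sum_comm]
                refine Finset.sum_congr rfl fun a _ => ?_
                rw [hEs, Finset.mul_sum, Finset.mul_sum, Finset.sum_mul]
        rw [e1, e2] at h
        rw [hf, Polynomial.eval_finset_sum]
        simp only [Polynomial.eval_mul, Polynomial.eval_C, Polynomial.eval_pow, Polynomial.eval_X, id_eq, hco]
        rw [Finset.mul_sum, Finset.mul_sum] at h
        rw [← sub_eq_zero] at h
        rw [← Finset.sum_sub_distrib] at h
        refine Eq.trans (Finset.sum_congr rfl fun a _ => ?_) h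
        ring
      · rw [ZMod.card]
        refine lt_of_le_of_lt (Polynomial.natDegree_sum_le_of_forall_le _ _ (n := m) fun a ha => ?_) (by omega)
        refine (Polynomial.natDegree_C_mul_X_pow_le _ _).trans ?_
        rw [Finset.mem_range] at ha
        omega
    have hc : co l = 0 := by
      have := congrArg (fun g => Polynomial.coeff g l) hf0
      simp only [hf, Polynomial.finset_sum_coeff, Polynomial.coeff_C_mul_X_pow, Polynomial.coeff_zero,
        Finset.sum_ite_eq, Finset.mem_range] at this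
      rwa [if_pos (by omega)] at this
    have hch : (m.choose l : ZMod p) ≠ 0 := by
      rw [Ne, ZMod.natCast_eq_zero_iff]
      intro hd
      have h1 : p ∣ m.factorial := by
        rw [← Nat.choose_mul_factorial_mul_factorial (show l ≤ m by omega)]
        exact (hd.mul_right _).mul_right _
      have := hp.out.dvd_factorial.1 h1
      omega
    have hEk : Es k = (Nat.card E : ZMod p) := by
      obtain ⟨q, rfl⟩ := hek
      simp only [hEs]
      rw [Finset.sum_congr rfl (g := fun _ => (1 : ZMod p)) (fun c _ => by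
        rw [pow_mul, ← Units.val_pow_eq_pow_val, pow_card_eq_one E c.2]; simp),
        Finset.sum_const, Finset.card_univ, nsmul_eq_mul, mul_one, Nat.card_eq_fintype_card]
    have hc' := (mul_eq_zero.1 hc).resolve_left hch
    rw [show m - l = k by omega, hEk, hKe] at hc'
    have hne0 : (Nat.card E : ZMod p) ≠ 0 := by
      rw [Ne, ZMod.natCast_eq_zero_iff]
      intro hd
      have h1 := Nat.le_of_dvd Nat.card_pos hd
      have h2 := Nat.le_of_dvd (by rw [Nat.card_eq_fintype_card, ZMod.card_units]; omega)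
        E.card_subgroup_dvd_card
      rw [Nat.card_eq_fintype_card (α := (ZMod p)ˣ), ZMod.card_units] at h2
      omega
    exact mul_left_cancel₀ hne0 (by linear_combination hc')
  exact ⟨hinv, hsum, hne, hfun⟩

/-- The shape of the restriction. -/
theorem exists_shape {ω : ℂ} (hω : IsPrimitiveRoot ω p) (he2 : 2 ≤ Nat.card (expGroup u D.ord)) :
    ∃ r : Fin (p - 2) → ZMod p, (∀ j : ℕ, (ζ : G → ℂ) (u ^ j) = ∑ i, ω ^ ((r i).val * j)) ∧
      let M : ZMod p → ℕ := fun x => (Finset.univ.filter fun i => r i = x).card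
      (∀ c ∈ expGroup u D.ord, ∀ i : ZMod p, M ((c : ZMod p) * i) = M i) ∧
      (∀ x : ZMod p, x ≠ 0 → M x ≤ 1) ∧ (∃ x : ZMod p, x ≠ 0 ∧ M x ≠ 0) ∧
      ((Nat.card (expGroup u D.ord) = 2 ∧ M 0 = 1 ∧
          ∃ a : ZMod p, a ≠ 0 ∧ ∀ x : ZMod p, x ≠ 0 → M x = if x ^ 2 = a ^ 2 then 0 else 1) ∨
        (2 * Nat.card (expGroup u D.ord) + 1 = p ∧ 2 * M 0 + 3 = p)) := by
  obtain ⟨r, hr, hinv, hsum, hne, hfun⟩ := D.exists_fun hω
  refine ⟨r, hr, ?_⟩
  intro M
  obtain ⟨h1, h2⟩ := shape (expGroup u D.ord) M rfl he2 D.seven hinv hsum hne hfun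
  exact ⟨hinv, h1, hne, h2⟩

/-- The normalizer acts nontrivially. -/
theorem two_le_card : 2 ≤ Nat.card (expGroup u D.ord) := by
  classical
  by_contra hlt
  have he : Nat.card (expGroup u D.ord) = 1 := by
    have : 0 < Nat.card (expGroup u D.ord) := Nat.card_pos
    omega
  obtain ⟨ω, hω⟩ : ∃ ω : ℂ, IsPrimitiveRoot ω p := ⟨_, Complex.isPrimitiveRoot_exp p hp.out.ne_zero⟩
  obtain ⟨r, hr, -, hsum, hne, hfun⟩ := D.exists_fun hω
  set M : ZMod p → ℕ := fun x => (Finset.univ.filter fun i => r i = x).card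
  have h7 := D.seven
  obtain ⟨ρ, hρ⟩ : ∃ ρ : ZMod p, moment M 1 = -2 * ρ := by
    refine ⟨(-2)⁻¹ * moment M 1, (mul_inv_cancel_left₀ ?_ _).symm⟩
    rw [neg_ne_zero, show (2 : ZMod p) = ((2 : ℕ) : ZMod p) by norm_num, Ne, ZMod.natCast_eq_zero_iff]
    exact fun h => absurd (Nat.le_of_dvd two_pos h) (by omega)
  have h20 : (-2 : ZMod p) ≠ 0 := by
    rw [neg_ne_zero, show (2 : ZMod p) = ((2 : ℕ) : ZMod p) by norm_num, Ne, ZMod.natCast_eq_zero_iff]
    exact fun h => absurd (Nat.le_of_dvd two_pos h) (by omega)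
  have hp2 : ((p - 2 : ℕ) : ZMod p) = -2 := D.deg_cast
  have hS : ∀ q < p - 1, moment M q = -2 * ρ ^ q := by
    intro q
    induction q with
    | zero =>
      intro _
      simp only [moment, pow_zero, mul_one, ← Nat.cast_sum, hsum, hp2]
    | succ q ih =>
      intro hq
      have h := hfun q 1 hq (by rw [he]; exact one_dvd q)
      rw [ih (by omega), hρ] at h
      refine mul_left_cancel₀ h20 ?_
      rw [← h]; ring
  -- the same moments as a single eigenvalue
  set M' : ZMod p → ℕ := fun x => if x = ρ then p - 2 else 0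
  have hS' : ∀ q < p - 1, moment M' q = moment M q := fun q hq => by
    rw [hS q hq, moment, Finset.sum_eq_single ρ (fun b _ hb => by simp [M', hb])
      (fun h => absurd (Finset.mem_univ ρ) h)]
    simp [M', hp2]
  have hMlt : ∀ x, M x ≤ p - 2 := fun x => by
    rw [← hsum]
    exact Finset.single_le_sum (fun y _ => Nat.zero_le _) (Finset.mem_univ x)
  have hform : ∀ x : ZMod p, x ≠ 0 → (M x : ZMod p) + M' 0 = M 0 + M' x := fun x hx => by
    have h1 := sum_moment M hx
    have h2 := sum_moment M' hx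
    rw [Finset.sum_congr rfl (fun q hq => by rw [hS' q (Finset.mem_range.1 hq)]), h1] at h2
    linear_combination -h2
  have hcast : ∀ a b : ℕ, a < p → b < p → (a : ZMod p) = b → a = b := fun a b ha hb h => by
    rw [ZMod.natCast_eq_natCast_iff'] at h
    rwa [Nat.mod_eq_of_lt ha, Nat.mod_eq_of_lt hb] at h
  have hsumU : M 0 + ∑ x ∈ Finset.univ.erase 0, M x = p - 2 := by
    rw [Finset.add_sum_erase _ _ (Finset.mem_univ _), hsum]
  have hcard : (Finset.univ.erase (0 : ZMod p)).card = p - 1 := by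
    rw [Finset.card_erase_of_mem (Finset.mem_univ _), Finset.card_univ, ZMod.card]
  obtain ⟨x₁, hx₁, hMx₁⟩ := hne
  rcases eq_or_ne ρ 0 with hρ0 | hρ0
  · -- all nonzero exponents have the same multiplicity
    have hc : ∀ x : ZMod p, x ≠ 0 → M x = M x₁ := fun x hx => by
      refine hcast _ _ (by have := hMlt x; omega) (by have := hMlt x₁; omega) ?_
      have h1 := hform x hx
      have h2 := hform x₁ hx₁
      simp only [M', hρ0, if_pos, if_neg hx, if_neg hx₁] at h1 h2
      linear_combination h1 - h2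
    rw [Finset.sum_congr rfl (fun x hx => hc x (Finset.ne_of_mem_erase hx)), Finset.sum_const, hcard,
      smul_eq_mul] at hsumU
    have : (p - 1) * 1 ≤ (p - 1) * M x₁ := Nat.mul_le_mul_left _ (Nat.one_le_iff_ne_zero.2 hMx₁)
    omega
  · have hc : ∀ x : ZMod p, x ≠ 0 → x ≠ ρ → M x = M 0 := fun x hx hxr => by
      refine hcast _ _ (by have := hMlt x; omega) (by have := hMlt 0; omega) ?_
      have h1 := hform x hx
      simp only [M', if_neg hxr, if_neg (Ne.symm hρ0)] at h1
      linear_combination h1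
    have hmem : ρ ∈ Finset.univ.erase (0 : ZMod p) := Finset.mem_erase.2 ⟨hρ0, Finset.mem_univ _⟩
    rw [← Finset.add_sum_erase _ _ hmem, Finset.sum_congr rfl (fun x hx => hc x
      (Finset.ne_of_mem_erase (Finset.mem_of_mem_erase hx)) (Finset.ne_of_mem_erase hx)), Finset.sum_const,
      Finset.card_erase_of_mem hmem, hcard, smul_eq_mul] at hsumU
    have hr' := hform ρ hρ0
    simp only [M', if_neg (Ne.symm hρ0), if_pos, hp2, Nat.cast_zero, add_zero] at hr'
    have hM0 : M 0 = 0 := by
      by_contra h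
      have h1 : (p - 1 - 1) * 1 ≤ (p - 1 - 1) * M 0 := Nat.mul_le_mul_left _ (Nat.one_le_iff_ne_zero.2 h)
      omega
    rw [hM0, mul_zero, add_zero, zero_add] at hsumU
    -- so the element is a scalar
    have hall : ∀ i, r i = ρ := fun i => by
      have h1 : (Finset.univ.filter fun i => r i = ρ) = Finset.univ :=
        Finset.eq_univ_of_card _ (hsumU.trans (Fintype.card_fin _).symm)
      exact (Finset.mem_filter.1 (h1.ge (Finset.mem_univ i))).2
    refine D.not_normal ?_
    have hnorm : ‖(ζ : G → ℂ) u‖ = Cfsg.charDegree (ζ : G → ℂ) := by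
      have h1 := hr 1
      rw [pow_one] at h1
      rw [h1, D.deg, Finset.sum_congr rfl (g := fun _ => ω ^ ρ.val) (fun i _ => by rw [mul_one, hall i]),
        Finset.sum_const, Finset.card_univ, Fintype.card_fin, nsmul_eq_mul, norm_mul, Complex.norm_natCast,
        norm_pow, Complex.norm_eq_one_of_pow_eq_one hω.pow_eq_one hp.out.ne_zero, one_pow, mul_one]
    have hcen : u ∈ Subgroup.center G := CfsgLib.CharDegree.mem_center_of_norm_eq ζ
      ((Subgroup.eq_bot_iff_forall _).2 fun x hx => D.faith x (CfsgLib.CharDegree.mem_kerSubgroup.1 hx)) hnorm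
    rw [← D.zpowers_eq]
    exact ⟨fun x hx g => by
      rwa [Subgroup.mem_center_iff.1 (Subgroup.zpowers_le.2 hcen hx) g, mul_inv_cancel_right]⟩

end Data

end CfsgLib.Char.FeitDegree
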