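import Cfsg.Agent.Lib.Char.FeitDegree.Setup
import Cfsg.Agent.Lib.Char.CliffordRestrict
import Cfsg.Agent.Lib.Perm.CharAverage

/-!
# A normal `p'`-subgroup is central
-/

set_option autoImplicit false

namespace CfsgLib.Char.FeitDegree

open CfsgLib.CharAction CfsgLib.Clifford Finset
open scoped Classical ComplexConjugate Pointwise

variable {p : ℕ} [hp : Fact p.Prime]

/-- Coset constant absolute values force an invariant linear restriction. -/
theorem apply_commutator_eq {H : Type*} [Group H] [Fintype H] (N : Subgroup H) (hN : N.Normal) {v : H}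
    (hv : orderOf v = p) (hbij : Function.Bijective fun q : Fin p × N => v ^ (q.1 : ℕ) * (q.2 : H))
    (φ : Cfsg.IrrCharacter H) (hD : Cfsg.charDegree (φ : H → ℂ) + 1 < p)
    (hconst : ∀ j : ℕ, ¬ p ∣ j → ∀ n ∈ N, ‖(φ : H → ℂ) (v ^ j * n)‖ = ‖(φ : H → ℂ) (v ^ j)‖)
    {k : H} (hk : k ∈ N) : (φ : H → ℂ) (v * k * v⁻¹ * k⁻¹) = (φ : H → ℂ) 1 := by
  have hpp := hp.out
  set D := Cfsg.charDegree (φ : H → ℂ) with hDdef
  have hφ1 : (φ : H → ℂ) 1 = (D : ℂ) := (CfsgLib.CharDegree.cast_irrDegree φ).symm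
  -- a constituent
  obtain ⟨χ, hχ⟩ : ∃ χ : Cfsg.IrrCharacter N, mult N.subtype φ χ ≠ 0 := by
    haveI := Fintype.ofFinite (Cfsg.IrrCharacter N)
    by_contra hno
    push Not at hno
    have h := apply_eq_sum_mult N.subtype φ 1
    rw [map_one, hφ1, Finset.sum_eq_zero (fun γ _ => by rw [hno γ]; simp)] at h
    have h0 := CfsgLib.CharDegree.charDegree_pos φ
    rw [← hDdef] at h0
    exact h0.ne' (by exact_mod_cast h)
  set e := mult N.subtype φ χ with he
  have hinner : Cfsg.classInner (fun n : N => (φ : H → ℂ) n) (χ : N → ℂ) = (e : ℂ) :=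
    classInner_eq_mult N.subtype φ χ
  have hclif := restrict_eq_smul_orbit_sum hN φ.2 χ.2 (by rw [hinner]; exact_mod_cast hχ)
  rw [hinner] at hclif
  set O := Finset.univ.image (conjFn hN (χ : N → ℂ)) with hO
  set d := Cfsg.charDegree (χ : N → ℂ) with hd
  have hd0 : 0 < d := CfsgLib.CharDegree.charDegree_pos χ
  have hDeq : D = e * (O.card * d) := by
    have h := congrFun hclif 1
    rw [Pi.smul_apply, Finset.sum_apply, OneMemClass.coe_one, hφ1, smul_eq_mul,
      Finset.sum_congr rfl (g := fun _ => (d : ℂ)) (fun ψ hψ => by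
        obtain ⟨g, -, rfl⟩ := Finset.mem_image.1 hψ
        rw [conjFn_apply, hd, CfsgLib.CharDegree.cast_irrDegree χ]
        exact congrArg (χ : N → ℂ) (Subtype.ext (by simp))),
      Finset.sum_const, nsmul_eq_mul] at h
    exact_mod_cast h
  -- the constituent is invariant
  have hNfix : ∀ n ∈ N, conjFn hN (χ : N → ℂ) n = χ := fun n hn => funext fun m => by
    rw [conjFn_apply]
    exact (congrArg (χ : N → ℂ) (Subtype.ext (by simp))).trans (IsIrr.isClassFunction χ.2 m ⟨n, hn⟩)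
  let S : Subgroup H :=
    { carrier := {g | conjFn hN (χ : N → ℂ) g = χ}
      one_mem' := conjFn_one hN _
      mul_mem' := fun {a b} ha hb => by
        show conjFn hN (χ : N → ℂ) (a * b) = χ
        rw [conjFn_mul, show conjFn hN (χ : N → ℂ) a = χ from ha]
        exact hb
      inv_mem' := fun {a} ha => by
        show conjFn hN (χ : N → ℂ) a⁻¹ = χ
        conv_lhs => rw [← show conjFn hN (χ : N → ℂ) a = χ from ha]
        rw [← conjFn_mul, mul_inv_cancel, conjFn_one] }
  have hvS : v ∈ S := by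
    by_contra hvS
    have hinj : Function.Injective fun i : Fin p => conjFn hN (χ : N → ℂ) (v ^ (i : ℕ)) := by
      intro i j hij
      simp only at hij
      by_contra hne
      wlog hlt : (i : ℕ) < (j : ℕ) generalizing i j
      · exact this hij.symm (Ne.symm hne) (lt_of_le_of_ne (not_lt.1 hlt) fun h => hne (Fin.ext h.symm))
      have h1 : v ^ ((j : ℕ) - i) ∈ S := by
        show conjFn hN (χ : N → ℂ) (v ^ ((j : ℕ) - i)) = χ
        have h := congrArg (fun ψ => conjFn hN ψ ((v ^ (i : ℕ))⁻¹)) hij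
        simp only [← conjFn_mul, mul_inv_cancel, conjFn_one] at h
        rw [pow_sub v hlt.le]
        exact h.symm
      refine hvS ?_
      have hco : ((j : ℕ) - i).Coprime (orderOf v) := by
        rw [hv]
        refine (hpp.coprime_iff_not_dvd.2 fun h => ?_).symm
        have := Nat.le_of_dvd (by omega) h
        have := j.2
        omega
      obtain ⟨m, hm⟩ := exists_pow_eq_self_of_coprime hco
      rw [← hm]
      exact pow_mem h1 m
    have h1 : p ≤ O.card := by
      rw [← Fintype.card_fin p, ← Finset.card_univ, ← Finset.card_image_of_injective _ hinj]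
      exact Finset.card_le_card fun ψ hψ => by
        obtain ⟨i, -, rfl⟩ := Finset.mem_image.1 hψ
        exact Finset.mem_image_of_mem _ (Finset.mem_univ _)
    have h2 : 1 * O.card ≤ (e * d) * O.card :=
      Nat.mul_le_mul_right _ (Nat.mul_pos (Nat.pos_of_ne_zero hχ) hd0)
    rw [show (e * d) * O.card = D by rw [hDeq]; ring, one_mul] at h2
    omega
  have hOone : O = {(χ : N → ℂ)} := by
    refine Finset.eq_singleton_iff_unique_mem.2
      ⟨Finset.mem_image.2 ⟨1, Finset.mem_univ _, conjFn_one hN _⟩, fun ψ hψ => ?_⟩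
    obtain ⟨g, -, rfl⟩ := Finset.mem_image.1 hψ
    obtain ⟨⟨j, n⟩, rfl⟩ := hbij.2 g
    exact S.mul_mem (pow_mem hvS j) (hNfix n n.2)
  rw [hOone, Finset.card_singleton, one_mul] at hDeq
  rw [hOone, Finset.sum_singleton] at hclif
  have hres : ∀ n : N, (φ : H → ℂ) n = (e : ℂ) * (χ : N → ℂ) n := fun n => congrFun hclif n
  -- the norm
  have hsum : ∑ j : Fin p, Complex.normSq ((φ : H → ℂ) (v ^ (j : ℕ))) + (e : ℝ) ^ 2 =
      (p : ℝ) + (D : ℝ) ^ 2 := by
    have htot : ∑ g : H, Complex.normSq ((φ : H → ℂ) g) = Nat.card H := by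
      simp only [Complex.normSq_eq_norm_sq]
      exact CfsgLib.CharDegree.sum_norm_sq φ
    have hχn : ∑ n : N, Complex.normSq ((χ : N → ℂ) n) = Nat.card N := by
      simp only [Complex.normSq_eq_norm_sq]
      exact CfsgLib.CharDegree.sum_norm_sq χ
    rw [← Fintype.sum_equiv (Equiv.ofBijective _ hbij) (fun q => Complex.normSq ((φ : H → ℂ) (v ^ (q.1 : ℕ) * q.2)))
      _ (fun q => rfl), Fintype.sum_prod_type,
      show Nat.card H = p * Nat.card N by
        rw [← Nat.card_eq_of_bijective _ hbij, Nat.card_prod, Nat.card_eq_fintype_card, Fintype.card_fin]] at htot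
    have h0 : (⟨0, hpp.pos⟩ : Fin p) ∈ (Finset.univ : Finset (Fin p)) := Finset.mem_univ _
    rw [← Finset.add_sum_erase _ _ h0] at htot ⊢
    rw [Finset.sum_congr rfl (s₁ := Finset.univ.erase (⟨0, hpp.pos⟩ : Fin p))
      (g := fun j : Fin p => (Nat.card N : ℝ) * Complex.normSq ((φ : H → ℂ) (v ^ (j : ℕ)))) (fun j hj => by
        rw [Finset.sum_congr rfl (g := fun _ => Complex.normSq ((φ : H → ℂ) (v ^ (j : ℕ)))) (fun n _ => by
          simp only [Complex.normSq_eq_norm_sq]
          rw [hconst _ (fun h => Finset.ne_of_mem_erase hj (Fin.ext (Nat.eq_zero_of_dvd_of_lt h j.2))) _ n.2]),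
          Finset.sum_const, Finset.card_univ, nsmul_eq_mul, Nat.card_eq_fintype_card])] at htot
    simp only [pow_zero, one_mul, hres, Complex.normSq_mul, Complex.normSq_natCast, ← Finset.mul_sum, hχn] at htot
    rw [pow_zero, hφ1, Complex.normSq_natCast]
    have hN0 : (0 : ℝ) < Nat.card N := Nat.cast_pos.2 Nat.card_pos
    push_cast at htot
    refine mul_left_cancel₀ hN0.ne' ?_
    linear_combination htot
  obtain ⟨m, hm⟩ := IsChar.classInner_eq_natCast
    (IsChar.restrict (Subgroup.zpowers v) (IsIrr.isCharacter φ.2))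
    (IsChar.restrict (Subgroup.zpowers v) (IsIrr.isCharacter φ.2))
  have hcast : p * m + e ^ 2 = p + D ^ 2 := by
    have h : (p : ℝ) * m = ∑ j : Fin p, Complex.normSq ((φ : H → ℂ) (v ^ (j : ℕ))) := by
      apply Complex.ofReal_injective
      rw [Cfsg.classInner, inv_mul_eq_iff_eq_mul₀ (Nat.cast_ne_zero.2 Nat.card_pos.ne'), Nat.card_zpowers, hv] at hm
      push_cast
      rw [← hm]
      simp only [Complex.mul_conj]
      refine (Fintype.sum_equiv ((finCongr hv.symm).trans (finEquivZPowers (isOfFinOrder_of_finite v))) _ _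
        fun j => ?_).symm
      simp only [Equiv.trans_apply, finEquivZPowers_apply, finCongr_apply, Fin.val_cast]
    rw [← h] at hsum
    exact_mod_cast hsum
  have hd1 : d = 1 := by
    rw [hDeq] at hcast hD
    have hdiv : (p : ℤ) ∣ (e : ℤ) * (e : ℤ) * (((d : ℤ) - 1) * ((d : ℤ) + 1)) := by
      refine ⟨(m : ℤ) - 1, ?_⟩
      have h : (p : ℤ) * m + (e : ℤ) ^ 2 = p + ((e : ℤ) * d) ^ 2 := by exact_mod_cast hcast
      linear_combination -h
    have he0 : 0 < e := Nat.pos_of_ne_zero hχ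
    have hed : e * 1 ≤ e * d := Nat.mul_le_mul_left _ hd0
    have hed' : 1 * d ≤ e * d := Nat.mul_le_mul_right _ he0
    have hpi := Nat.prime_iff_prime_int.1 hpp
    rcases hpi.dvd_mul.1 hdiv with h | h
    · rcases hpi.dvd_mul.1 h with h | h <;>
        · have := Nat.le_of_dvd he0 (Int.natCast_dvd_natCast.1 h)
          omega
    · rcases hpi.dvd_mul.1 h with h | h
      · have := Int.eq_zero_of_abs_lt_dvd h (by rw [abs_lt]; omega)
        omega
      · have := Int.eq_zero_of_abs_lt_dvd h (by rw [abs_lt]; omega)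
        omega
  rw [hd1, mul_one] at hDeq
  obtain ⟨l, hl⟩ := CfsgLib.CharDegree.exists_hom_of_degree_one χ (hd ▸ hd1)
  have hx : v * k * v⁻¹ * k⁻¹ ∈ N := N.mul_mem (hN.conj_mem k hk v) (N.inv_mem hk)
  have hlv : (χ : N → ℂ) ⟨v * k * v⁻¹, hN.conj_mem k hk v⟩ = (χ : N → ℂ) ⟨k, hk⟩ := by
    have h1 := hres ⟨v * k * v⁻¹, hN.conj_mem k hk v⟩
    have h2 := hres ⟨k, hk⟩
    simp only [IsIrr.isClassFunction φ.2 k v] at h1
    exact mul_left_cancel₀ (Nat.cast_ne_zero.2 hχ) (h1.symm.trans h2)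
  simp only [hl] at hlv
  show (φ : H → ℂ) ((⟨v * k * v⁻¹ * k⁻¹, hx⟩ : N) : H) = _
  rw [hres, hl, hφ1, show (⟨v * k * v⁻¹ * k⁻¹, hx⟩ : N) = ⟨v * k * v⁻¹, hN.conj_mem k hk v⟩ * ⟨k, hk⟩⁻¹ from rfl]
  simp only [map_mul, map_inv, Units.ext hlv, mul_inv_cancel, Units.val_one, mul_one, hDeq]

namespace Data

variable {G : Type*} [Group G] [Fintype G] {P : Sylow p G} {u : G} {ζ : Cfsg.IrrCharacter G}
variable (D : Data P u ζ)
include D

/-- A normal `p'`-subgroup is central. -/
theorem le_center_of_normal (K : Subgroup G) [hKn : K.Normal] (hK : ¬ p ∣ Nat.card K) :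
    K ≤ Subgroup.center G := by
  have hpp := hp.out
  set K₀ := K ⊓ Subgroup.centralizer ({u} : Set G) with hK₀
  have hKpow : ∀ k ∈ K, k ^ Nat.card K = 1 := fun k hk =>
    congrArg Subtype.val (pow_card_eq_one' (G := K) (x := ⟨k, hk⟩))
  have hK₀Z : K₀ ≤ Subgroup.center G := fun c hc => D.mem_center_of_pow hc.2 hK (hKpow c hc.1)
  suffices hcen : ∀ k ∈ K, u * k * u⁻¹ * k⁻¹ = 1 by
    intro k hk
    refine D.mem_center_of_pow (Subgroup.mem_centralizer_singleton_iff.2 ?_) hK (hKpow k hk)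
    exact (mul_inv_eq_iff_eq_mul.1 (mul_inv_eq_one.1 (hcen k hk))).symm
  set H := K ⊔ (P : Subgroup G) with hH
  have huH : u ∈ H := (le_sup_right : (P : Subgroup G) ≤ H) D.mem
  set v : H := ⟨u, huH⟩
  have hv : orderOf v = p := by rw [← Subgroup.orderOf_coe]; exact D.ord
  set N := K.subgroupOf H with hN
  have hNn : N.Normal := inferInstance
  have hKP : ∀ j : ℕ, u ^ j ∈ K → p ∣ j := fun j hj => by
    have h1 : u ^ (j * Nat.card K) = 1 := by rw [pow_mul]; exact hKpow _ hj
    rw [← orderOf_dvd_iff_pow_eq_one, D.ord] at h1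
    exact (hpp.dvd_mul.1 h1).resolve_right hK
  have hbij : Function.Bijective fun q : Fin p × N => v ^ (q.1 : ℕ) * (q.2 : H) := by
    constructor
    · rintro ⟨i, n⟩ ⟨j, n'⟩ h
      have h1 : u ^ (i : ℕ) * ((n : H) : G) = u ^ (j : ℕ) * ((n' : H) : G) := congrArg Subtype.val h
      have hij : i = j := by
        by_contra hne
        wlog hlt : (i : ℕ) < (j : ℕ) generalizing i j n n'
        · exact this j n' i n h.symm h1.symm (Ne.symm hne)
            (lt_of_le_of_ne (not_lt.1 hlt) fun h' => hne (Fin.ext h'.symm))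
        have h2 : u ^ ((j : ℕ) - i) = ((n : H) : G) * ((n' : H) : G)⁻¹ := by
          rw [pow_sub u hlt.le, (Commute.refl u).pow_pow _ _ |>.inv_right.eq, eq_mul_inv_iff_mul_eq, mul_assoc,
            inv_mul_eq_iff_eq_mul]
          exact h1.symm
        have h3 := hKP _ (h2 ▸ K.mul_mem n.2 (K.inv_mem n'.2))
        have := Nat.le_of_dvd (by omega) h3
        have := j.2
        omega
      subst hij
      exact Prod.ext rfl (Subtype.ext (Subtype.ext (mul_left_cancel h1)))
    · rintro ⟨g, hg⟩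
      have hg' : g ∈ (K : Set G) * ((P : Subgroup G) : Set G) := by rw [← Subgroup.normal_mul]; exact hg
      obtain ⟨k, hk, x, hx, rfl⟩ := hg'
      rw [SetLike.mem_coe, ← D.zpowers_eq, mem_zpowers_iff_mem_range_orderOf, Finset.mem_image] at hx
      obtain ⟨j, hj, rfl⟩ := hx
      rw [Finset.mem_range, D.ord] at hj
      have hk' : (u ^ j)⁻¹ * k * (u ^ j) ∈ K := by simpa using hKn.conj_mem k hk (u ^ j)⁻¹
      refine ⟨⟨⟨j, hj⟩, ⟨⟨_, (le_sup_left : K ≤ H) hk'⟩, hk'⟩⟩, Subtype.ext ?_⟩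
      show u ^ j * ((u ^ j)⁻¹ * k * (u ^ j)) = k * u ^ j
      group
  -- the coset of a power of `u`
  have hcoset : ∀ j : ℕ, ¬ p ∣ j → ∀ k ∈ K, ∃ h ∈ K, ∃ c ∈ K₀, u ^ j * k = h * u ^ j * h⁻¹ * c := by
    intro j hj
    let Ψ : (K ⧸ K₀.subgroupOf K) × K₀ → K := fun q =>
      ⟨(u ^ j)⁻¹ * ((q.1.out : K) : G) * u ^ j * ((q.1.out : K) : G)⁻¹ * (q.2 : G),
        K.mul_mem (K.mul_mem (by simpa using hKn.conj_mem _ (q.1.out : K).2 (u ^ j)⁻¹) (K.inv_mem (q.1.out : K).2))
          q.2.2.1⟩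
    have hinj : Function.Injective Ψ := by
      rintro ⟨q, c⟩ ⟨q', c'⟩ h
      have h1 : (q.out : K).1 * u ^ j * (q.out : K).1⁻¹ * (c : G) =
          (q'.out : K).1 * u ^ j * (q'.out : K).1⁻¹ * (c' : G) := by
        calc (q.out : K).1 * u ^ j * (q.out : K).1⁻¹ * (c : G)
            = u ^ j * ((u ^ j)⁻¹ * (q.out : K).1 * u ^ j * (q.out : K).1⁻¹ * (c : G)) := by group
          _ = u ^ j * ((u ^ j)⁻¹ * (q'.out : K).1 * u ^ j * (q'.out : K).1⁻¹ * (c' : G)) :=
            congrArg (u ^ j * ·) (congrArg Subtype.val h)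
          _ = _ := by group
      set a := (q.out : K).1 * u ^ j * (q.out : K).1⁻¹
      set b := (q'.out : K).1 * u ^ j * (q'.out : K).1⁻¹
      set w : G := (c' : G) * (c : G)⁻¹
      have hwZ : w ∈ Subgroup.center G := mul_mem (hK₀Z c'.2) (inv_mem (hK₀Z c.2))
      have h2 : a = b * w := by
        rw [← mul_inv_eq_iff_eq_mul.2 h1.symm, mul_assoc]
      have hap : ∀ g : G, (g * u ^ j * g⁻¹) ^ p = 1 := fun g => by
        rw [conj_pow, ← pow_mul, mul_comm, pow_mul, ← D.ord, pow_orderOf_eq_one, one_pow, mul_one, mul_inv_cancel]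
      have hw1 : w = 1 := by
        have h3 : w ^ p = 1 := by
          have h4 := hap (q.out : K).1
          rw [show (q.out : K).1 * u ^ j * (q.out : K).1⁻¹ = b * w from h2,
            (show Commute b w from Subgroup.mem_center_iff.1 hwZ b).mul_pow, hap, one_mul] at h4
          exact h4
        have h5 : w ^ Nat.card K = 1 := hKpow _ (K.mul_mem c'.2.1 (K.inv_mem c.2.1))
        have h6 : orderOf w ∣ Nat.gcd p (Nat.card K) :=
          Nat.dvd_gcd (orderOf_dvd_of_pow_eq_one h3) (orderOf_dvd_of_pow_eq_one h5)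
        rw [(hpp.coprime_iff_not_dvd.2 hK).gcd_eq_one] at h6
        exact orderOf_eq_one_iff.1 (Nat.dvd_one.1 h6)
      rw [hw1, mul_one] at h2
      have hcc : c = c' := Subtype.ext (mul_inv_eq_one.1 hw1).symm
      refine Prod.ext ?_ hcc
      rw [← QuotientGroup.out_eq' q, ← QuotientGroup.out_eq' q', QuotientGroup.eq, Subgroup.mem_subgroupOf]
      refine ⟨((q.out : K)⁻¹ * q'.out).2, ?_⟩
      have hcomm : Commute ((q.out : K).1⁻¹ * (q'.out : K).1) (u ^ j) := by
        calc (q.out : K).1⁻¹ * (q'.out : K).1 * u ^ j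
            = (q.out : K).1⁻¹ * b * (q'.out : K).1 := by simp only [b]; group
          _ = (q.out : K).1⁻¹ * a * (q'.out : K).1 := by rw [h2]
          _ = u ^ j * ((q.out : K).1⁻¹ * (q'.out : K).1) := by simp only [a]; group
      have hgen : u ∈ Subgroup.zpowers (u ^ j) := by
        obtain ⟨m, hm⟩ := exists_pow_eq_self_of_coprime (x := u) (n := j)
          (by rw [D.ord]; exact (hpp.coprime_iff_not_dvd.2 hj).symm)
        exact ⟨m, by simpa using hm⟩
      obtain ⟨m, hm⟩ := hgen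
      refine Subgroup.mem_centralizer_singleton_iff.2 ?_
      have hm' : (u ^ j) ^ m = u := hm
      have := (hcomm.zpow_right m).eq
      rw [hm'] at this
      exact this
    have hsurj : Function.Surjective Ψ := by
      refine (hinj.bijective_of_nat_card_le ?_).2
      rw [Nat.card_prod, ← Nat.card_congr (Subgroup.subgroupOfEquivOfLe (inf_le_left : K₀ ≤ K)).toEquiv,
        ← Subgroup.card_eq_card_quotient_mul_card_subgroup]
    intro k hk
    obtain ⟨⟨q, c⟩, hq⟩ := hsurj ⟨k, hk⟩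
    refine ⟨(q.out : K).1, (q.out : K).2, c, c.2, ?_⟩
    have h := congrArg Subtype.val hq
    simp only [Ψ] at h
    rw [← h]
    group
  intro k hk
  refine D.faith _ ?_
  have hmem : u * k * u⁻¹ * k⁻¹ ∈ K := K.mul_mem (hKn.conj_mem k hk u) (K.inv_mem hk)
  haveI := Fintype.ofFinite (Cfsg.IrrCharacter H)
  set x : H := v * ⟨k, (le_sup_left : K ≤ H) hk⟩ * v⁻¹ * (⟨k, (le_sup_left : K ≤ H) hk⟩ : H)⁻¹
  show (ζ : G → ℂ) (H.subtype x) = _
  rw [← map_one H.subtype, apply_eq_sum_mult H.subtype ζ x, apply_eq_sum_mult H.subtype ζ (1 : H)]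
  refine Finset.sum_congr rfl fun φ _ => ?_
  by_cases hm : mult H.subtype ζ φ = 0
  · simp [hm]
  congr 1
  refine apply_commutator_eq N hNn hv hbij φ ?_ ?_ (hk : (⟨k, (le_sup_left : K ≤ H) hk⟩ : H) ∈ N)
  · have h := apply_eq_sum_mult H.subtype ζ (1 : H)
    rw [map_one, D.apply_one] at h
    simp only [← CfsgLib.CharDegree.cast_irrDegree] at h
    have h' : p - 2 = ∑ γ : Cfsg.IrrCharacter H, mult H.subtype ζ γ * Cfsg.charDegree (γ : H → ℂ) := by
      exact_mod_cast h
    have h1 : 1 * Cfsg.charDegree (φ : H → ℂ) ≤ mult H.subtype ζ φ * Cfsg.charDegree (φ : H → ℂ) :=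
      Nat.mul_le_mul_right _ (Nat.pos_of_ne_zero hm)
    have h2 : mult H.subtype ζ φ * Cfsg.charDegree (φ : H → ℂ) ≤ p - 2 := by
      rw [h']
      exact Finset.single_le_sum (f := fun γ => mult H.subtype ζ γ * Cfsg.charDegree (γ : H → ℂ))
        (fun _ _ => Nat.zero_le _) (Finset.mem_univ φ)
    have := D.seven
    omega
  · intro j hj n hn
    obtain ⟨h, hh, c, hc, he⟩ := hcoset j hj (n : G) hn
    obtain ⟨l, hl⟩ := exists_centralHom φ (K₀.subgroupOf H) fun z hz => Subgroup.mem_center_iff.2 fun g =>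
      Subtype.ext (Subgroup.mem_center_iff.1 (hK₀Z hz) (g : G))
    have hn' : v ^ j * n = (⟨h, (le_sup_left : K ≤ H) hh⟩ : H) * v ^ j * (⟨h, (le_sup_left : K ≤ H) hh⟩ : H)⁻¹ *
        ((⟨⟨c, (le_sup_left : K ≤ H) hc.1⟩, hc⟩ : K₀.subgroupOf H) : H) := Subtype.ext he
    rw [hn', hl, IsIrr.isClassFunction φ.2, norm_mul, norm_linear, one_mul]

end Data

end CfsgLib.Char.FeitDegree
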