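import Cfsg.Agent.Lib.Char.FeitDegree.Covering
import Cfsg.Agent.Lib.Perm.FewSylowTwo
import Cfsg.Agent.Lib.Classical.Dickson.MaxExist
import Cfsg.Agent.Lib.Recog.PrimeGraph

/-!
# Groups with a faithful character of degree `p - 2`
-/

set_option autoImplicit false

namespace CfsgLib.Char.FeitDegree

open scoped Classical

variable {p : ℕ} [hp : Fact p.Prime]

namespace Data

variable {G : Type*} [Group G] [Fintype G] {P : Sylow p G} {u : G} {ζ : Cfsg.IrrCharacter G}
variable (D : Data P u ζ)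
include D

/-- The perfect case. -/
theorem exists_iso_sl (hperf : _root_.commutator G = ⊤) :
    ∃ (a : ℕ) (F : Type) (_ : Field F) (_ : Fintype F), p = 2 ^ a + 1 ∧ Fintype.card F = 2 ^ a ∧
      Nonempty (G ≃* Matrix.SpecialLinearGroup (Fin 2) F) := by
  haveI := Fintype.ofFinite (Cfsg.IrrCharacter G)
  have hpp := hp.out
  have h7 := D.seven
  have hZ := D.center_eq_bot hperf
  have hC : Subgroup.centralizer ((P : Subgroup G) : Set G) = (P : Subgroup G) := by
    refine le_antisymm (fun g hg => ?_) ?_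
    · have hgu : g ∈ Subgroup.centralizer ({u} : Set G) :=
        Subgroup.mem_centralizer_singleton_iff.2 (Subgroup.mem_centralizer_iff.1 hg u D.mem).symm
      obtain ⟨x, hx, z, hz, rfl⟩ := D.exists_mul_center hgu
      rw [hZ, Subgroup.mem_bot] at hz
      rw [hz, mul_one]
      exact hx
    · haveI : IsCyclic (P : Subgroup G) := isCyclic_of_prime_card D.card
      exact fun y hy => Subgroup.mem_centralizer_iff.2 fun z hz =>
        congrArg Subtype.val ((IsCyclic.commGroup (α := (P : Subgroup G))).mul_comm ⟨z, hz⟩ ⟨y, hy⟩)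
  obtain ⟨a, e, t, n, F⟩ := CfsgLib.Perm.FewSylow.exists_frame P D.card hC hperf
  have he : e = 2 := by
    have h := D.card_normalizer
    rw [D.exists_root.1, hZ, Subgroup.card_bot, mul_one, F.cardN] at h
    exact Nat.eq_of_mul_eq_mul_right hpp.pos h
  subst he
  obtain ⟨Xs, Y, εX, ε, hdisj, hTX, hT1, hXc, hYc, hX, hε, hYdeg, -, hrel, -, hK0, -⟩ :=
    CfsgLib.Perm.FewSylow.exists_values F
  obtain ⟨-, ω, hω, hval⟩ := D.exists_root
  have hstar : ∀ j : ℕ, ¬ p ∣ j → u ^ j ∈ CfsgLib.Perm.FewSylow.star (P : Subgroup G) := fun j hj =>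
    CfsgLib.Perm.FewSylow.mem_star.2
      ⟨fun h => hj (by rw [← D.ord]; exact orderOf_dvd_of_pow_eq_one h), pow_mem D.mem j⟩
  have hp1 : ¬ p ∣ 1 := hpp.not_dvd_one
  have hp2 : ¬ p ∣ 2 := fun h => by have := Nat.le_of_dvd two_pos h; omega
  have hω0 : ω ≠ 0 := hω.ne_zero hpp.ne_zero
  have hord : ∀ k : ℕ, 0 < k → k ≤ 4 → ω ^ k ≠ 1 := fun k hk hk4 h => by
    have := Nat.le_of_dvd hk ((hω.pow_eq_one_iff_dvd k).1 h)
    omega
  have h1 := hval 1 hp1
  rw [pow_one, pow_one] at h1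
  have hne : (ζ : G → ℂ) u ≠ 0 := fun h0 => by
    rw [h1, neg_eq_zero] at h0
    refine hord 4 (by norm_num) le_rfl ?_
    have h3 : ω ^ 2 + 1 = 0 := by
      field_simp at h0
      linear_combination h0
    linear_combination (ω ^ 2 - 1) * h3
  have hζY : ζ ∈ Y := by
    by_contra hY
    by_cases hζX : ζ ∈ Xs
    · have hu2 : (ζ : G → ℂ) (u ^ 2) = (ζ : G → ℂ) (u ^ 1) := by
        rw [(hX ζ hζX).2.2 _ (hstar 2 hp2), (hX ζ hζX).2.2 _ (hstar 1 hp1)]
      rw [hval 2 hp2, hval 1 hp1, pow_one, neg_inj] at hu2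
      obtain ⟨hs, -, hv⟩ := hX ζ hζX
      have h3 := hv u (by simpa using hstar 1 hp1)
      rw [h1] at h3
      have hsq : (ω + ω⁻¹) * (ω + ω⁻¹) = 1 := by
        rcases hs with h | h <;> rw [h] at h3 <;> push_cast at h3
        · rw [show ω + ω⁻¹ = -1 by linear_combination -h3]; ring
        · rw [show ω + ω⁻¹ = 1 by linear_combination -h3]; ring
      have hwi : ω * ω⁻¹ = 1 := mul_inv_cancel₀ hω0
      have hm1 : ω + ω⁻¹ = -1 := by
        rw [← inv_pow] at hu2
        linear_combination hsq - hu2 - 2 * hwi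
      refine hord 3 (by norm_num) (by norm_num) ?_
      have h4 : ω ^ 2 + ω + 1 = 0 := by linear_combination ω * hm1 - hwi
      linear_combination (ω - 1) * h4
    · exact hne (hK0 ζ (by simp [hζX, hY]) u (by simpa using hstar 1 hp1))
  have hε1 : ε = -1 := by
    refine hε.resolve_left fun h => ?_
    have h2 := Int.modEq_iff_dvd.1 (hYdeg ζ hζY)
    rw [D.deg, h, Nat.cast_sub hpp.two_le] at h2
    obtain ⟨c, hc⟩ := h2
    have := Int.eq_zero_of_abs_lt_dvd (m := (p : ℤ)) (x := 4) ⟨c + 1, by push_cast at hc; linarith⟩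
      (by norm_num; omega)
    omega
  obtain ⟨χ, hχX, hχT⟩ : ∃ χ ∈ Xs, χ ≠ trivChar G := by
    by_contra hno
    push Not at hno
    have : Xs.card ≤ ({trivChar G} : Finset _).card :=
      Finset.card_le_card fun χ hχ => Finset.mem_singleton.2 (hno χ hχ)
    rw [hXc, Finset.card_singleton] at this
    omega
  have hXeq : Xs = {trivChar G, χ} := by
    refine (Finset.eq_of_subset_of_card_le (Finset.insert_subset hTX (Finset.singleton_subset_iff.2 hχX)) ?_).symm
    rw [Finset.card_pair hχT.symm, hXc]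
  obtain ⟨hs, -, hχv⟩ := hX χ hχX
  set x := Cfsg.charDegree (χ : G → ℂ) with hx
  have hdeg : εX χ * (x : ℤ) = -((p : ℤ) - 1) := by
    have h := hrel ζ hζY 1 (by rw [orderOf_one]; exact hp1)
    rw [hXeq, Finset.sum_pair hχT.symm, hT1, trivChar_apply, hε1, D.apply_one,
      ← CfsgLib.CharDegree.cast_irrDegree χ, ← hx, Nat.cast_sub hpp.two_le] at h
    have h' : (((εX χ * (x : ℤ)) : ℤ) : ℂ) = ((-((p : ℤ) - 1) : ℤ) : ℂ) := by
      push_cast at h ⊢
      linear_combination -h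
    exact_mod_cast h'
  have hεχ : εX χ = -1 := hs.resolve_left fun h => by
    rw [h] at hdeg
    have := CfsgLib.CharDegree.charDegree_pos χ
    omega
  rw [hεχ] at hdeg
  have hxp : x = p - 1 := by omega
  have hstar0 : ∀ y ∈ CfsgLib.Perm.FewSylow.star (P : Subgroup G), (χ : G → ℂ) y ≠ 0 := fun y hy => by
    rw [hχv y hy, hεχ]; norm_num
  have hfaith : ∀ g : G, (χ : G → ℂ) g = (χ : G → ℂ) 1 → g = 1 := by
    intro g hg
    haveI := CfsgLib.CharDegree.kerSubgroup_normal χ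
    have hg' : g ∈ CfsgLib.CharDegree.kerSubgroup χ := CfsgLib.CharDegree.mem_kerSubgroup.2 hg
    have hnd : ¬ p ∣ Nat.card (CfsgLib.CharDegree.kerSubgroup χ) := fun h => by
      have h2 := CfsgLib.CharDegree.mem_kerSubgroup.1 (D.mem_of_dvd_card _ h)
      rw [hχv u (by simpa using hstar 1 hp1), hεχ, ← CfsgLib.CharDegree.cast_irrDegree, ← hx] at h2
      have h3 : ((x + 1 : ℕ) : ℂ) = ((0 : ℕ) : ℂ) := by push_cast at h2 ⊢; linear_combination -h2
      have := Nat.cast_inj.1 h3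
      omega
    have h2 := D.le_center_of_normal _ hnd hg'
    rwa [hZ, Subgroup.mem_bot] at h2
  obtain ⟨hn, hsmall⟩ := CfsgLib.Perm.FewSylowTwo.classify (by omega) D.card hC hperf F χ (hx ▸ hxp) hstar0 hfaith
  have hn' : 2 * n + 3 = p := (hn.resolve_left fun h => by omega).2
  rcases hsmall with ⟨K, _, _, hK, -, ⟨f⟩⟩ | ⟨m, K, _, _, hK, hm, -, ⟨f⟩⟩
  · exfalso
    have hc := CfsgLib.Classical.Dickson.gcd_mul_card_psl (F := K) hK
    rw [← Nat.card_congr f.toEquiv, F.cardG] at hc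
    have hg : Nat.gcd 2 (p - 1) = 2 := Nat.gcd_eq_left ⟨n + 1, by omega⟩
    rw [hg] at hc
    have h2 : p ^ 2 - 1 + 1 = p ^ 2 := Nat.sub_add_cancel (Nat.one_le_pow _ _ hpp.pos)
    generalize p ^ 2 - 1 = w at *
    subst hn'
    have h3 : w = 8 * n * n + 12 * n + 4 :=
      Nat.eq_of_mul_eq_mul_left (show 0 < 2 * n + 3 by omega) (hc.symm.trans (by ring))
    subst h3
    nlinarith
  · haveI : Fact (Nat.Prime 2) := ⟨Nat.prime_two⟩
    haveI : CharP K 2 := charP_of_card_eq_prime_pow (f := m) hK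
    obtain ⟨g⟩ := CfsgLib.Recog.AffineTwo.psl_equiv_sl K
    exact ⟨m, K, inferInstance, inferInstance, hm, hK, ⟨f.trans g⟩⟩

/-- The theorem. -/
theorem main : ∃ (a : ℕ) (F : Type) (_ : Field F) (_ : Fintype F), p = 2 ^ a + 1 ∧ Fintype.card F = 2 ^ a ∧
    Nonempty (G ≃* Matrix.SpecialLinearGroup (Fin 2) F × Subgroup.center G) := by
  obtain ⟨R, hRn, hPR, hperf, hcov⟩ := D.exists_residual
  haveI := Fintype.ofFinite R
  obtain ⟨ζ₁, D₁⟩ := D.exists_data R hPR hcov
  obtain ⟨a, F, i1, i2, ha, hF, ⟨f⟩⟩ := D₁.exists_iso_sl hperf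
  have hbot : ∀ x ∈ R, x ∈ Subgroup.center G → x = 1 := fun x hx hxZ => by
    have h : (⟨x, hx⟩ : R) ∈ Subgroup.center R :=
      Subgroup.mem_center_iff.2 fun y => Subtype.ext (Subgroup.mem_center_iff.1 hxZ y)
    rw [D₁.center_eq_bot hperf, Subgroup.mem_bot] at h
    exact congrArg Subtype.val h
  let μ : R × Subgroup.center G →* G :=
    { toFun := fun q => (q.1 : G) * q.2
      map_one' := by simp
      map_mul' := fun q q' => by
        simp only [Prod.fst_mul, Prod.snd_mul, Subgroup.coe_mul]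
        calc (q.1 : G) * q'.1 * ((q.2 : G) * q'.2) = (q.1 : G) * ((q'.1 : G) * q.2) * q'.2 := by group
          _ = (q.1 : G) * ((q.2 : G) * q'.1) * q'.2 := by rw [Subgroup.mem_center_iff.1 q.2.2 (q'.1 : G)]
          _ = (q.1 : G) * q.2 * ((q'.1 : G) * q'.2) := by group }
  have hbij : Function.Bijective μ := by
    refine ⟨(injective_iff_map_eq_one μ).2 fun q hq => ?_, fun g => ?_⟩
    · have h1 : (q.1 : G) * q.2 = 1 := hq
      have h2 : (q.1 : G) = (q.2 : G)⁻¹ := eq_inv_of_mul_eq_one_left h1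
      have h3 := hbot q.1 q.1.2 (h2 ▸ inv_mem q.2.2)
      rw [h3, one_mul] at h1
      exact Prod.ext (Subtype.ext h3) (Subtype.ext h1)
    · obtain ⟨h, hh, z, hz, rfl⟩ := hcov g
      exact ⟨(⟨h, hh⟩, ⟨z, hz⟩), rfl⟩
  exact ⟨a, F, i1, i2, ha, hF, ⟨(MulEquiv.ofBijective μ hbij).symm.trans (f.prodCongr (MulEquiv.refl _))⟩⟩

end Data

end CfsgLib.Char.FeitDegree
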