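import Cfsg.Agent.Lib.Char.FeitDegree.Kernel

/-!
# The normal closure of the Sylow subgroup
-/

set_option autoImplicit false

namespace CfsgLib.Char.FeitDegree

open CfsgLib.CharAction Finset
open scoped Classical ComplexConjugate Pointwise commutatorElement

variable {p : ℕ} [hp : Fact p.Prime]

namespace Data

variable {G : Type*} [Group G] [Fintype G] {P : Sylow p G} {u : G} {ζ : Cfsg.IrrCharacter G}
variable (D : Data P u ζ)
include D

theorem inv_ne_self : u⁻¹ ≠ u := fun h => by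
  have h1 : u ^ 2 = 1 := by rw [pow_two]; nth_rw 1 [← h]; exact inv_mul_cancel u
  rw [← orderOf_dvd_iff_pow_eq_one, D.ord] at h1
  have := Nat.le_of_dvd two_pos h1
  have := D.seven
  omega

theorem mem_of_dvd_card (K : Subgroup G) [hKn : K.Normal] (h : p ∣ Nat.card K) : u ∈ K := by
  obtain ⟨⟨z, hz⟩, hzo⟩ := exists_prime_orderOf_dvd_card' (G := K) p h
  rw [← orderOf_submonoid] at hzo
  obtain ⟨Q, hQ⟩ := (IsPGroup.of_card (n := 1) (G := Subgroup.zpowers z)
    (by rw [Nat.card_zpowers, hzo, pow_one])).exists_le_sylow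
  obtain ⟨w, hw⟩ := MulAction.exists_smul_eq G P Q
  have hzQ : z ∈ (Q : Subgroup G) := hQ (Subgroup.mem_zpowers z)
  rw [← hw, Sylow.coe_subgroup_smul, Subgroup.mem_pointwise_smul_iff_inv_smul_mem, ← map_inv] at hzQ
  have hy : w⁻¹ * z * w ∈ (P : Subgroup G) := by simpa using hzQ
  have hyK : w⁻¹ * z * w ∈ K := by simpa using hKn.conj_mem z hz w⁻¹
  have hyo : orderOf (w⁻¹ * z * w) = p := by
    have h := orderOf_injective (MulAut.conj w⁻¹).toMonoidHom (MulAut.conj w⁻¹).injective z
    rw [hzo] at h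
    simpa using h
  have h2 : Subgroup.zpowers (w⁻¹ * z * w) = (P : Subgroup G) :=
    Subgroup.eq_of_le_of_card_ge (Subgroup.zpowers_le.2 hy) (by rw [D.card, Nat.card_zpowers, hyo])
  exact Subgroup.zpowers_le.2 hyK (h2.ge D.mem)

/-- The normal closure is perfect and covers the group modulo the centre. -/
theorem exists_residual : ∃ R : Subgroup G, R.Normal ∧ (P : Subgroup G) ≤ R ∧ _root_.commutator R = ⊤ ∧
    ∀ g : G, ∃ h ∈ R, ∃ z ∈ Subgroup.center G, g = h * z := by
  set R := Subgroup.normalClosure ((P : Subgroup G) : Set G) with hR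
  have hRn : R.Normal := Subgroup.normalClosure_normal
  have hPR : (P : Subgroup G) ≤ R := Subgroup.le_normalClosure
  have hperf : ⁅R, R⁆ = R := by
    refine le_antisymm (Subgroup.commutator_le.2 fun a ha b hb =>
      R.mul_mem (R.mul_mem (R.mul_mem ha hb) (R.inv_mem ha)) (R.inv_mem hb)) ?_
    suffices huK : u ∈ ⁅R, R⁆ from
      Subgroup.normalClosure_le_normal (SetLike.coe_subset_coe.2 (D.zpowers_eq ▸ Subgroup.zpowers_le.2 huK))
    by_contra huK
    have hK : ¬ p ∣ Nat.card ↥⁅R, R⁆ := fun h => huK (D.mem_of_dvd_card _ h)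
    have hKZ := D.le_center_of_normal ⁅R, R⁆ hK
    refine D.not_normal ⟨fun x hx g => ?_⟩
    set w := g * u * g⁻¹ with hw
    have hwR : w ∈ R := hRn.conj_mem u (hPR D.mem) g
    set k := ⁅w, u⁆ with hk
    have hkK : k ∈ ⁅R, R⁆ := Subgroup.commutator_mem_commutator hwR (hPR D.mem)
    have hkZ : k ∈ Subgroup.center G := hKZ hkK
    have hwu : w * u * w⁻¹ = k * u := by simp only [hk, commutatorElement_def]; group
    have hk1 : k = 1 := by
      have h1 : (k * u) ^ p = 1 := by
        rw [← hwu, conj_pow, ← D.ord, pow_orderOf_eq_one, mul_one, mul_inv_cancel]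
      rw [(show Commute k u from (Subgroup.mem_center_iff.1 hkZ u).symm).mul_pow, ← D.ord, pow_orderOf_eq_one,
        mul_one, D.ord] at h1
      have h2 : k ^ Nat.card ↥⁅R, R⁆ = 1 :=
        congrArg Subtype.val (pow_card_eq_one' (G := ↥⁅R, R⁆) (x := ⟨k, hkK⟩))
      have h3 : orderOf k ∣ Nat.gcd p (Nat.card ↥⁅R, R⁆) :=
        Nat.dvd_gcd (orderOf_dvd_of_pow_eq_one h1) (orderOf_dvd_of_pow_eq_one h2)
      rw [(hp.out.coprime_iff_not_dvd.2 hK).gcd_eq_one] at h3
      exact orderOf_eq_one_iff.1 (Nat.dvd_one.1 h3)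
    rw [hk1, one_mul] at hwu
    obtain ⟨c, -, hc⟩ := D.exists_of_commute (show Commute w u from mul_inv_eq_iff_eq_mul.1 hwu)
    rw [← D.zpowers_eq] at hx ⊢
    obtain ⟨i, rfl⟩ := hx
    simp only [← conj_zpow]
    rw [hw] at *
    rw [hc]
    exact zpow_mem (pow_mem (Subgroup.mem_zpowers u) _) i
  have hperf' : _root_.commutator R = ⊤ := by
    refine Subgroup.map_injective R.subtype_injective ?_
    rw [Subgroup.map_subtype_commutator, hperf, ← MonoidHom.range_eq_map, Subgroup.range_subtype]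
  refine ⟨R, hRn, hPR, hperf', ?_⟩
  -- an inverting element in the closure
  obtain ⟨b, hbR, hbN, hb⟩ : ∃ b ∈ R, b ∈ Subgroup.normalizer ((P : Subgroup G) : Set G) ∧ b * u * b⁻¹ = u⁻¹ := by
    by_contra hno
    push Not at hno
    set P₁ : Sylow p R := P.subtype hPR
    have hle : Subgroup.normalizer ((P₁ : Subgroup R) : Set R) ≤ Subgroup.centralizer ((P₁ : Subgroup R) : Set R) := by
      intro b hb
      have hbN : (b : G) ∈ Subgroup.normalizer ((P : Subgroup G) : Set G) := by
        refine Subgroup.mem_normalizer_fintype (S := ((P : Subgroup G) : Set G)) fun x hx => ?_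
        exact (Subgroup.mem_normalizer_iff.1 hb ⟨x, hPR hx⟩).1 hx
      have hbC := (D.mem_or_inverts hbN).resolve_right (hno _ b.2 hbN)
      refine Subgroup.mem_centralizer_iff.2 fun x hx => Subtype.ext ?_
      have hx' : (x : G) ∈ Subgroup.zpowers u := D.zpowers_eq.ge hx
      obtain ⟨i, hi⟩ := hx'
      show (x : G) * b = b * x
      rw [← hi]
      exact (Commute.zpow_left (Subgroup.mem_centralizer_singleton_iff.1 hbC : (b : G) * u = u * b).symm i).eq
    have hnd := MonoidHom.not_dvd_card_ker_transferSylow P₁ hle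
    have htop : (MonoidHom.transferSylow P₁ hle).ker = ⊤ := by
      haveI : IsCyclic (P₁ : Subgroup R) := by
        refine isCyclic_of_prime_card (p := p) ?_
        exact (Nat.card_congr (Subgroup.subgroupOfEquivOfLe hPR).toEquiv).trans D.card
      rw [eq_top_iff, ← hperf', _root_.commutator_def, Subgroup.commutator_le]
      intro x _ y _
      rw [MonoidHom.mem_ker, map_commutatorElement]
      exact commutatorElement_eq_one_iff_mul_comm.2 (IsCyclic.commGroup.mul_comm _ _)
    rw [htop, Subgroup.card_top] at hnd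
    exact hnd (D.card ▸ Subgroup.card_dvd_of_le hPR)
  have hN : ∀ n ∈ Subgroup.normalizer ((P : Subgroup G) : Set G), ∃ h ∈ R, ∃ z ∈ Subgroup.center G, n = h * z := by
    intro n hn
    rcases D.mem_or_inverts hn with h | h
    · obtain ⟨x, hx, z, hz, he⟩ := D.exists_mul_center h
      exact ⟨x, hPR hx, z, hz, he⟩
    · have hbn : b⁻¹ * n ∈ Subgroup.centralizer ({u} : Set G) := by
        refine Subgroup.mem_centralizer_singleton_iff.2 ?_
        have h3 : n * u * n⁻¹ = b * u * b⁻¹ := by rw [h, hb]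
        calc b⁻¹ * n * u = b⁻¹ * (n * u * n⁻¹) * n := by group
          _ = b⁻¹ * (b * u * b⁻¹) * n := by rw [h3]
          _ = u * (b⁻¹ * n) := by group
      obtain ⟨x, hx, z, hz, he⟩ := D.exists_mul_center hbn
      refine ⟨b * x, R.mul_mem hbR (hPR hx), z, hz, ?_⟩
      rw [mul_assoc, ← he, mul_inv_cancel_left]
  intro g
  have hsup := Sylow.normalizer_sup_eq_top' (N := R) P hPR
  have hg : g ∈ (R : Set G) * (Subgroup.normalizer ((P : Subgroup G) : Set G) : Set G) := by
    rw [← Subgroup.normal_mul, sup_comm]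
    exact hsup.ge (Subgroup.mem_top g)
  obtain ⟨h, hh, n, hn, rfl⟩ := hg
  obtain ⟨h', hh', z, hz, rfl⟩ := hN n hn
  exact ⟨h * h', R.mul_mem hh hh', z, hz, (mul_assoc h h' z).symm⟩

/-- The data on the normal closure. -/
theorem exists_data (R : Subgroup G) [Fintype R] (hPR : (P : Subgroup G) ≤ R)
    (hcov : ∀ g : G, ∃ h ∈ R, ∃ z ∈ Subgroup.center G, g = h * z) :
    ∃ ζ₁ : Cfsg.IrrCharacter R, Data (P.subtype hPR) (⟨u, hPR D.mem⟩ : R) ζ₁ := by
  set Z := Subgroup.center G with hZ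
  obtain ⟨l, hl⟩ := exists_centralHom ζ Z le_rfl
  have hirr : Cfsg.IsIrrCharacter R (fun h : R => (ζ : G → ℂ) h) := by
    rw [isIrr_iff_classInner_eq_one]
    refine ⟨IsChar.restrict R (IsIrr.isCharacter ζ.2), ?_⟩
    set F : G → ℂ := fun g => (ζ : G → ℂ) g * conj ((ζ : G → ℂ) g)
    have hF : ∀ (h : G) (z : Z), F (h * z) = F h := fun h z => by
      have h1 : conj (l z : ℂ) * (l z : ℂ) = 1 := by
        rw [Complex.conj_mul', norm_linear]; simp
      simp only [F, hl, map_mul]
      linear_combination ((ζ : G → ℂ) h * conj ((ζ : G → ℂ) h)) * h1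
    have htot : ∑ g : G, F g = Nat.card G := by
      have h := sum_irr_mul_conj ζ ζ
      rwa [if_pos rfl] at h
    let Φ : R × Z → G := fun q => q.1 * q.2
    have hfib : ∀ g : G, ((Finset.univ : Finset (R × Z)).filter fun q => Φ q = g).card =
        Nat.card (R ⊓ Z : Subgroup G) := by
      intro g
      obtain ⟨h, hh, z, hz, he⟩ := hcov g
      rw [← Fintype.card_coe, ← Nat.card_eq_fintype_card]
      refine Nat.card_congr ⟨fun q => ⟨h⁻¹ * q.1.1, ?_, ?_⟩, fun c => ⟨(⟨h * c, R.mul_mem hh c.2.1⟩,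
        ⟨(c : G)⁻¹ * z, Z.mul_mem (Z.inv_mem c.2.2) hz⟩), ?_⟩, fun q => ?_, fun c => ?_⟩
      · exact R.mul_mem (R.inv_mem hh) q.1.1.2
      · have h1 : (q.1.1 : G) * q.1.2 = h * z := (Finset.mem_filter.1 q.2).2.trans he
        have h2 : h⁻¹ * (q.1.1 : G) = z * (q.1.2 : G)⁻¹ := by
          calc h⁻¹ * (q.1.1 : G) = h⁻¹ * ((q.1.1 : G) * q.1.2) * (q.1.2 : G)⁻¹ := by group
            _ = z * (q.1.2 : G)⁻¹ := by rw [h1]; group
        show h⁻¹ * (q.1.1 : G) ∈ Z
        rw [h2]
        exact Z.mul_mem hz (Z.inv_mem q.1.2.2)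
      · refine Finset.mem_filter.2 ⟨Finset.mem_univ _, ?_⟩
        show h * c * ((c : G)⁻¹ * z) = g
        rw [he]; group
      · have h1 : (q.1.1 : G) * q.1.2 = h * z := (Finset.mem_filter.1 q.2).2.trans he
        refine Subtype.ext (Prod.ext (Subtype.ext (mul_inv_cancel_left h q.1.1)) (Subtype.ext ?_))
        show (h⁻¹ * (q.1.1 : G))⁻¹ * z = q.1.2
        calc (h⁻¹ * (q.1.1 : G))⁻¹ * z = (q.1.1 : G)⁻¹ * (h * z) := by group
          _ = (q.1.2 : G) := by rw [← h1]; group
      · exact Subtype.ext (inv_mul_cancel_left h (c : G))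
    have key : (Nat.card Z : ℂ) * ∑ h : R, F h = Nat.card (R ⊓ Z : Subgroup G) * Nat.card G := by
      rw [← htot, Finset.mul_sum, Finset.mul_sum]
      calc ∑ h : R, (Nat.card Z : ℂ) * F h = ∑ q : R × Z, F (Φ q) := by
            simp only [Fintype.sum_prod_type, Φ, hF, Finset.sum_const, Finset.card_univ, nsmul_eq_mul,
              Nat.card_eq_fintype_card]
        _ = ∑ g : G, ((Nat.card (R ⊓ Z : Subgroup G) : ℕ) : ℂ) * F g := by
            rw [← Finset.sum_fiberwise (g := Φ)]
            refine Finset.sum_congr rfl fun g _ => ?_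
            rw [Finset.sum_congr rfl (g := fun _ => F g) (fun q hq => by rw [(Finset.mem_filter.1 hq).2]),
              Finset.sum_const, nsmul_eq_mul, hfib]
    have hcard : Nat.card R * Nat.card Z = Nat.card (R ⊓ Z : Subgroup G) * Nat.card G := by
      rw [← Nat.card_prod, Nat.card_eq_fintype_card (α := R × Z), ← Finset.card_univ,
        Finset.card_eq_sum_card_fiberwise (t := Finset.univ) (f := Φ) fun q _ => Finset.mem_univ _,
        Finset.sum_congr rfl (fun g _ => hfib g), Finset.sum_const, Finset.card_univ, smul_eq_mul,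
        ← Nat.card_eq_fintype_card]
      ring
    rw [Cfsg.classInner, inv_mul_eq_iff_eq_mul₀ (Nat.cast_ne_zero.2 Nat.card_pos.ne'), mul_one]
    refine mul_left_cancel₀ (Nat.cast_ne_zero.2 (Nat.card_pos (α := Z)).ne') (key.trans ?_)
    rw [← Nat.cast_mul, ← hcard]
    push_cast; ring
  have hdeg : Cfsg.charDegree (fun h : R => (ζ : G → ℂ) h) = p - 2 :=
    CfsgLib.CharDegree.charDegree_eq_of_apply_one D.apply_one
  refine ⟨⟨_, hirr⟩, D.seven, ?_, fun hn => D.not_normal ⟨fun x hx g => ?_⟩, ?_, D.mem, hdeg,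
    fun g hg => Subtype.ext (D.faith g hg)⟩
  · exact (Nat.card_congr (Subgroup.subgroupOfEquivOfLe hPR).toEquiv).trans D.card
  · obtain ⟨h, hh, z, hz, rfl⟩ := hcov g
    have h1 : h * z * x * (h * z)⁻¹ = h * x * h⁻¹ := by
      calc h * z * x * (h * z)⁻¹ = h * (z * x) * z⁻¹ * h⁻¹ := by group
        _ = h * (x * z) * z⁻¹ * h⁻¹ := by rw [Subgroup.mem_center_iff.1 hz x]
        _ = h * x * h⁻¹ := by group
    rw [h1]
    exact hn.conj_mem ⟨x, hPR hx⟩ hx ⟨h, hh⟩
  · rw [← Subgroup.orderOf_coe]; exact D.ord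

end Data

end CfsgLib.Char.FeitDegree
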