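import Cfsg.Agent.Lib.Char.FeitDegree.Central
import Cfsg.Agent.Lib.CharDegree.Restriction
import Mathlib.GroupTheory.Transfer
import Mathlib.RingTheory.RootsOfUnity.Complex

/-!
# The centraliser and the normaliser of the element of order `p`, and its values
-/

set_option autoImplicit false

namespace CfsgLib.Char.FeitDegree

open CfsgLib.CharAction Finset
open scoped Classical ComplexConjugate

/-- The central character of a central subgroup. -/
theorem exists_centralHom {H : Type*} [Group H] [Finite H] (χ : Cfsg.IrrCharacter H) (Z : Subgroup H)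
    (hZ : Z ≤ Subgroup.center H) :
    ∃ l : Z →* ℂˣ, ∀ (g : H) (z : Z), (χ : H → ℂ) (g * z) = (l z : ℂ) * (χ : H → ℂ) g := by
  haveI := Fintype.ofFinite H
  have h1 := IsIrr.apply_one_ne_zero χ.2
  have key : ∀ (g : H) (z : Z), (χ : H → ℂ) (g * z) * (χ : H → ℂ) 1 = (χ : H → ℂ) g * (χ : H → ℂ) z := by
    intro g z
    have h := apply_mul_apply χ.2 g (z : H)
    rw [Finset.sum_congr rfl (g := fun _ => (χ : H → ℂ) (g * z)) (fun h' _ => by
      rw [Subgroup.mem_center_iff.1 (hZ z.2) h', mul_inv_cancel_right]), Finset.sum_const, Finset.card_univ,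
      nsmul_eq_mul, ← Nat.card_eq_fintype_card] at h
    exact mul_left_cancel₀ (Nat.cast_ne_zero.2 (Nat.card_pos (α := H)).ne') (by linear_combination -h)
  let l₀ : Z →* ℂ :=
    { toFun := fun z => (χ : H → ℂ) z / (χ : H → ℂ) 1
      map_one' := div_self h1
      map_mul' := fun a b => by
        rw [div_mul_div_comm, div_eq_div_iff h1 (mul_ne_zero h1 h1)]
        linear_combination (χ : H → ℂ) 1 * key (a : H) b }
  refine ⟨l₀.toHomUnits, fun g z => ?_⟩
  show (χ : H → ℂ) (g * z) = (χ : H → ℂ) z / (χ : H → ℂ) 1 * (χ : H → ℂ) g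
  rw [div_mul_eq_mul_div, eq_div_iff h1]
  linear_combination key g z

theorem norm_linear {A : Type*} [Group A] [Finite A] (l : A →* ℂˣ) (a : A) : ‖(l a : ℂ)‖ = 1 :=
  Complex.norm_eq_one_of_pow_eq_one (n := Nat.card A)
    (by rw [← Units.val_pow_eq_pow_val, ← map_pow, pow_card_eq_one', map_one, Units.val_one]) Nat.card_pos.ne'

variable {G : Type*} [Group G] [Fintype G] {p : ℕ} [hp : Fact p.Prime]
variable {P : Sylow p G} {u : G} {ζ : Cfsg.IrrCharacter G}

theorem sum_pow_val {z : ℂ} (hz : IsPrimitiveRoot z p) : ∑ x : ZMod p, z ^ x.val = 0 := by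
  rw [← hz.geom_sum_eq_zero hp.out.one_lt]
  refine Finset.sum_bij (fun x _ => x.val) ?_ ?_ ?_ fun x _ => rfl
  · exact fun x _ => Finset.mem_range.2 (ZMod.val_lt x)
  · exact fun x _ y _ h => ZMod.val_injective p h
  · exact fun b hb => ⟨(b : ZMod p), Finset.mem_univ _, ZMod.val_cast_of_lt (Finset.mem_range.1 hb)⟩

namespace Data

variable (D : Data P u ζ)
include D

theorem ne_one : u ≠ 1 := fun h => by
  have := D.ord
  rw [h, orderOf_one] at this
  exact hp.out.ne_one this.symm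

/-- The centraliser is the product of the Sylow subgroup and the centre. -/
theorem exists_mul_center {g : G} (hg : g ∈ Subgroup.centralizer ({u} : Set G)) :
    ∃ x ∈ (P : Subgroup G), ∃ z ∈ Subgroup.center G, g = x * z := by
  set C := Subgroup.centralizer ({u} : Set G) with hC
  have hPC : (P : Subgroup G) ≤ C := by
    rw [← D.zpowers_eq]
    exact Subgroup.zpowers_le.2 (Subgroup.mem_centralizer_singleton_iff.2 rfl)
  have hcomm : ∀ x ∈ (P : Subgroup G), ∀ c ∈ C, x * c = c * x := by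
    intro x hx c hc
    rw [← D.zpowers_eq] at hx
    obtain ⟨i, rfl⟩ := hx
    exact (Commute.zpow_left (Subgroup.mem_centralizer_singleton_iff.1 hc : c * u = u * c).symm i).eq
  set P' : Sylow p C := P.subtype hPC
  have hcen : Subgroup.normalizer ((P' : Subgroup C) : Set C) ≤ Subgroup.centralizer ((P' : Subgroup C) : Set C) :=
    fun c _ => Subgroup.mem_centralizer_iff.2 fun x hx => Subtype.ext (hcomm x hx c c.2)
  set K := (MonoidHom.transferSylow P' hcen).ker
  have hcomp := MonoidHom.ker_transferSylow_isComplement' P' hcen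
  have hK : ¬ p ∣ Nat.card K := MonoidHom.not_dvd_card_ker_transferSylow P' hcen
  set A := K.map C.subtype
  have hAcard : Nat.card A = Nat.card K :=
    Nat.card_congr (K.equivMapOfInjective _ C.subtype_injective).symm.toEquiv
  have hA : A ≤ C := Subgroup.map_subtype_le K
  have hgen : ∀ g ∈ C, ∃ x ∈ (P : Subgroup G), ∃ a ∈ A, g = x * a := by
    intro g hg
    obtain ⟨⟨k, x⟩, hkx⟩ := hcomp.2 ⟨g, hg⟩
    refine ⟨((x : C) : G), x.2, ((k : C) : G), ⟨k, k.2, rfl⟩, ?_⟩
    exact (congrArg Subtype.val hkx).symm.trans (hcomm _ x.2 _ (k : C).2).symm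
  have hnorm : ∀ g ∈ Subgroup.normalizer ((P : Subgroup G) : Set G), ∀ a ∈ A, g * a * g⁻¹ ∈ A := by
    intro g hg a ha
    have hconj : g * a * g⁻¹ ∈ C := by
      refine Subgroup.mem_centralizer_singleton_iff.2 ?_
      have h1 := (Subgroup.mem_normalizer_iff''.1 hg u).1 D.mem
      have h2 := hcomm _ h1 a (hA ha)
      calc g * a * g⁻¹ * u = g * (a * (g⁻¹ * u * g)) * g⁻¹ := by group
        _ = g * ((g⁻¹ * u * g) * a) * g⁻¹ := by rw [h2]
        _ = u * (g * a * g⁻¹) := by group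
    obtain ⟨x, hx, b, hb, he⟩ := hgen _ hconj
    have hpow : ∀ c ∈ A, c ^ Nat.card A = 1 := fun c hc => by
      exact congrArg Subtype.val (pow_card_eq_one' (G := A) (x := ⟨c, hc⟩))
    have h1 : (x * b) ^ Nat.card A = 1 := by
      rw [← he, conj_pow, hpow a ha, mul_one, mul_inv_cancel]
    rw [(show Commute x b from hcomm x hx b (hA hb)).mul_pow, hpow b hb, mul_one] at h1
    have hx1 : x = 1 := by
      have h2 := congrArg Subtype.val (pow_card_eq_one' (G := (P : Subgroup G)) (x := ⟨x, hx⟩))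
      rw [D.card] at h2
      have h3 : orderOf x ∣ Nat.gcd p (Nat.card A) :=
        Nat.dvd_gcd (orderOf_dvd_of_pow_eq_one (by simpa using h2)) (orderOf_dvd_of_pow_eq_one h1)
      rw [(hp.out.coprime_iff_not_dvd.2 (hAcard ▸ hK)).gcd_eq_one] at h3
      exact orderOf_eq_one_iff.1 (Nat.dvd_one.1 h3)
    rw [he, hx1, one_mul]
    exact hb
  obtain ⟨ω, hω⟩ : ∃ ω : ℂ, IsPrimitiveRoot ω p := ⟨_, Complex.isPrimitiveRoot_exp p hp.out.ne_zero⟩
  obtain ⟨r, hr, -, hle, ⟨x₁, hx₁, hMx₁⟩, -⟩ := D.exists_shape hω D.two_le_card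
  have h1 := hle x₁ hx₁
  obtain ⟨η, hη⟩ := D.exists_linear hω hr (x := x₁) (le_antisymm h1 (Nat.one_le_iff_ne_zero.2 hMx₁)) A hA
  have hAZ := D.le_center A hA (hAcard ▸ hK) hgen hnorm η hη
  obtain ⟨x, hx, a, ha, he⟩ := hgen g hg
  exact ⟨x, hx, a, hAZ ha, he⟩

theorem eq_one_of_mem_center {x : G} (hx : x ∈ (P : Subgroup G)) (hz : x ∈ Subgroup.center G) : x = 1 := by
  by_contra hne
  refine D.not_normal ⟨fun y hy g => ?_⟩
  have h1 : Subgroup.zpowers x = (P : Subgroup G) := by
    refine Subgroup.eq_of_le_of_card_ge (Subgroup.zpowers_le.2 hx) ?_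
    rw [D.card, Nat.card_zpowers]
    have h := orderOf_dvd_natCard (⟨x, hx⟩ : (P : Subgroup G))
    rw [D.card, ← orderOf_submonoid] at h
    rcases (Nat.dvd_prime hp.out).1 h with h' | h'
    · exact absurd (orderOf_eq_one_iff.1 h') hne
    · exact h'.ge
  have hy' : y ∈ Subgroup.center G := Subgroup.zpowers_le.2 hz (by rw [h1]; exact hy)
  rwa [Subgroup.mem_center_iff.1 hy' g, mul_inv_cancel_right]

theorem not_dvd_center : ¬ p ∣ Nat.card (Subgroup.center G) := by
  intro h
  obtain ⟨⟨z, hz⟩, hzo⟩ := exists_prime_orderOf_dvd_card' (G := Subgroup.center G) p h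
  rw [← orderOf_submonoid] at hzo
  obtain ⟨Q, hQ⟩ := (IsPGroup.of_card (n := 1) (G := Subgroup.zpowers z)
    (by rw [Nat.card_zpowers, hzo, pow_one])).exists_le_sylow
  obtain ⟨w, hw⟩ := MulAction.exists_smul_eq G P Q
  have hzQ : z ∈ (Q : Subgroup G) := hQ (Subgroup.mem_zpowers z)
  rw [← hw, Sylow.coe_subgroup_smul, Subgroup.mem_pointwise_smul_iff_inv_smul_mem, ← map_inv] at hzQ
  have hzw : w⁻¹ * z * w = z := by
    rw [Subgroup.mem_center_iff.1 hz w⁻¹, inv_mul_cancel_right]
  have hz1 : z = 1 := D.eq_one_of_mem_center (by simpa [hzw] using hzQ) hz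
  subst hz1
  rw [orderOf_one] at hzo
  exact hp.out.ne_one hzo.symm

/-- Elements of order prime to `p` of the centraliser are central. -/
theorem mem_center_of_pow {g : G} (hg : g ∈ Subgroup.centralizer ({u} : Set G)) {m : ℕ} (hm : ¬ p ∣ m)
    (h : g ^ m = 1) : g ∈ Subgroup.center G := by
  obtain ⟨x, hx, z, hz, rfl⟩ := D.exists_mul_center hg
  have hc : Commute x z := (Subgroup.mem_center_iff.1 hz x : x * z = z * x)
  rw [hc.mul_pow] at h
  have h1 : x ^ m ∈ Subgroup.center G := by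
    rw [eq_inv_of_mul_eq_one_left h]
    exact inv_mem (pow_mem hz m)
  have h2 := D.eq_one_of_mem_center (pow_mem hx m) h1
  have h3 := congrArg Subtype.val (pow_card_eq_one' (G := (P : Subgroup G)) (x := ⟨x, hx⟩))
  rw [D.card] at h3
  have h4 : orderOf x ∣ Nat.gcd p m :=
    Nat.dvd_gcd (orderOf_dvd_of_pow_eq_one (by simpa using h3)) (orderOf_dvd_of_pow_eq_one h2)
  rw [(hp.out.coprime_iff_not_dvd.2 hm).gcd_eq_one] at h4
  rw [orderOf_eq_one_iff.1 (Nat.dvd_one.1 h4), one_mul]
  exact hz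

/-- The exponent of the action of the normaliser. -/
theorem exists_expHom : ∃ φ : Subgroup.normalizer ((P : Subgroup G) : Set G) →* (ZMod p)ˣ,
    φ.range = expGroup u D.ord ∧
    (∀ g : Subgroup.normalizer ((P : Subgroup G) : Set G),
      (g : G) * u * (g : G)⁻¹ = u ^ (φ g : ZMod p).val) ∧
    (∀ g : Subgroup.normalizer ((P : Subgroup G) : Set G), φ g = 1 ↔ (g : G) ∈ Subgroup.centralizer ({u} : Set G)) := by
  set N := Subgroup.normalizer ((P : Subgroup G) : Set G) with hN
  have hex : ∀ g : N, ∃ c : (ZMod p)ˣ, (g : G) * u * (g : G)⁻¹ = u ^ (c : ZMod p).val := fun g => by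
    have h : Commute ((g : G) * u * (g : G)⁻¹) u := by
      have h1 : (g : G) * u * (g : G)⁻¹ ∈ Subgroup.zpowers u := by
        rw [D.zpowers_eq]; exact (Subgroup.mem_normalizer_iff.1 g.2 u).1 D.mem
      obtain ⟨i, hi⟩ := h1
      rw [← hi]
      exact (Commute.refl u).zpow_left i
    obtain ⟨c, -, hc⟩ := D.exists_of_commute h
    exact ⟨c, hc⟩
  choose f hf using hex
  have huniq : ∀ c d : (ZMod p)ˣ, u ^ (c : ZMod p).val = u ^ (d : ZMod p).val → c = d := fun c d h => by
    simp only [pow_inj_mod, D.ord, Nat.mod_eq_of_lt (ZMod.val_lt _)] at h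
    exact Units.ext (ZMod.val_injective p h)
  have hval : ∀ g : N, ∀ c : (ZMod p)ˣ, (g : G) * u * (g : G)⁻¹ = u ^ (c : ZMod p).val → f g = c := fun g c h =>
    huniq _ _ ((hf g).symm.trans h)
  let φ : N →* (ZMod p)ˣ := MonoidHom.mk' f fun g h => hval _ _ <| by
    calc ((g * h : N) : G) * u * ((g * h : N) : G)⁻¹ = (g : G) * ((h : G) * u * (h : G)⁻¹) * (g : G)⁻¹ := by
          rw [Subgroup.coe_mul]; group
      _ = ((g : G) * u * (g : G)⁻¹) ^ (f h : ZMod p).val := by rw [hf h, conj_pow]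
      _ = u ^ ((f g * f h : (ZMod p)ˣ) : ZMod p).val := by
        rw [hf g, ← pow_mul, ← pow_val_eq D.ord, Nat.cast_mul, ZMod.natCast_zmod_val, ZMod.natCast_zmod_val,
          Units.val_mul]
  refine ⟨φ, ?_, hf, fun g => ?_⟩
  · ext c
    constructor
    · rintro ⟨g, rfl⟩
      exact ⟨g, hf g⟩
    · rintro ⟨g, hg⟩
      have hgN : g ∈ N := by
        refine Subgroup.mem_normalizer_fintype (S := ((P : Subgroup G) : Set G)) fun x hx => ?_
        rw [SetLike.mem_coe, ← D.zpowers_eq] at hx ⊢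
        obtain ⟨i, rfl⟩ := hx
        rw [← conj_zpow, hg]
        exact zpow_mem (pow_mem (Subgroup.mem_zpowers u) _) i
      exact ⟨⟨g, hgN⟩, hval _ _ hg⟩
  · rw [Subgroup.mem_centralizer_singleton_iff]
    constructor
    · intro h
      have h1 := hf g
      rw [show f g = 1 from h, Units.val_one, ZMod.val_one, pow_one] at h1
      exact mul_inv_eq_iff_eq_mul.1 h1
    · intro h
      exact hval g 1 (by rw [Units.val_one, ZMod.val_one, pow_one, h, mul_inv_cancel_right])

theorem card_centralizer :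
    Nat.card (Subgroup.centralizer ({u} : Set G)) = p * Nat.card (Subgroup.center G) := by
  rw [← D.card, ← Nat.card_prod]
  refine (Nat.card_eq_of_bijective (fun q : ↥(P : Subgroup G) × ↥(Subgroup.center G) =>
    (⟨(q.1 : G) * q.2, ?_⟩ : Subgroup.centralizer ({u} : Set G))) ⟨?_, ?_⟩).symm
  · refine mul_mem ?_ (Subgroup.center_le_centralizer _ q.2.2)
    have h : (q.1 : G) ∈ Subgroup.zpowers u := D.zpowers_eq.ge q.1.2
    exact Subgroup.zpowers_le.2 (Subgroup.mem_centralizer_singleton_iff.2 rfl) h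
  · rintro ⟨x, z⟩ ⟨x', z'⟩ h
    have h1 : (x : G) * z = x' * z' := congrArg Subtype.val h
    have h2 : (x' : G)⁻¹ * x = z' * (z : G)⁻¹ := by
      calc (x' : G)⁻¹ * x = (x' : G)⁻¹ * (x * z) * (z : G)⁻¹ := by group
        _ = z' * (z : G)⁻¹ := by rw [h1]; group
    have h3 := D.eq_one_of_mem_center (mul_mem (inv_mem x'.2) x.2) (h2 ▸ mul_mem z'.2 (inv_mem z.2))
    have hx : (x : G) = x' := (inv_mul_eq_one.1 h3).symm
    rw [h3] at h2
    exact Prod.ext (Subtype.ext hx) (Subtype.ext (mul_inv_eq_one.1 h2.symm).symm)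
  · rintro ⟨g, hg⟩
    obtain ⟨x, hx, z, hz, he⟩ := D.exists_mul_center hg
    exact ⟨(⟨x, hx⟩, ⟨z, hz⟩), Subtype.ext he.symm⟩

theorem card_normalizer : Nat.card (Subgroup.normalizer ((P : Subgroup G) : Set G)) =
    Nat.card (expGroup u D.ord) * (p * Nat.card (Subgroup.center G)) := by
  obtain ⟨φ, hr, hf, hk⟩ := D.exists_expHom
  have hCN : Subgroup.centralizer ({u} : Set G) ≤ Subgroup.normalizer ((P : Subgroup G) : Set G) := by
    refine fun g hg => Subgroup.mem_normalizer_fintype (S := ((P : Subgroup G) : Set G)) fun x hx => ?_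
    rw [SetLike.mem_coe, ← D.zpowers_eq] at hx ⊢
    obtain ⟨i, rfl⟩ := hx
    have h : g * u * g⁻¹ = u := by
      rw [Subgroup.mem_centralizer_singleton_iff.1 hg, mul_inv_cancel_right]
    rw [← conj_zpow, h]
    exact zpow_mem (Subgroup.mem_zpowers u) i
  rw [← φ.ker.index_mul_card, Subgroup.index_ker, hr, show φ.ker =
    (Subgroup.centralizer ({u} : Set G)).subgroupOf _ from Subgroup.ext hk,
    Nat.card_congr (Subgroup.subgroupOfEquivOfLe hCN).toEquiv, D.card_centralizer]

/-- Counting the conjugates of the `p`-singular part of the centraliser. -/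
theorem sum_normSq_le :
    ∑ x ∈ (Finset.univ.filter fun x : G => x ∈ (P : Subgroup G) ∧ x ≠ 1), Complex.normSq ((ζ : G → ℂ) x) ≤
      (Nat.card (expGroup u D.ord) * p : ℕ) := by
  set T := Finset.univ.filter fun x : G => x ∈ (P : Subgroup G) ∧ x ≠ 1
  set Z := Subgroup.center G with hZdef
  set N := Subgroup.normalizer ((P : Subgroup G) : Set G) with hN
  have hT : ∀ x : T, (x : G) ∈ (P : Subgroup G) ∧ (x : G) ≠ 1 := fun x => (Finset.mem_filter.1 x.2).2
  let Φ : G × T × Z → G := fun q => q.1 * q.2.1 * q.1⁻¹ * q.2.2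
  obtain ⟨l, hl⟩ := exists_centralHom ζ Z le_rfl
  have hΦ : ∀ q, Complex.normSq ((ζ : G → ℂ) (Φ q)) = Complex.normSq ((ζ : G → ℂ) (q.2.1 : G)) := by
    rintro ⟨g, x, z⟩
    show Complex.normSq ((ζ : G → ℂ) (g * x * g⁻¹ * z)) = _
    rw [hl, IsIrr.isClassFunction ζ.2, Complex.normSq_mul, Complex.normSq_eq_norm_sq, norm_linear, one_pow,
      one_mul]
  have hxp : ∀ x ∈ (P : Subgroup G), x ^ p = 1 := fun x hx => by
    have h := congrArg Subtype.val (pow_card_eq_one' (G := (P : Subgroup G)) (x := ⟨x, hx⟩))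
    rw [D.card] at h
    simpa using h
  have hsplit : ∀ (g : G) (x : T) (z : Z), (g * x * g⁻¹ * z) ^ Nat.card Z = g * (x : G) ^ Nat.card Z * g⁻¹ := by
    intro g x z
    rw [(show Commute (g * x * g⁻¹) (z : G) from Subgroup.mem_center_iff.1 z.2 _).mul_pow, conj_pow,
      show (z : G) ^ Nat.card Z = 1 from
        congrArg Subtype.val (pow_card_eq_one' (G := Z) (x := z)), mul_one]
  have hcop : p.Coprime (Nat.card Z) := hp.out.coprime_iff_not_dvd.2 D.not_dvd_center
  have hgen : ∀ x : T, Subgroup.zpowers (x : G) = (P : Subgroup G) := fun x => by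
    refine Subgroup.eq_of_le_of_card_ge (Subgroup.zpowers_le.2 (hT x).1) ?_
    rw [D.card, Nat.card_zpowers, orderOf_eq_prime (hxp _ (hT x).1) (hT x).2]
  have hfib : ∀ y : G, ((Finset.univ : Finset (G × T × Z)).filter fun q => Φ q = y).card ≤ Nat.card N := by
    intro y
    rcases ((Finset.univ : Finset (G × T × Z)).filter fun q => Φ q = y).eq_empty_or_nonempty with h | ⟨q₀, hq₀⟩
    · simp [h]
    obtain ⟨g₀, x₀, z₀⟩ := q₀
    have hkey : ∀ q ∈ (Finset.univ : Finset (G × T × Z)).filter (fun q => Φ q = y),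
        (g₀⁻¹ * q.1) * (q.2.1 : G) * (g₀⁻¹ * q.1)⁻¹ = x₀ ∧ q.2.2 = z₀ := by
      rintro ⟨g, x, z⟩ hq
      have h : g * x * g⁻¹ * z = g₀ * x₀ * g₀⁻¹ * z₀ :=
        (Finset.mem_filter.1 hq).2.trans (Finset.mem_filter.1 hq₀).2.symm
      have h2 := congrArg (· ^ Nat.card Z) h
      simp only [hsplit, ← conj_pow] at h2
      have hp1 : (g * (x : G) * g⁻¹) ^ p = 1 := by
        rw [conj_pow, hxp _ (hT x).1, mul_one, mul_inv_cancel]
      have hp0 : (g₀ * (x₀ : G) * g₀⁻¹) ^ p = 1 := by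
        rw [conj_pow, hxp _ (hT x₀).1, mul_one, mul_inv_cancel]
      have h3 : g * (x : G) * g⁻¹ = g₀ * x₀ * g₀⁻¹ := by
        have hb : ∀ v : G, v ^ p = 1 → v = (v ^ Nat.card Z) ^ Nat.gcdB p (Nat.card Z) := fun v hv => by
          have hg := Nat.gcd_eq_gcd_ab p (Nat.card Z)
          rw [hcop.gcd_eq_one] at hg
          conv_lhs => rw [← zpow_one v]
          rw [show (1 : ℤ) = ((1 : ℕ) : ℤ) from rfl, hg, zpow_add, zpow_mul, zpow_natCast, hv, one_zpow, one_mul,
            zpow_mul, zpow_natCast]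
        rw [hb _ hp1, h2, ← hb _ hp0]
      refine ⟨?_, Subtype.ext (mul_left_cancel (a := g₀ * (x₀ : G) * g₀⁻¹) (by rw [← h, h3]))⟩
      calc g₀⁻¹ * g * x * (g₀⁻¹ * g)⁻¹ = g₀⁻¹ * (g * x * g⁻¹) * g₀ := by group
        _ = x₀ := by rw [h3]; group
    rw [← Fintype.card_coe, ← Nat.card_eq_fintype_card]
    refine Nat.card_le_card_of_injective (fun q => ⟨g₀⁻¹ * q.1.1, ?_⟩) fun q q' h => ?_
    · refine Subgroup.mem_normalizer_fintype (S := ((P : Subgroup G) : Set G)) fun w hw => ?_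
      rw [SetLike.mem_coe, ← hgen q.1.2.1] at hw
      obtain ⟨i, rfl⟩ := hw
      rw [← conj_zpow, (hkey q.1 q.2).1]
      exact zpow_mem (hT x₀).1 i
    · have h1 : g₀⁻¹ * q.1.1 = g₀⁻¹ * q'.1.1 := congrArg Subtype.val h
      have hg : q.1.1 = q'.1.1 := mul_left_cancel h1
      have hx := (hkey q.1 q.2).1.trans (hkey q'.1 q'.2).1.symm
      rw [h1] at hx
      exact Subtype.ext (Prod.ext hg (Prod.ext (Subtype.ext (mul_left_cancel (mul_right_cancel hx)))
        ((hkey q.1 q.2).2.trans (hkey q'.1 q'.2).2.symm)))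
  have htotal : ∑ g : G, Complex.normSq ((ζ : G → ℂ) g) = Nat.card G := by
    have h := CfsgLib.CharDegree.sum_norm_sq ζ
    simp only [Complex.normSq_eq_norm_sq]
    exact h
  have hmain : (Nat.card G : ℝ) * Nat.card Z * ∑ x ∈ T, Complex.normSq ((ζ : G → ℂ) x) ≤
      (Nat.card N : ℝ) * Nat.card G := by
    rw [← htotal]
    calc (∑ g : G, Complex.normSq ((ζ : G → ℂ) g)) * Nat.card Z * ∑ x ∈ T, Complex.normSq ((ζ : G → ℂ) x)
        = ∑ q : G × T × Z, Complex.normSq ((ζ : G → ℂ) (Φ q)) := by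
          simp only [hΦ, Fintype.sum_prod_type, Finset.sum_const, Finset.card_univ, nsmul_eq_mul,
            ← Finset.mul_sum, htotal, ← Nat.card_eq_fintype_card]
          rw [Finset.sum_coe_sort T (fun x => Complex.normSq ((ζ : G → ℂ) x))]
          ring
      _ = ∑ y : G, (((Finset.univ : Finset (G × T × Z)).filter fun q => Φ q = y).card : ℝ) *
            Complex.normSq ((ζ : G → ℂ) y) := by
          rw [← Finset.sum_fiberwise (g := Φ)]
          refine Finset.sum_congr rfl fun y _ => ?_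
          rw [Finset.sum_congr rfl (g := fun _ => Complex.normSq ((ζ : G → ℂ) y))
            (fun q hq => by rw [(Finset.mem_filter.1 hq).2]), Finset.sum_const, nsmul_eq_mul]
      _ ≤ ∑ y : G, (Nat.card N : ℝ) * Complex.normSq ((ζ : G → ℂ) y) :=
          Finset.sum_le_sum fun y _ =>
            mul_le_mul_of_nonneg_right (Nat.cast_le.2 (hfib y)) (Complex.normSq_nonneg _)
      _ = _ := by rw [← Finset.mul_sum]
  rw [D.card_normalizer, Nat.cast_mul, Nat.cast_mul, ← hZdef] at hmain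
  rw [Nat.cast_mul]
  have h0 : (0 : ℝ) < (Nat.card G : ℝ) * Nat.card Z :=
    mul_pos (Nat.cast_pos.2 Nat.card_pos) (Nat.cast_pos.2 Nat.card_pos)
  exact le_of_mul_le_mul_left (hmain.trans (le_of_eq (by ring))) h0

/-- The normaliser inverts, and the values on the Sylow subgroup. -/
theorem exists_root : Nat.card (expGroup u D.ord) = 2 ∧ ∃ ω : ℂ, IsPrimitiveRoot ω p ∧
    ∀ j : ℕ, ¬ p ∣ j → (ζ : G → ℂ) (u ^ j) = -(ω ^ j + (ω ^ j)⁻¹) := by
  obtain ⟨ω, hω⟩ : ∃ ω : ℂ, IsPrimitiveRoot ω p := ⟨_, Complex.isPrimitiveRoot_exp p hp.out.ne_zero⟩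
  obtain ⟨r, hr, -, hle, -, hcase⟩ := D.exists_shape hω D.two_le_card
  set M : ZMod p → ℕ := fun x => (Finset.univ.filter fun i => r i = x).card
  have h7 := D.seven
  have hω0 : ω ≠ 0 := hω.ne_zero hp.out.ne_zero
  rcases hcase with ⟨he, hM0, a, ha, hMa⟩ | ⟨he, hM0⟩
  · have hsplit : ∀ x : ZMod p, (M x : ℂ) = 1 - (if x = a then (1 : ℂ) else 0) - (if x = -a then 1 else 0) := by
      intro x
      have haa : a ≠ -a := fun h => by
        have h2 : (2 : ZMod p) * a = 0 := by linear_combination h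
        rcases mul_eq_zero.1 h2 with h3 | h3
        · rw [show (2 : ZMod p) = ((2 : ℕ) : ZMod p) by norm_num, ZMod.natCast_eq_zero_iff] at h3
          have := Nat.le_of_dvd two_pos h3
          omega
        · exact ha h3
      rcases eq_or_ne x 0 with rfl | hx
      · rw [show M 0 = 1 from hM0, if_neg ha.symm, if_neg (fun h => ha (neg_eq_zero.1 h.symm))]
        simp
      · rw [show M x = _ from hMa x hx]
        by_cases h1 : x = a
        · subst h1
          rw [if_pos rfl, if_pos rfl, if_neg haa]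
          simp
        · by_cases h2 : x = -a
          · subst h2
            rw [if_pos (neg_sq a), if_neg h1, if_pos rfl]
            simp
          · rw [if_neg (fun h => (sq_eq_sq_iff_eq_or_eq_neg.1 h).elim h1 h2), if_neg h1, if_neg h2]
            simp
    refine ⟨he, ω ^ a.val, hω.pow_of_coprime _ ?_, fun j hj => ?_⟩
    · refine (hp.out.coprime_iff_not_dvd.2 fun h => ha ?_).symm
      rw [← ZMod.natCast_zmod_val a]
      exact (ZMod.natCast_eq_zero_iff _ _).2 h
    have hz : IsPrimitiveRoot (ω ^ j) p := hω.pow_of_coprime j (hp.out.coprime_iff_not_dvd.2 hj).symm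
    have h1 : (ζ : G → ℂ) (u ^ j) = ∑ x : ZMod p, (M x : ℂ) * (ω ^ j) ^ x.val := by
      rw [hr, ← Finset.sum_fiberwise (s := Finset.univ) (g := r)]
      refine Finset.sum_congr rfl fun x _ => ?_
      rw [Finset.sum_congr rfl (g := fun _ => (ω ^ j) ^ x.val) (fun i hi => by
        rw [(Finset.mem_filter.1 hi).2, ← pow_mul, mul_comm]), Finset.sum_const, nsmul_eq_mul]
    have hneg : (ω ^ j) ^ (-a).val = ((ω ^ j) ^ a.val)⁻¹ := by
      refine eq_inv_of_mul_eq_one_left ?_
      rw [← pow_add]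
      have hd : p ∣ (-a).val + a.val := by
        rw [← ZMod.natCast_eq_zero_iff, Nat.cast_add, ZMod.natCast_zmod_val, ZMod.natCast_zmod_val, neg_add_cancel]
      obtain ⟨k, hk⟩ := hd
      rw [hk, pow_mul, hz.pow_eq_one, one_pow]
    simp only [hsplit, sub_mul, one_mul, ite_mul, zero_mul, Finset.sum_sub_distrib, Finset.sum_ite_eq',
      Finset.mem_univ, if_true, sum_pow_val hz, hneg] at h1
    rw [h1, ← pow_mul, ← pow_mul, mul_comm a.val j]
    ring
  · exfalso
    set T := Finset.univ.filter fun x : G => x ∈ (P : Subgroup G) ∧ x ≠ 1 with hT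
    have hsq : ∑ j ∈ Finset.range p, ((Complex.normSq ((ζ : G → ℂ) (u ^ j)) : ℝ) : ℂ) =
        (p : ℂ) * ((∑ x, M x * M x : ℕ) : ℂ) := by
      have hf : ∀ x : ZMod p, ∑ j ∈ Finset.range p, (ω ^ (x.val * j))⁻¹ * (ζ : G → ℂ) (u ^ j) = (p : ℂ) * M x := by
        intro x
        have h := fourier hω (fun i => ω ^ (r i).val)
          (fun i => by rw [← pow_mul, mul_comm, pow_mul, hω.pow_eq_one, one_pow]) x.val
        simp only [← pow_mul, ← hr] at h
        rw [h]
        congr 3
        refine Finset.filter_congr fun i _ => ?_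
        exact ⟨fun h => ZMod.val_injective p (hω.pow_inj (ZMod.val_lt _) (ZMod.val_lt _) h), fun h => by rw [h]⟩
      calc ∑ j ∈ Finset.range p, ((Complex.normSq ((ζ : G → ℂ) (u ^ j)) : ℝ) : ℂ)
          = ∑ j ∈ Finset.range p, ∑ i, (ω ^ ((r i).val * j))⁻¹ * (ζ : G → ℂ) (u ^ j) := by
            refine Finset.sum_congr rfl fun j _ => ?_
            rw [← Complex.mul_conj, mul_comm, ← Finset.sum_mul]
            congr 1
            rw [hr, map_sum]
            refine Finset.sum_congr rfl fun i _ => (Complex.inv_eq_conj ?_).symm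
            rw [norm_pow, Complex.norm_eq_one_of_pow_eq_one hω.pow_eq_one hp.out.ne_zero, one_pow]
        _ = ∑ i, (p : ℂ) * (M (r i) : ℂ) := by
            rw [Finset.sum_comm]
            exact Finset.sum_congr rfl fun i _ => hf _
        _ = _ := by
            rw [← Finset.mul_sum, ← Finset.sum_fiberwise (s := Finset.univ) (g := r), Nat.cast_sum]
            congr 1
            refine Finset.sum_congr rfl fun x _ => ?_
            rw [Finset.sum_congr rfl (g := fun _ => (M x : ℂ)) (fun i hi => by rw [(Finset.mem_filter.1 hi).2]),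
              Finset.sum_const, nsmul_eq_mul, Nat.cast_mul]
    have hsum : ∑ x, M x = p - 2 := by
      have := Finset.card_eq_sum_card_fiberwise (s := (Finset.univ : Finset (Fin (p - 2)))) (t := Finset.univ)
        (f := r) (fun _ _ => Finset.mem_univ _)
      rw [Finset.card_univ, Fintype.card_fin] at this
      exact this.symm
    have hMM : ∑ x, M x * M x + M 0 = M 0 * M 0 + (p - 2) := by
      rw [← hsum, ← Finset.add_sum_erase _ _ (Finset.mem_univ (0 : ZMod p)),
        ← Finset.add_sum_erase _ M (Finset.mem_univ (0 : ZMod p))]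
      rw [Finset.sum_congr rfl (g := M) (fun x hx => by
        rcases Nat.le_one_iff_eq_zero_or_eq_one.1 (hle x (Finset.ne_of_mem_erase hx)) with h | h <;>
          simp only [M] at * <;> rw [h])]
      ring
    have hsq' : ∑ j ∈ Finset.range p, Complex.normSq ((ζ : G → ℂ) (u ^ j)) = (p : ℝ) * ((∑ x, M x * M x : ℕ) : ℝ) := by
      apply Complex.ofReal_injective
      push_cast
      push_cast at hsq
      exact hsq
    have himg : T = ((Finset.range p).erase 0).image (u ^ ·) := by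
      ext x
      simp only [hT, Finset.mem_filter, Finset.mem_univ, true_and, Finset.mem_image, Finset.mem_erase,
        Finset.mem_range]
      constructor
      · rintro ⟨hx, hx1⟩
        rw [← D.zpowers_eq, mem_zpowers_iff_mem_range_orderOf, Finset.mem_image] at hx
        obtain ⟨j, hj, hjx⟩ := hx
        rw [Finset.mem_range, D.ord] at hj
        exact ⟨j, ⟨fun h => hx1 (by rw [← hjx, h, pow_zero]), hj⟩, hjx⟩
      · rintro ⟨j, ⟨hj0, hj⟩, rfl⟩
        exact ⟨pow_mem D.mem j, pow_ne_one_of_lt_orderOf hj0 (by rw [D.ord]; exact hj)⟩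
    have hsum' := D.sum_normSq_le
    rw [← hT, himg, Finset.sum_image (fun i hi j hj h => pow_injOn_Iio_orderOf
      (by rw [Set.mem_Iio, D.ord]; exact Finset.mem_range.1 (Finset.mem_of_mem_erase hi))
      (by rw [Set.mem_Iio, D.ord]; exact Finset.mem_range.1 (Finset.mem_of_mem_erase hj)) h)] at hsum'
    rw [← Finset.add_sum_erase _ _ (Finset.mem_range.2 hp.out.pos), pow_zero, D.apply_one, Complex.normSq_natCast] at hsq'
    obtain ⟨m, hm⟩ : ∃ m, M 0 = m := ⟨_, rfl⟩
    obtain ⟨q, hq⟩ : ∃ q, ∑ x, M x * M x = q := ⟨_, rfl⟩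
    rw [hm] at hM0 hMM
    rw [hq] at hsq' hMM
    have hfin : (p : ℝ) * q ≤ ((p - 2 : ℕ) : ℝ) * ((p - 2 : ℕ) : ℝ) + ((Nat.card (expGroup u D.ord) * p : ℕ) : ℝ) := by
      rw [← hsq']
      linarith
    have hfin' : p * q ≤ (p - 2) * (p - 2) + Nat.card (expGroup u D.ord) * p := by exact_mod_cast hfin
    obtain ⟨s, hs⟩ : ∃ s, m = s + 2 := ⟨m - 2, by omega⟩
    subst hs
    obtain rfl : p = 2 * s + 7 := by omega
    rw [show Nat.card (expGroup u D.ord) = s + 3 by omega] at hfin'
    rw [show 2 * s + 7 - 2 = 2 * s + 5 by omega] at hMM hfin'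
    nlinarith

theorem mem_or_inverts {g : G} (hg : g ∈ Subgroup.normalizer ((P : Subgroup G) : Set G)) :
    g ∈ Subgroup.centralizer ({u} : Set G) ∨ g * u * g⁻¹ = u⁻¹ := by
  obtain ⟨φ, hr, hf, hk⟩ := D.exists_expHom
  set c : (ZMod p)ˣ := φ ⟨g, hg⟩ with hcdef
  have hsq : c ^ 2 = 1 := by
    rw [← D.exists_root.1]
    exact pow_card_eq_one _ (hr.le ⟨_, hcdef.symm⟩)
  have h1 : (c : ZMod p) ^ 2 = 1 ^ 2 := by
    rw [← Units.val_pow_eq_pow_val, hsq, Units.val_one, one_pow]
  rcases sq_eq_sq_iff_eq_or_eq_neg.1 h1 with h | h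
  · exact Or.inl ((hk _).1 (Units.ext h))
  · refine Or.inr ((hf ⟨g, hg⟩).trans (eq_inv_of_mul_eq_one_left ?_))
    rw [h, ← pow_succ, ← pow_val_eq D.ord, Nat.cast_add, ZMod.natCast_zmod_val, Nat.cast_one, neg_add_cancel,
      ZMod.val_zero, pow_zero]

theorem exists_inverting : ∃ g : G, g * u * g⁻¹ = u⁻¹ := by
  obtain ⟨φ, hr, hf, hk⟩ := D.exists_expHom
  haveI : Nontrivial (expGroup u D.ord) := Finite.one_lt_card_iff_nontrivial.1 (by rw [D.exists_root.1]; norm_num)
  obtain ⟨⟨c, hc⟩, hc1⟩ := exists_ne (1 : expGroup u D.ord)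
  obtain ⟨g, rfl⟩ := hr.ge hc
  exact ⟨g, (D.mem_or_inverts g.2).resolve_left fun h => hc1 (Subtype.ext ((hk g).2 h))⟩

end Data

end CfsgLib.Char.FeitDegree
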