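import Cfsg.Agent.Lib.Char.FeitDegree.CentralTwist
import Cfsg.Agent.Lib.Char.PowerTwist
import Cfsg.Agent.Lib.Perm.FewSylowTable

/-!
# The characters over the central character of `ζ`
-/

set_option autoImplicit false

namespace CfsgLib.Char.FeitDegree

open CfsgLib.CharAction Finset
open scoped Classical ComplexConjugate

variable {p : ℕ} [hp : Fact p.Prime]

/-- Half of a geometric sum. -/
theorem sum_pair {t : ℕ} (ht : 2 * t + 1 = p) {z : ℂ} (hz : z ^ p = 1) :
    ∑ k ∈ Finset.Icc 1 t, (z ^ k + (z ^ k)⁻¹) = if z = 1 then (2 * t : ℂ) else -1 := by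
  split_ifs with h
  · subst h
    simp only [one_pow, inv_one, Finset.sum_const, Nat.card_Icc, nsmul_eq_mul]
    push_cast [Nat.add_sub_cancel]
    ring
  · have hgeo : ∑ k ∈ Finset.range p, z ^ k = 0 := by
      have h1 := geom_sum_mul z p
      rw [hz, sub_self] at h1
      exact (mul_eq_zero.1 h1).resolve_right (sub_ne_zero.2 h)
    have hinv : ∀ k ∈ Finset.Icc 1 t, (z ^ k)⁻¹ = z ^ (p - k) := fun k hk => by
      refine (eq_inv_of_mul_eq_one_left ?_).symm
      rw [Finset.mem_Icc] at hk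
      rw [← pow_add, Nat.sub_add_cancel (by omega), hz]
    have hdisj : Disjoint (Finset.Icc 1 t) ((Finset.Icc 1 t).image (p - ·)) := by
      rw [Finset.disjoint_left]
      intro k hk hk'
      obtain ⟨l, hl, rfl⟩ := Finset.mem_image.1 hk'
      rw [Finset.mem_Icc] at hk hl
      omega
    have hset : (Finset.range p).erase 0 = Finset.Icc 1 t ∪ (Finset.Icc 1 t).image (p - ·) := by
      ext k
      simp only [Finset.mem_erase, Finset.mem_range, Finset.mem_union, Finset.mem_Icc, Finset.mem_image]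
      constructor
      · rintro ⟨h0, hk⟩
        by_cases hkt : k ≤ t
        · exact Or.inl ⟨by omega, hkt⟩
        · exact Or.inr ⟨p - k, ⟨by omega, by omega⟩, by omega⟩
      · rintro (⟨h1, h2⟩ | ⟨l, ⟨h1, h2⟩, rfl⟩) <;> omega
    rw [Finset.sum_add_distrib, Finset.sum_congr rfl hinv,
      ← Finset.sum_image (f := fun k => z ^ k) (g := fun k => p - k) (fun a ha b hb hab => by
        simp only [Finset.coe_Icc, Set.mem_Icc] at ha hb
        dsimp only at hab
        omega),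
      ← Finset.sum_union hdisj, ← hset]
    rw [← Finset.add_sum_erase _ _ (Finset.mem_range.2 hp.out.pos), pow_zero] at hgeo
    linear_combination hgeo

namespace Data

variable {G : Type*} [Group G] [Fintype G] {P : Sylow p G} {u : G} {ζ : Cfsg.IrrCharacter G}
variable (D : Data P u ζ)
include D

/-- The bound at an inverting involution, from the sum on the Sylow subgroup. -/
theorem exists_norm_le {a : G} (ha : a * u * a⁻¹ = u⁻¹) (χ : Cfsg.IrrCharacter G) {c : ℤ}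
    (hc : ∀ j : ℕ, ¬ p ∣ j → (χ : G → ℂ) (u ^ j) = c) :
    ∃ m : ℕ, (Cfsg.charDegree (χ : G → ℂ) : ℤ) + ((p : ℤ) - 1) * c = p * m ∧ ‖(χ : G → ℂ) a‖ ≤ m := by
  have hinv : ∀ x ∈ (P : Subgroup G), a * x * a⁻¹ = x⁻¹ := by
    intro x hx
    rw [← D.zpowers_eq] at hx
    obtain ⟨i, rfl⟩ := hx
    show a * u ^ i * a⁻¹ = (u ^ i)⁻¹
    rw [← conj_zpow, ha, inv_zpow]
  obtain ⟨m, hm⟩ := CfsgLib.Perm.CharAverage.exists_sum_eq (P : Subgroup G) (IsIrr.isCharacter χ.2)
  rw [D.card] at hm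
  have hodd : ¬ 2 ∣ Nat.card (P : Subgroup G) := by
    rw [D.card]
    intro h
    have := (Nat.prime_dvd_prime_iff_eq Nat.prime_two hp.out).1 h
    have := D.seven
    omega
  have hsum : ∑ x : (P : Subgroup G), (χ : G → ℂ) x =
      (((Cfsg.charDegree (χ : G → ℂ) : ℤ) + ((p : ℤ) - 1) * c : ℤ) : ℂ) := by
    rw [← Finset.add_sum_erase _ _ (Finset.mem_univ (1 : (P : Subgroup G))), OneMemClass.coe_one,
      Finset.sum_congr rfl (g := fun _ => (c : ℂ)) (fun x hx => by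
        have hx' : ((x : G)) ∈ Subgroup.zpowers u := D.zpowers_eq.ge x.2
        rw [mem_zpowers_iff_mem_range_orderOf, Finset.mem_image] at hx'
        obtain ⟨j, -, hj⟩ := hx'
        rw [← hj]
        refine hc j fun hd => Finset.ne_of_mem_erase hx (Subtype.ext ?_)
        rw [← hj]
        obtain ⟨k, rfl⟩ := hd
        rw [pow_mul, show u ^ p = 1 by rw [← D.ord]; exact pow_orderOf_eq_one u, one_pow, OneMemClass.coe_one]),
      Finset.sum_const, Finset.card_erase_of_mem (Finset.mem_univ _), Finset.card_univ,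
      ← Nat.card_eq_fintype_card, D.card, nsmul_eq_mul, ← CfsgLib.CharDegree.cast_irrDegree,
      Nat.cast_sub hp.out.one_le]
    push_cast
    ring
  refine ⟨m, ?_, ?_⟩
  · have := hsum.symm.trans hm
    exact_mod_cast this
  · have h := card_mul_norm_le (P : Subgroup G) hodd hinv χ
    rw [hm, D.card, ← Nat.cast_mul, Complex.natCast_re, Nat.cast_mul] at h
    exact le_of_mul_le_mul_left h (Nat.cast_pos.2 hp.out.pos)

variable [Fintype (Cfsg.IrrCharacter G)]

set_option maxHeartbeats 1000000 in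
/-- The class sum over the central character of `ζ`. -/
theorem exists_twisted (hperf : _root_.commutator G = ⊤) (hZ : Subgroup.center G ≠ ⊥) {a : G}
    (ha : a * a = 1) (hau : a * u * a⁻¹ = u⁻¹) :
    ∃ (j : ℕ) (c V : ℝ), 1 ≤ j ∧ |c| ≤ 1 ∧ |V| ≤ (j : ℝ) + 1 ∧
      ∑ χ : Cfsg.IrrCharacter G, (χ : G → ℂ) a * (χ : G → ℂ) a / (χ : G → ℂ) 1 * (χ : G → ℂ) u⁻¹ =
        (Nat.card (Subgroup.center G) : ℂ) *
          ((c * c / ((p : ℝ) - 2) + V * V / ((j : ℝ) * p + 1) - (c + V) * (c + V) / (((j : ℝ) + 1) * p - 1) : ℝ) : ℂ) := by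
  have hpp := hp.out
  have h7 := D.seven
  have hzodd := D.center_odd hperf
  obtain ⟨-, ω, hω, hval⟩ := D.exists_root
  have hω0 : ω ≠ 0 := hω.ne_zero hpp.ne_zero
  set Z := Subgroup.center G
  obtain ⟨μ, hμ⟩ := exists_centralHom ζ (Subgroup.center G) le_rfl
  have hμ1 : μ ≠ 1 := fun h => hZ ((Subgroup.eq_bot_iff_forall _).2 fun z hz => D.faith z (by
    have := hμ 1 ⟨z, hz⟩
    rw [one_mul, h, MonoidHom.one_apply, Units.val_one, one_mul] at this
    exact this))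
  set t := (p - 1) / 2 with htdef
  have ht : 2 * t + 1 = p := by
    rcases hpp.eq_two_or_odd with h | h
    · omega
    · omega
  set B := centBlock Z μ with hB
  -- the conjugates of `ζ`
  set M := (P : Subgroup G).index with hM
  have hGM : Nat.card G = p * M := by
    have h := (P : Subgroup G).card_mul_index
    rw [D.card] at h
    exact h.symm
  have hcop : p.Coprime M := hpp.coprime_iff_not_dvd.2 P.not_dvd_index
  have hZM : Nat.card Z ∣ M :=
    (Nat.Coprime.dvd_of_dvd_mul_left ((hpp.coprime_iff_not_dvd.2 D.not_dvd_center).symm)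
      (hGM ▸ Z.card_subgroup_dvd_card))
  have haM : orderOf a ∣ M := by
    refine Nat.Coprime.dvd_of_dvd_mul_left (Nat.Coprime.coprime_dvd_left (orderOf_dvd_of_pow_eq_one
      (show a ^ 2 = 1 by rw [pow_two, ha])) ?_) (hGM ▸ orderOf_dvd_natCard a)
    exact (Nat.coprime_primes Nat.prime_two hpp).2 (by omega)
  have htw : ∀ k : ℕ, ¬ p ∣ k → ∃ χ : Cfsg.IrrCharacter G, χ ∈ B ∧ (χ : G → ℂ) 1 = (ζ : G → ℂ) 1 ∧
      (χ : G → ℂ) a = (ζ : G → ℂ) a ∧
      ∀ j : ℕ, ¬ p ∣ j → (χ : G → ℂ) (u ^ j) = -(ω ^ (k * j) + (ω ^ (k * j))⁻¹) := by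
    intro k hk
    obtain ⟨m, hm1, hm2⟩ := Nat.chineseRemainder hcop k 1
    have hmM : ∀ g : G, g ^ M = 1 → g ^ m = g := fun g hg => by
      conv_rhs => rw [← pow_one g]
      rw [pow_eq_pow_iff_modEq]
      exact hm2.of_dvd (orderOf_dvd_of_pow_eq_one hg)
    have hmc : m.Coprime (Nat.card G) := by
      rw [hGM]
      refine Nat.Coprime.mul_right ((hpp.coprime_iff_not_dvd.2 fun h => hk ?_).symm) ?_
      · exact (hm1.dvd_iff dvd_rfl).1 h
      · rw [Nat.Coprime, hm2.gcd_eq, Nat.gcd_one_left]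
    refine ⟨⟨_, isIrrCharacter_pow ζ.2 hmc⟩, mem_centBlock.2 fun g z => ?_, ?_, ?_, fun j hj => ?_⟩
    · show (ζ : G → ℂ) ((g * z) ^ m) = (μ z : ℂ) * (ζ : G → ℂ) (g ^ m)
      rw [(show Commute g (z : G) from Subgroup.mem_center_iff.1 z.2 g).mul_pow,
        hmM (z : G) (orderOf_dvd_iff_pow_eq_one.1 ((orderOf_dvd_of_pow_eq_one (D.center_pow_eq_one z.2)).trans hZM)),
        hμ]
    · show (ζ : G → ℂ) ((1 : G) ^ m) = _
      rw [one_pow]
    · show (ζ : G → ℂ) (a ^ m) = _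
      rw [hmM a (orderOf_dvd_iff_pow_eq_one.1 haM)]
    · show (ζ : G → ℂ) ((u ^ j) ^ m) = _
      rw [← pow_mul, show u ^ (j * m) = u ^ (k * j) by
        rw [pow_eq_pow_iff_modEq, D.ord, mul_comm k j]
        exact hm1.mul_left j]
      exact hval (k * j) fun h => (hpp.dvd_mul.1 h).elim hk hj
  haveI : Nonempty (Cfsg.IrrCharacter G) := ⟨ζ⟩
  choose! tw htwB htw1 htwa htwu using htw
  have hkp : ∀ k ∈ Finset.Icc 1 t, ¬ p ∣ k := fun k hk h => by
    rw [Finset.mem_Icc] at hk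
    have := Nat.le_of_dvd (by omega) h
    omega
  have hu1 : ¬ p ∣ 1 := hpp.not_dvd_one
  have hinj : Set.InjOn tw ((Finset.Icc 1 t : Finset ℕ) : Set ℕ) := by
    intro k hk l hl h
    have hk' := hkp k hk
    have hl' := hkp l hl
    rw [Finset.coe_Icc, Set.mem_Icc] at hk hl
    have h1 := htwu k hk' 1 hu1
    rw [h, htwu l hl' 1 hu1, mul_one, mul_one, neg_inj] at h1
    have hk0 : ω ^ k ≠ 0 := pow_ne_zero _ hω0
    have hl0 : ω ^ l ≠ 0 := pow_ne_zero _ hω0
    have hmul : (ω ^ l - ω ^ k) * (ω ^ l * ω ^ k - 1) = 0 := by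
      field_simp at h1
      linear_combination h1
    rcases mul_eq_zero.1 hmul with h2 | h2
    · exact (hω.pow_inj (by omega) (by omega) (sub_eq_zero.1 h2)).symm
    · rw [sub_eq_zero, ← pow_add, hω.pow_eq_one_iff_dvd] at h2
      have := Nat.le_of_dvd (by omega) h2
      omega
  set F := (Finset.Icc 1 t).image tw with hFdef
  have hFB : F ⊆ B := fun χ hχ => by
    obtain ⟨k, hk, rfl⟩ := Finset.mem_image.1 hχ
    exact htwB k (hkp k hk)
  set O := B \ F with hO
  have hsplit : ∀ f : Cfsg.IrrCharacter G → ℂ, ∑ χ ∈ B, f χ = ∑ χ ∈ O, f χ + ∑ k ∈ Finset.Icc 1 t, f (tw k) := by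
    intro f
    rw [← Finset.sum_sdiff hFB, hFdef, Finset.sum_image hinj]
  have hpair : ∀ i : ℕ, ¬ p ∣ i → ∑ k ∈ Finset.Icc 1 t, (ω ^ (k * i) + (ω ^ (k * i))⁻¹) = -1 := by
    intro i hi
    have hne : ω ^ i ≠ 1 := fun h => hi ((hω.pow_eq_one_iff_dvd i).1 h)
    have h := sum_pair ht (z := ω ^ i) (by rw [← pow_mul, mul_comm, pow_mul, hω.pow_eq_one, one_pow])
    rw [if_neg hne] at h
    rw [← h]
    exact Finset.sum_congr rfl fun k _ => by rw [← pow_mul, mul_comm]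
  -- the others have inner products `2`
  have hO2 : ∀ i j : ℕ, ¬ p ∣ i → ¬ p ∣ j →
      ∑ χ ∈ O, (χ : G → ℂ) (u ^ i) * conj ((χ : G → ℂ) (u ^ j)) = 2 := by
    intro i j hi hj
    have h := D.sum_centBlock μ hi j
    rw [← hB, hsplit] at h
    have hconj : ∀ n : ℕ, conj (ω ^ n) = (ω ^ n)⁻¹ := fun n => by
      refine (Complex.inv_eq_conj ?_).symm
      rw [norm_pow, Complex.norm_eq_one_of_pow_eq_one hω.pow_eq_one hpp.ne_zero, one_pow]
    have hzi : ∀ n : ℕ, (ω ^ n) ^ p = 1 := fun n => by rw [← pow_mul, mul_comm, pow_mul, hω.pow_eq_one, one_pow]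
    have hFsum : ∑ k ∈ Finset.Icc 1 t, (tw k : G → ℂ) (u ^ i) * conj ((tw k : G → ℂ) (u ^ j)) =
        (if ω ^ i * ω ^ j = 1 then (2 * t : ℂ) else -1) + (if ω ^ i * (ω ^ j)⁻¹ = 1 then (2 * t : ℂ) else -1) := by
      rw [← sum_pair ht (z := ω ^ i * ω ^ j) (by rw [mul_pow, hzi, hzi, one_mul]),
        ← sum_pair ht (z := ω ^ i * (ω ^ j)⁻¹) (by rw [mul_pow, inv_pow, hzi, hzi, inv_one, one_mul]),
        ← Finset.sum_add_distrib]
      refine Finset.sum_congr rfl fun k hk => ?_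
      rw [htwu k (hkp k hk) i hi, htwu k (hkp k hk) j hj]
      simp only [map_neg, map_add, map_inv₀, hconj, inv_inv, mul_pow, mul_inv, inv_pow, ← pow_mul,
        mul_comm i k, mul_comm j k]
      ring
    rw [hFsum] at h
    have hplus : ω ^ i * ω ^ j = 1 ↔ (i : ZMod p) = -j := by
      rw [← pow_add, hω.pow_eq_one_iff_dvd, ← ZMod.natCast_eq_zero_iff, Nat.cast_add, add_eq_zero_iff_eq_neg]
    have hminus : ω ^ i * (ω ^ j)⁻¹ = 1 ↔ (i : ZMod p) = j := by
      rw [mul_inv_eq_one₀ (pow_ne_zero _ hω0), ZMod.natCast_eq_natCast_iff]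
      constructor
      · intro he
        have h1 := hω.pow_inj (Nat.mod_lt i hpp.pos) (Nat.mod_lt j hpp.pos)
          (by rw [← pow_mod_orderOf, ← pow_mod_orderOf (n := j), ← hω.eq_orderOf] at he; exact he)
        exact h1
      · intro he
        rw [← pow_mod_orderOf, ← pow_mod_orderOf (n := j), ← hω.eq_orderOf]
        exact congrArg (ω ^ ·) he
    have hexcl : ¬ ((i : ZMod p) = j ∧ (i : ZMod p) = -j) := by
      rintro ⟨h1, h2⟩
      apply hj
      rw [← ZMod.natCast_eq_zero_iff]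
      have h3 : (2 : ZMod p) * j = 0 := by linear_combination h2 - h1
      refine (mul_eq_zero.1 h3).resolve_left ?_
      rw [show (2 : ZMod p) = ((2 : ℕ) : ZMod p) by norm_num, ZMod.natCast_eq_zero_iff]
      exact fun h => absurd (Nat.le_of_dvd two_pos h) (by omega)
    simp only [hplus, hminus] at h
    have htc : (2 : ℂ) * t + 1 = p := by exact_mod_cast congrArg (fun n : ℕ => (n : ℂ)) ht
    by_cases h1 : (i : ZMod p) = j
    · rw [if_pos (Or.inl h1), if_neg (fun h2 => hexcl ⟨h1, h2⟩), if_pos h1] at h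
      linear_combination h - htc
    · by_cases h2 : (i : ZMod p) = -j
      · rw [if_pos (Or.inr h2), if_pos h2, if_neg h1] at h
        linear_combination h - htc
      · rw [if_neg (not_or.2 ⟨h1, h2⟩), if_neg h2, if_neg h1] at h
        linear_combination h
  -- they are constant on the Sylow subgroup, with integral values
  have hconst : ∀ χ ∈ O, ∀ i : ℕ, ¬ p ∣ i → (χ : G → ℂ) (u ^ i) = (χ : G → ℂ) u := by
    intro χ hχ i hi
    have h11 := hO2 1 1 hu1 hu1
    have h1i := hO2 1 i hu1 hi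
    have hi1 := hO2 i 1 hi hu1
    have hii := hO2 i i hi hi
    simp only [pow_one] at h11 h1i hi1
    have h0 : ∑ ψ ∈ O, Complex.normSq ((ψ : G → ℂ) (u ^ i) - (ψ : G → ℂ) u) = 0 := by
      apply Complex.ofReal_injective
      push_cast
      simp only [← Complex.mul_conj, map_sub, sub_mul, mul_sub, Finset.sum_sub_distrib]
      linear_combination hii - hi1 - h1i + h11
    have := (Finset.sum_eq_zero_iff_of_nonneg fun ψ _ => Complex.normSq_nonneg _).1 h0 χ hχ
    exact sub_eq_zero.1 (Complex.normSq_eq_zero.1 this)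
  have hintv : ∀ χ ∈ O, ∃ c : ℤ, (χ : G → ℂ) u = c := by
    intro χ hχ
    obtain ⟨m, hm⟩ := CfsgLib.Perm.CharAverage.exists_sum_eq (P : Subgroup G) (IsIrr.isCharacter χ.2)
    rw [D.card] at hm
    have hsum : ∑ x : (P : Subgroup G), (χ : G → ℂ) x =
        (Cfsg.charDegree (χ : G → ℂ) : ℂ) + ((p - 1 : ℕ) : ℂ) * (χ : G → ℂ) u := by
      rw [← Finset.add_sum_erase _ _ (Finset.mem_univ (1 : (P : Subgroup G))), OneMemClass.coe_one,
        Finset.sum_congr rfl (g := fun _ => (χ : G → ℂ) u) (fun x hx => by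
          have hx' : ((x : G)) ∈ Subgroup.zpowers u := D.zpowers_eq.ge x.2
          rw [mem_zpowers_iff_mem_range_orderOf, Finset.mem_image] at hx'
          obtain ⟨j, -, hj⟩ := hx'
          rw [← hj]
          refine hconst χ hχ j fun hd => Finset.ne_of_mem_erase hx (Subtype.ext ?_)
          rw [← hj]
          obtain ⟨k, rfl⟩ := hd
          rw [pow_mul, show u ^ p = 1 by rw [← D.ord]; exact pow_orderOf_eq_one u, one_pow, OneMemClass.coe_one]),
        Finset.sum_const, Finset.card_erase_of_mem (Finset.mem_univ _), Finset.card_univ,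
        ← Nat.card_eq_fintype_card, D.card, nsmul_eq_mul, ← CfsgLib.CharDegree.cast_irrDegree]
    have hN : ((p - 1 : ℕ) : ℂ) * (χ : G → ℂ) u = (((p * m : ℕ) : ℤ) - Cfsg.charDegree (χ : G → ℂ) : ℤ) := by
      push_cast
      linear_combination hm - hsum
    obtain ⟨k, hk⟩ := CongMod.dvd_sub_of_intCast (p := p - 1) (by omega)
      (a := ((p * m : ℕ) : ℤ) - Cfsg.charDegree (χ : G → ℂ)) (b := 0)
      ⟨(χ : G → ℂ) u, IsChar.isIntegral (IsIrr.isCharacter χ.2) u, by rw [← hN]; simp⟩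
    refine ⟨k, mul_left_cancel₀ (Nat.cast_ne_zero.2 (show p - 1 ≠ 0 by omega) : ((p - 1 : ℕ) : ℂ) ≠ 0) ?_⟩
    rw [hN]
    rw [sub_zero] at hk
    rw [hk]
    push_cast
    ring
  choose! cv hcv using hintv
  have hOsq : ∑ χ ∈ O, cv χ * cv χ = 2 := by
    have h := hO2 1 1 hu1 hu1
    simp only [pow_one] at h
    rw [Finset.sum_congr rfl (g := fun χ => ((cv χ * cv χ : ℤ) : ℂ)) (fun χ hχ => by
      rw [hcv χ hχ, map_intCast]; push_cast; ring), ← Int.cast_sum] at h
    exact_mod_cast h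
  obtain ⟨χ₁, χ₂, hne, h12, hrest⟩ : ∃ χ₁ χ₂, χ₁ ≠ χ₂ ∧
      O.filter (fun χ => cv χ ≠ 0) = {χ₁, χ₂} ∧ ∀ χ ∈ ({χ₁, χ₂} : Finset _), cv χ = 1 ∨ cv χ = -1 := by
    have hS : ∑ χ ∈ O.filter (fun χ => cv χ ≠ 0), cv χ * cv χ = 2 := by
      rw [← hOsq]
      exact Finset.sum_filter_of_ne fun χ _ h h0 => h (by rw [h0, mul_zero])
    have hone : ∀ χ ∈ O.filter (fun χ => cv χ ≠ 0), 1 ≤ cv χ * cv χ := fun χ hχ => by
      have h := (Finset.mem_filter.1 hχ).2
      rcases lt_or_gt_of_ne h with h | h <;> nlinarith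
    have hcard := Finset.card_nsmul_le_sum _ _ 1 hone
    rw [hS, nsmul_eq_mul, mul_one] at hcard
    rcases (show (O.filter fun χ => cv χ ≠ 0).card = 0 ∨ (O.filter fun χ => cv χ ≠ 0).card = 1 ∨
        (O.filter fun χ => cv χ ≠ 0).card = 2 by omega) with h | h | h
    · rw [Finset.card_eq_zero.1 h, Finset.sum_empty] at hS
      omega
    · obtain ⟨χ, hχ⟩ := Finset.card_eq_one.1 h
      rw [hχ, Finset.sum_singleton] at hS
      exfalso
      rcases (show cv χ ≤ -2 ∨ cv χ = -1 ∨ cv χ = 0 ∨ cv χ = 1 ∨ 2 ≤ cv χ by omega) with h | h | h | h | h <;>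
        first | nlinarith | (rw [h] at hS; norm_num at hS)
    · obtain ⟨χ₁, χ₂, hne, he⟩ := Finset.card_eq_two.1 h
      refine ⟨χ₁, χ₂, hne, he, ?_⟩
      rw [he, Finset.sum_pair hne] at hS
      have h1 := hone χ₁ (he ▸ Finset.mem_insert_self _ _)
      have h2 := hone χ₂ (he ▸ Finset.mem_insert_of_mem (Finset.mem_singleton_self _))
      intro χ hχ
      rw [Finset.mem_insert, Finset.mem_singleton] at hχ
      rcases hχ with rfl | rfl
      · exact mul_self_eq_one_iff.1 (by omega)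
      · exact mul_self_eq_one_iff.1 (by omega)
  have hO' : ∀ (f : Cfsg.IrrCharacter G → ℂ), ∑ χ ∈ O, f χ * (cv χ : ℂ) =
      f χ₁ * (cv χ₁ : ℂ) + f χ₂ * (cv χ₂ : ℂ) := by
    intro f
    rw [← Finset.sum_filter_of_ne (p := fun χ => cv χ ≠ 0) (fun χ _ h h0 => h (by rw [h0]; simp)), h12,
      Finset.sum_pair hne]
  -- degrees
  set c : ℝ := ((ζ : G → ℂ) a).re with hc
  have hζa : (ζ : G → ℂ) a = (c : ℂ) := apply_involution_real ha ζ
  have hrel : ∀ (f : Cfsg.IrrCharacter G → ℂ) (v : ℂ), (∀ k ∈ Finset.Icc 1 t, f (tw k) = v) →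
      ∑ χ ∈ B, f χ * conj ((χ : G → ℂ) u) = f χ₁ * (cv χ₁ : ℂ) + f χ₂ * (cv χ₂ : ℂ) + v := by
    intro f v hv
    rw [hsplit, ← hO' f]
    congr 1
    · exact Finset.sum_congr rfl fun χ hχ => by rw [hcv χ hχ, map_intCast]
    · have hconj : ∀ n : ℕ, conj (ω ^ n) = (ω ^ n)⁻¹ := fun n => by
        refine (Complex.inv_eq_conj ?_).symm
        rw [norm_pow, Complex.norm_eq_one_of_pow_eq_one hω.pow_eq_one hpp.ne_zero, one_pow]
      have hp1 := hpair 1 hu1
      rw [Finset.sum_congr rfl (g := fun k => -v * (ω ^ (k * 1) + (ω ^ (k * 1))⁻¹)) (fun k hk => by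
        have h := htwu k (hkp k hk) 1 hu1
        rw [pow_one] at h
        rw [h, hv k hk, map_neg, map_add, map_inv₀, hconj, inv_inv]
        ring), ← Finset.mul_sum, hp1]
      ring
  have hmem : ∀ χ ∈ ({χ₁, χ₂} : Finset _), χ ∈ O := fun χ hχ => by
    rw [← h12] at hχ
    exact (Finset.mem_filter.1 hχ).1
  have h1O := hmem χ₁ (Finset.mem_insert_self _ _)
  have h2O := hmem χ₂ (Finset.mem_insert_of_mem (Finset.mem_singleton_self _))
  have hbound : ∀ χ ∈ O, ∃ m : ℕ, (Cfsg.charDegree (χ : G → ℂ) : ℤ) + ((p : ℤ) - 1) * cv χ = p * m ∧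
      ‖(χ : G → ℂ) a‖ ≤ m := fun χ hχ => by
    refine D.exists_norm_le hau χ fun j hj => ?_
    rw [hconst χ hχ j hj, hcv χ hχ]
  obtain ⟨m₁, hm₁, hb₁⟩ := hbound χ₁ h1O
  obtain ⟨m₂, hm₂, hb₂⟩ := hbound χ₂ h2O
  have hcbound : |c| ≤ 1 := by
    obtain ⟨m, hm⟩ := CfsgLib.Perm.CharAverage.exists_sum_eq (P : Subgroup G) (IsIrr.isCharacter ζ.2)
    have hsum : ∑ x : (P : Subgroup G), (ζ : G → ℂ) x = (p : ℂ) := by
      have e : ∑ x : (P : Subgroup G), (ζ : G → ℂ) x = ∑ j : Fin p, (ζ : G → ℂ) (u ^ (j : ℕ)) := by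
        refine (Fintype.sum_equiv (((finCongr D.ord.symm).trans (finEquivZPowers (isOfFinOrder_of_finite u))).trans
          (Equiv.subtypeEquivRight fun x => by rw [D.zpowers_eq])) _ _ fun j => ?_).symm
        simp only [Equiv.trans_apply, finEquivZPowers_apply, finCongr_apply, Fin.val_cast,
          Equiv.subtypeEquivRight_apply_coe]
      rw [e, Fin.sum_univ_eq_sum_range (fun j => (ζ : G → ℂ) (u ^ j)),
        ← Finset.add_sum_erase _ _ (Finset.mem_range.2 hpp.pos), pow_zero, D.apply_one,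
        Finset.sum_congr rfl (g := fun j => -(ω ^ j + (ω ^ j)⁻¹)) (fun j hj => hval j fun h => by
          rw [Finset.mem_erase, Finset.mem_range] at hj
          exact hj.1 (Nat.eq_zero_of_dvd_of_lt h hj.2)),
        Finset.sum_neg_distrib, Finset.sum_add_distrib]
      have hg : ∀ {z : ℂ}, IsPrimitiveRoot z p → ∑ j ∈ (Finset.range p).erase 0, z ^ j = -1 := fun {z} hz => by
        have h := hz.geom_sum_eq_zero hpp.one_lt
        rw [← Finset.add_sum_erase _ _ (Finset.mem_range.2 hpp.pos), pow_zero] at h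
        linear_combination h
      have hg2 := hg hω.inv
      simp only [inv_pow] at hg2
      rw [hg hω, hg2, Nat.cast_sub hpp.two_le]
      push_cast
      ring
    have hinv : ∀ x ∈ (P : Subgroup G), a * x * a⁻¹ = x⁻¹ := fun x hx => by
      rw [← D.zpowers_eq] at hx
      obtain ⟨i, rfl⟩ := hx
      show a * u ^ i * a⁻¹ = (u ^ i)⁻¹
      rw [← conj_zpow, hau, inv_zpow]
    have h := card_mul_norm_le (P : Subgroup G) (by
      rw [D.card]; intro h; have := (Nat.prime_dvd_prime_iff_eq Nat.prime_two hpp).1 h; omega) hinv ζ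
    rw [hsum, D.card, Complex.natCast_re, hζa, Complex.norm_real, Real.norm_eq_abs] at h
    nlinarith [show (0 : ℝ) < p from Nat.cast_pos.2 hpp.pos]
  set d₁ := Cfsg.charDegree (χ₁ : G → ℂ)
  set d₂ := Cfsg.charDegree (χ₂ : G → ℂ)
  have hdeg : (d₁ : ℤ) * cv χ₁ + (d₂ : ℤ) * cv χ₂ + ((p - 2 : ℕ) : ℤ) = 0 := by
    have h1 := hrel (fun χ => (χ : G → ℂ) 1) ((ζ : G → ℂ) 1) fun k hk => htw1 k (hkp k hk)
    have h0 := D.sum_centBlock_eq_zero μ (g := 1) (m := 1) (one_pow 1) hu1 hu1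
    simp only [pow_one] at h0
    rw [← hB, h1, D.apply_one, ← CfsgLib.CharDegree.cast_irrDegree, ← CfsgLib.CharDegree.cast_irrDegree] at h0
    exact_mod_cast h0
  have hsum0 : (cv χ₁ : ℂ) * (χ₁ : G → ℂ) a + (cv χ₂ : ℂ) * (χ₂ : G → ℂ) a + (c : ℂ) = 0 := by
    have h1 := hrel (fun χ => (χ : G → ℂ) a) (c : ℂ) fun k hk => (htwa k (hkp k hk)).trans hζa
    have h0 := D.sum_centBlock_eq_zero μ (g := a) (m := 2) (by rw [pow_two, ha])
      (fun h => absurd (Nat.le_of_dvd two_pos h) (by omega)) hu1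
    simp only [pow_one] at h0
    rw [← hB, h1] at h0
    linear_combination h0
  have hclass := D.card_mul_sum_class hzodd ha μ
  have hS := hrel (fun χ => (χ : G → ℂ) a * (χ : G → ℂ) a / (χ : G → ℂ) 1)
    ((c : ℂ) * c / ((p - 2 : ℕ) : ℂ)) fun k hk => by
      show (tw k : G → ℂ) a * (tw k : G → ℂ) a / (tw k : G → ℂ) 1 = _
      rw [htwa k (hkp k hk), htw1 k (hkp k hk), hζa, D.apply_one]
  rw [← hB] at hclass
  simp only [IsIrr.map_inv (Subtype.property _)] at hclass ⊢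
  rw [← hclass, hS]
  -- arrange the two
  obtain ⟨q₁, hq₁⟩ : ∃ q : ℤ, (d₁ : ℤ) * cv χ₁ = p * q + 1 := by
    rcases hrest χ₁ (Finset.mem_insert_self _ _) with h | h <;> rw [h] at hm₁ ⊢
    · exact ⟨(m₁ : ℤ) - 1, by linear_combination hm₁⟩
    · exact ⟨-(m₁ : ℤ) - 1, by linear_combination -hm₁⟩
  obtain ⟨q₂, hq₂⟩ : ∃ q : ℤ, (d₂ : ℤ) * cv χ₂ = p * q + 1 := by
    rcases hrest χ₂ (Finset.mem_insert_of_mem (Finset.mem_singleton_self _)) with h | h <;> rw [h] at hm₂ ⊢
    · exact ⟨(m₂ : ℤ) - 1, by linear_combination hm₂⟩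
    · exact ⟨-(m₂ : ℤ) - 1, by linear_combination -hm₂⟩
  have hqq : q₁ + q₂ = -1 := by
    rw [hq₁, hq₂, Nat.cast_sub hpp.two_le] at hdeg
    push_cast at hdeg
    have : (p : ℤ) * (q₁ + q₂ + 1) = 0 := by linear_combination hdeg
    have := (mul_eq_zero.1 this).resolve_left (by exact_mod_cast hpp.ne_zero)
    omega
  suffices key : ∀ (χ χ' : Cfsg.IrrCharacter G), χ ∈ O → (q : ℤ) → 0 ≤ q →
      (Cfsg.charDegree (χ : G → ℂ) : ℤ) * cv χ = p * q + 1 →
      (Cfsg.charDegree (χ' : G → ℂ) : ℤ) * cv χ' = p * (-1 - q) + 1 →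
      (cv χ = 1 ∨ cv χ = -1) → (cv χ' = 1 ∨ cv χ' = -1) →
      (cv χ : ℂ) * (χ : G → ℂ) a + (cv χ' : ℂ) * (χ' : G → ℂ) a + (c : ℂ) = 0 →
      ∃ (j : ℕ) (c' V : ℝ), 1 ≤ j ∧ |c'| ≤ 1 ∧ |V| ≤ (j : ℝ) + 1 ∧
        (χ : G → ℂ) a * (χ : G → ℂ) a / (χ : G → ℂ) 1 * (cv χ : ℂ) +
            (χ' : G → ℂ) a * (χ' : G → ℂ) a / (χ' : G → ℂ) 1 * (cv χ' : ℂ) + (c : ℂ) * c / ((p - 2 : ℕ) : ℂ) =
          ((c' * c' / ((p : ℝ) - 2) + V * V / ((j : ℝ) * p + 1) -
            (c' + V) * (c' + V) / (((j : ℝ) + 1) * p - 1) : ℝ) : ℂ) by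
    rcases le_or_gt 0 q₁ with h | h
    · obtain ⟨j, c', V, h1, h2, h3, h4⟩ := key χ₁ χ₂ h1O q₁ h hq₁ (by rw [hq₂]; congr 2; omega)
        (hrest _ (Finset.mem_insert_self _ _)) (hrest _ (Finset.mem_insert_of_mem (Finset.mem_singleton_self _)))
        hsum0
      exact ⟨j, c', V, h1, h2, h3, by rw [h4]⟩
    · obtain ⟨j, c', V, h1, h2, h3, h4⟩ := key χ₂ χ₁ h2O q₂ (by omega) hq₂ (by rw [hq₁]; congr 2; omega)
        (hrest _ (Finset.mem_insert_of_mem (Finset.mem_singleton_self _))) (hrest _ (Finset.mem_insert_self _ _))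
        (by linear_combination hsum0)
      refine ⟨j, c', V, h1, h2, h3, ?_⟩
      rw [← h4]
      ring
  intro χ χ' hχO q hq0 hX hY hs hs' h0
  have hd := CfsgLib.CharDegree.charDegree_pos χ
  have hd' := CfsgLib.CharDegree.charDegree_pos χ'
  have hpq : (0 : ℤ) ≤ (p : ℤ) * q := mul_nonneg (Int.natCast_nonneg _) hq0
  have hs1 : cv χ = 1 := hs.resolve_right fun h => by rw [h] at hX; omega
  have hs2 : cv χ' = -1 := hs'.resolve_left fun h => by
    rw [h] at hY
    have : (p : ℤ) * (-1 - q) = -p - p * q := by ring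
    omega
  rw [hs1, mul_one] at hX
  rw [hs2] at hY
  obtain ⟨j, rfl⟩ := Int.eq_ofNat_of_zero_le hq0
  have hj : 1 ≤ j := by
    by_contra h
    have hj0 : j = 0 := by omega
    subst hj0
    have h1 : Cfsg.charDegree (χ : G → ℂ) = 1 := by push_cast at hX; omega
    have hT := CfsgLib.Perm.FewSylow.eq_trivChar hperf χ h1
    refine hμ1 (MonoidHom.ext fun z => Units.ext ?_)
    have hχB := (Finset.mem_sdiff.1 hχO).1
    have h2 := mem_centBlock.1 hχB 1 z
    rw [hT, trivChar_apply, trivChar_apply, mul_one] at h2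
    exact h2.symm
  set V : ℝ := ((χ : G → ℂ) a).re
  have hV : (χ : G → ℂ) a = (V : ℂ) := apply_involution_real ha χ
  obtain ⟨m, hm, hb⟩ := hbound χ hχO
  have hmj : m = j + 1 := by
    rw [hs1] at hm
    have h1 : (p : ℤ) * ((m : ℤ) - (j + 1)) = 0 := by linear_combination hX - hm
    have := (mul_eq_zero.1 h1).resolve_left (by exact_mod_cast hpp.ne_zero)
    omega
  refine ⟨j, c, V, hj, hcbound, ?_, ?_⟩
  · rw [hV, Complex.norm_real, Real.norm_eq_abs, hmj] at hb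
    exact_mod_cast hb
  · rw [hs1, hs2] at h0
    push_cast at h0
    have hW : (χ' : G → ℂ) a = (c : ℂ) + (V : ℂ) := by rw [← hV]; linear_combination -h0
    have hd1 : (χ : G → ℂ) 1 = (j : ℂ) * p + 1 := by
      rw [← CfsgLib.CharDegree.cast_irrDegree]
      have : ((Cfsg.charDegree (χ : G → ℂ) : ℤ) : ℂ) = (((p : ℤ) * j + 1 : ℤ) : ℂ) := by rw [hX]
      push_cast at this
      linear_combination this
    have hd2 : (χ' : G → ℂ) 1 = ((j : ℂ) + 1) * p - 1 := by
      rw [← CfsgLib.CharDegree.cast_irrDegree]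
      have : (((Cfsg.charDegree (χ' : G → ℂ) : ℤ) * -1 : ℤ) : ℂ) = (((p : ℤ) * (-1 - j) + 1 : ℤ) : ℂ) := by rw [hY]
      push_cast at this
      linear_combination -this
    rw [hV, hW, hd1, hd2, hs1, hs2, Nat.cast_sub hpp.two_le]
    push_cast
    ring

end Data

end CfsgLib.Char.FeitDegree
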